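import Cfsg.Agent.Lib.Comp.SFT.World

/-!
The solvable signalizer functor theorem.
-/

set_option autoImplicit false
set_option linter.style.haveILetI false
set_option linter.unusedSectionVars false

universe u

namespace CfsgLib.Comp.SFT

open Subgroup

/-- A solvable subgroup of order prime to `p` contains every `θ a`. -/
def HasCont {G : Type u} [Group G] (p : ℕ) (A : Subgroup G) (θ : G → Subgroup G) : Prop :=
  ∃ X : Subgroup G, Group.IsSolvable X ∧ ¬ p ∣ Nat.card X ∧ ∀ a ∈ A, a ≠ 1 → θ a ≤ X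

section

variable {G : Type u} [Group G] [Finite G] {p : ℕ} [hp : Fact p.Prime]

theorem hyperplanes_meet {A : Subgroup G} (hA3 : p ^ 3 ≤ Nat.card A) {H H' : Subgroup G}
    (hH : H ≤ A) (hH2 : H.relIndex A = p) (hH'2 : H'.relIndex A = p) : H ⊓ H' ≠ ⊥ := by
  intro e
  have h1 := relIndex_inf_le (L := A) (H := H) (K := H')
  rw [e, relIndex_bot_left, hH2, hH'2] at h1
  have h2 : p * p < p ^ 3 := by
    rw [← pow_two]; exact Nat.pow_lt_pow_right hp.out.one_lt (by norm_num)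
  omega

/-- A containing group gives completeness. -/
theorem complete_of_cont {A : Subgroup G} (hA : Cfsg.IsElementaryAbelian p A)
    (hA3 : p ^ 3 ≤ Nat.card A) {θ : G → Subgroup G} (hθ : Cfsg.IsSignalizerFunctor p A θ)
    (hc : HasCont p A θ) {a : G} (ha : a ∈ A) (ha1 : a ≠ 1) :
    (⨆ b : {a : G // a ∈ A ∧ a ≠ 1}, θ b) ⊓ centralizer ({a} : Set G) = θ a := by
  obtain ⟨X, hXs, hXp, hX⟩ := hc
  have hle : (⨆ b : {a : G // a ∈ A ∧ a ≠ 1}, θ b) ≤ X := iSup_le fun b => hX b b.2.1 b.2.2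
  have hne : A ≠ ⊥ := fun e => by
    rw [e, card_bot] at hA3
    exact absurd hA3 (not_le.2 (Nat.one_lt_pow (by norm_num) hp.out.one_lt))
  have h1 := iSup_inf_centralizer_eq hA hne
    (fun i : {a : G // a ∈ A ∧ a ≠ 1} => zpowers (i : G)) (fun i => zpowers_le.2 i.2.1)
    (fun H H' hH hH2 hH' hH'2 => by
      obtain ⟨c, hc, hc1⟩ := exists_mem_ne_one (hyperplanes_meet hA3 hH hH2 hH'2)
      exact ⟨⟨c, hH hc.1, hc1⟩, zpowers_le.2 hc⟩)
    (fun i => θ i) (fun i => by rw [centralizer_zpowers]; exact hθ.1 i i.2.1 i.2.2)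
    (fun i => le_normalizer_of_conj_mem (hθ.2.2.1 i i.2.1 i.2.2))
    (fun i j => by rw [centralizer_zpowers]; exact hθ.2.2.2 i i.2.1 i.2.2 j j.2.1 j.2.2)
    (CfsgLib.Coprime.isSolvable_of_le hXs hle) (fun hd => hXp (hd.trans (card_dvd_of_le hle)))
    ⟨a, ha, ha1⟩
  rwa [centralizer_zpowers] at h1

theorem exists_subgroup_card_cube {A : Subgroup G} (hA : Cfsg.IsElementaryAbelian p A)
    (hA3 : p ^ 3 ≤ Nat.card A) : ∃ A₀ : Subgroup G, A₀ ≤ A ∧ Nat.card A₀ = p ^ 3 := by
  obtain ⟨n, hn⟩ := IsPGroup.iff_card.1 (isPGroup_of_elemAb hA)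
  have h3n : 3 ≤ n := by
    by_contra hc
    rw [hn] at hA3
    exact absurd hA3 (not_le.2 (Nat.pow_lt_pow_right hp.out.one_lt (by omega)))
  obtain ⟨H, hH⟩ := Sylow.exists_subgroup_card_pow_prime (G := A) p (hn ▸ pow_dvd_pow p h3n)
  exact ⟨H.map A.subtype, map_subtype_le H,
    by rw [card_map_of_injective A.subtype_injective, hH]⟩

/-- A minimal counterexample does not exist, so some subgroup contains every `θ a`. -/
theorem step {A : Subgroup G}
    (hA : Cfsg.IsElementaryAbelian p A) (hA3 : Nat.card A = p ^ 3) {θ : G → Subgroup G}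
    (hθ : Cfsg.IsSolvableSignalizerFunctor p A θ)
    (hG : ∀ {H : Type u} [Group H] [Finite H], Nat.card H < Nat.card G →
      ∀ (B : Subgroup H), Cfsg.IsElementaryAbelian p B → Nat.card B = p ^ 3 →
        ∀ φ : H → Subgroup H, Cfsg.IsSolvableSignalizerFunctor p B φ → HasCont p B φ)
    (hsmaller : ∀ φ : G → Subgroup G, Cfsg.IsSolvableSignalizerFunctor p A φ →
      (∀ a ∈ A, a ≠ 1 → φ a ≤ θ a) → (∃ a ∈ A, a ≠ 1 ∧ φ a ≠ θ a) → HasCont p A φ) :
    HasCont p A θ := by
  classical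
  by_contra hnot
  have hAne : A ≠ ⊥ := fun e => by
    rw [e, card_bot] at hA3
    exact (Nat.one_lt_pow (by norm_num) hp.out.one_lt).ne hA3
  have hnl : ∀ Y ∈ Cfsg.signalizerFamily p A θ, Y ≠ ⊥ → ∃ N ∈ Cfsg.signalizerFamily p A θ,
      N ≤ normalizer (Y : Set G) ∧
        ∀ X ∈ Cfsg.signalizerFamily p A θ, X ≤ normalizer (Y : Set G) → X ≤ N := by
    intro Y hY hY0
    have hAY : A ≤ normalizer (Y : Set G) := le_normalizer_of_conj_mem hY.2.2.1
    by_cases hN : normalizer (Y : Set G) = ⊤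
    · haveI : Y.Normal := normalizer_eq_top_iff.1 hN
      refine absurd ?_ hnot
      set π := QuotientGroup.mk' Y
      have hinj : ∀ a ∈ A, ∀ b ∈ A, π a = π b → a = b := by
        intro a ha b hb he
        have hd : A ⊓ Y = ⊥ := CfsgLib.Coprime.inf_eq_bot_of_coprime (coprime_card_elemAb hA hY.2.1)
        have hm : a⁻¹ * b ∈ A ⊓ Y := mem_inf.2 ⟨mul_mem (inv_mem ha) hb, QuotientGroup.eq.1 he⟩
        rw [hd, mem_bot] at hm
        exact inv_mul_eq_one.1 hm
      have hone : ∀ a ∈ A, a ≠ 1 → π a ≠ 1 := fun a ha ha1 he =>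
        ha1 (hinj a ha 1 (one_mem A) (by rw [he, map_one]))
      let φ : G ⧸ Y → Subgroup (G ⧸ Y) := fun q =>
        if hq : ∃ a ∈ A, π a = q then (θ hq.choose).map π else ⊥
      have hφ : ∀ a ∈ A, φ (π a) = (θ a).map π := by
        intro a ha
        have hq : ∃ b ∈ A, π b = π a := ⟨a, ha, rfl⟩
        simp only [φ, dif_pos hq]
        rw [hinj _ hq.choose_spec.1 a ha hq.choose_spec.2]
      have hAb : Cfsg.IsElementaryAbelian p (A.map π) := by
        refine ⟨⟨⟨?_⟩⟩, ?_⟩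
        · rintro ⟨_, a, ha, rfl⟩ ⟨_, b, hb, rfl⟩
          refine Subtype.ext ?_
          show π a * π b = π b * π a
          rw [← map_mul, ← map_mul]
          exact congrArg π (congrArg Subtype.val (hA.1.is_comm.comm ⟨a, ha⟩ ⟨b, hb⟩))
        · rintro _ ⟨a, ha, rfl⟩
          rw [← map_pow, show a ^ p = 1 by simpa using hA.2 a ha, map_one]
      have hcard : Nat.card (A.map π) = p ^ 3 := by
        rw [← hA3]
        refine (Nat.card_congr (Equiv.ofBijective
          (fun a : A => (⟨π a, mem_map_of_mem π a.2⟩ : A.map π)) ⟨?_, ?_⟩)).symm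
        · intro a b he
          exact Subtype.ext (hinj a a.2 b b.2 (congrArg Subtype.val he))
        · rintro ⟨_, a, ha, rfl⟩
          exact ⟨⟨a, ha⟩, rfl⟩
      have hφf : Cfsg.IsSolvableSignalizerFunctor p (A.map π) φ := by
        refine ⟨⟨?_, ?_, ?_, ?_⟩, ?_⟩
        · rintro _ ⟨a, ha, rfl⟩ h1
          rw [hφ a ha]
          rintro _ ⟨x, hx, rfl⟩
          refine mem_centralizer_singleton_iff.2 ?_
          rw [← map_mul, ← map_mul]
          exact congrArg π (mem_centralizer_singleton_iff.1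
            (hθ.1.1 a ha (fun e => h1 (by rw [e, map_one])) hx))
        · rintro _ ⟨a, ha, rfl⟩ h1 hd
          rw [hφ a ha] at hd
          exact hθ.1.2.1 a ha (fun e => h1 (by rw [e, map_one])) (hd.trans (card_map_dvd _ _))
        · rintro _ ⟨a, ha, rfl⟩ h1 _ ⟨b, hb, rfl⟩ x hx
          rw [hφ a ha] at hx ⊢
          obtain ⟨y, hy, rfl⟩ := hx
          exact ⟨b * y * b⁻¹, hθ.1.2.2.1 a ha (fun e => h1 (by rw [e, map_one])) b hb y hy, by simp⟩
        · rintro _ ⟨a, ha, rfl⟩ h1 _ ⟨b, hb, rfl⟩ h2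
          have ha1 : a ≠ 1 := fun e => h1 (by rw [e, map_one])
          have hb1 : b ≠ 1 := fun e => h2 (by rw [e, map_one])
          have hn : zpowers b ≤ normalizer (θ a : Set G) :=
            zpowers_le.2 (le_normalizer_of_conj_mem (hθ.1.2.2.1 a ha ha1) hb)
          have hcop : (Nat.card (zpowers b)).Coprime (Nat.card (θ a)) :=
            (coprime_card_elemAb hA (hθ.1.2.1 a ha ha1)).coprime_dvd_left
              (card_dvd_of_le (zpowers_le.2 hb))
          have h3 := CfsgLib.Coprime.map_inf_centralizer π hn hcop (Or.inr (hθ.2 a ha ha1))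
          rw [hφ a ha, hφ b hb, ← centralizer_zpowers (π b), ← MonoidHom.map_zpowers π b, ← h3,
            centralizer_zpowers]
          exact map_mono (hθ.1.2.2.2 a ha ha1 b hb hb1)
        · rintro _ ⟨a, ha, rfl⟩ h1
          rw [hφ a ha]
          exact CfsgLib.Coprime.isSolvable_map π (hθ.2 a ha fun e => h1 (by rw [e, map_one]))
      obtain ⟨X, hXs, hXp, hX⟩ :=
        hG (CfsgLib.Solvable.card_quotient_lt (N := Y) hY0) _ hAb hcard φ hφf
      set X' := X.comap π
      have hYX' : π.ker ≤ X' := MonoidHom.ker_le_comap π X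
      have hmap : X'.map π = X := map_comap_eq_self_of_surjective (QuotientGroup.mk'_surjective Y) X
      have hker : π.ker = Y := QuotientGroup.ker_mk' Y
      refine ⟨X', ?_, ?_, fun a ha ha1 => ?_⟩
      · haveI : Group.IsSolvable X := hXs
        haveI : Group.IsSolvable (π.subgroupComap X).ker := by
          have hle : (π.subgroupComap X).ker.map X'.subtype ≤ Y := by
            rintro _ ⟨x, hx, rfl⟩
            exact (QuotientGroup.eq_one_iff _).1 (congrArg Subtype.val hx)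
          haveI := CfsgLib.Coprime.isSolvable_of_le hY.1 hle
          exact Group.isSolvable_of_isSolvable_injective
            (f := ((π.subgroupComap X).ker.equivMapOfInjective _ X'.subtype_injective).toMonoidHom)
            (MulEquiv.injective _)
        exact Group.isSolvable_of_ker_le_range (π.subgroupComap X).ker.subtype (π.subgroupComap X)
          (range_subtype _).ge
      · intro hd
        have h1 := CfsgLib.Coprime.card_map_mul_card_ker π hYX'
        rw [hmap, hker] at h1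
        rw [← h1] at hd
        exact (hp.out.dvd_mul.1 hd).elim hXp hY.2.1
      · rw [← map_le_iff_le_comap, ← hφ a ha]
        exact hX _ (mem_map_of_mem π ha) (hone a ha ha1)
    · set N := normalizer (Y : Set G)
      set B := A.subgroupOf N
      have hBe : Cfsg.IsElementaryAbelian p B :=
        CfsgLib.PLocal.elemAb_comap_of_injective N.subtype_injective hA
      let φ : N → Subgroup N := fun a => (θ (a : G)).subgroupOf N
      have hne1 : ∀ {a : N}, a ≠ 1 → (a : G) ≠ 1 := fun ha e => ha (Subtype.ext e)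
      have hφf : Cfsg.IsSolvableSignalizerFunctor p B φ := by
        refine ⟨⟨fun a ha ha1 x hx => ?_, fun a ha ha1 hd => ?_, fun a ha ha1 b hb x hx => ?_,
          fun a ha ha1 b hb hb1 x hx => ?_⟩, fun a ha ha1 => ?_⟩
        · exact mem_centralizer_singleton_iff.2 (Subtype.ext (mem_centralizer_singleton_iff.1
            (hθ.1.1 a ha (hne1 ha1) hx)))
        · refine hθ.1.2.1 (a : G) ha (hne1 ha1) ?_
          have h1 : Nat.card (φ a) ∣ Nat.card (θ (a : G)) := by
            rw [← card_map_of_injective N.subtype_injective]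
            exact card_dvd_of_le (map_comap_le _ _)
          exact hd.trans h1
        · exact hθ.1.2.2.1 (a : G) ha (hne1 ha1) b hb x hx
        · refine hθ.1.2.2.2 (a : G) ha (hne1 ha1) b hb (hne1 hb1) ⟨hx.1, ?_⟩
          exact mem_centralizer_singleton_iff.2
            (congrArg Subtype.val (mem_centralizer_singleton_iff.1 hx.2))
        · haveI : Group.IsSolvable (θ (a : G)) := hθ.2 a ha (hne1 ha1)
          exact Group.isSolvable_of_isSolvable_injective
            (f := MonoidHom.mk' (fun x : φ a => (⟨((x : N) : G), x.2⟩ : θ (a : G))) fun _ _ => rfl)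
            fun x y he => Subtype.ext (Subtype.ext (congrArg (fun z : θ (a : G) => (z : G)) he))
      have hlt : Nat.card N < Nat.card G := by
        refine lt_of_le_of_ne (Nat.le_of_dvd Nat.card_pos (card_subgroup_dvd_card N)) fun e => hN ?_
        exact eq_top_of_card_eq N e
      obtain ⟨X, hXs, hXp, hX⟩ :=
        hG hlt B hBe (by rw [CfsgLib.Coprime.card_subgroupOf hAY, hA3]) φ hφf
      set Z := ⨆ i : {a : G // a ∈ A ∧ a ≠ 1}, θ i ⊓ N with hZ
      have hZX : Z ≤ X.map N.subtype := iSup_le fun i x hx =>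
        ⟨⟨x, hx.2⟩, hX ⟨i, hAY i.2.1⟩ i.2.1 (fun e => i.2.2 (congrArg Subtype.val e)) hx.1, rfl⟩
      have hψ : Cfsg.IsSignalizerFunctor p A fun a => θ a ⊓ N := by
        refine ⟨fun a ha ha1 => inf_le_left.trans (hθ.1.1 a ha ha1),
          fun a ha ha1 hd => hθ.1.2.1 a ha ha1 (hd.trans (card_dvd_of_le inf_le_left)),
          fun a ha ha1 b hb x hx => ⟨hθ.1.2.2.1 a ha ha1 b hb x hx.1, ?_⟩,
          fun a ha ha1 b hb hb1 x hx => ⟨hθ.1.2.2.2 a ha ha1 b hb hb1 ⟨hx.1.1, hx.2⟩, hx.1.2⟩⟩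
        show b * x * b⁻¹ ∈ N
        exact mul_mem (mul_mem (hAY hb) hx.2) (inv_mem (hAY hb))
      have hcont : HasCont p A fun a => θ a ⊓ N :=
        ⟨X.map N.subtype, CfsgLib.Coprime.isSolvable_map _ hXs,
          by rwa [card_map_of_injective N.subtype_injective],
          fun a ha ha1 => (le_iSup (fun i : {a : G // a ∈ A ∧ a ≠ 1} => θ i ⊓ N) ⟨a, ha, ha1⟩).trans
            hZX⟩
      refine ⟨Z, ⟨CfsgLib.Coprime.isSolvable_of_le (CfsgLib.Coprime.isSolvable_map _ hXs) hZX,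
        fun hd => hXp ?_, conj_mem_of_le_normalizer (le_normalizer_iSup _ fun i =>
          le_normalizer_of_conj_mem (hψ.2.2.1 i i.2.1 i.2.2)), fun a ha ha1 => ?_⟩,
        iSup_le fun i => inf_le_right, fun U hU hUN => ?_⟩
      · rw [← card_map_of_injective N.subtype_injective]
        exact hd.trans (card_dvd_of_le hZX)
      · exact (complete_of_cont hA hA3.ge hψ hcont ha ha1).le.trans inf_le_left
      · rw [eq_iSup_centralizer_hyperplane hA hAne hU.2.1 (le_normalizer_of_conj_mem hU.2.2.1)]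
        refine iSup_le fun K => ?_
        have hKne : (K : Subgroup G) ≠ ⊥ := fun e => by
          have h1 := K.2.2
          rw [e, relIndex_bot_left, hA3] at h1
          exact (lt_self_pow₀ hp.out.one_lt (by norm_num)).ne' h1
        obtain ⟨b, hb, hb1⟩ := exists_mem_ne_one hKne
        exact le_trans (le_inf ((inf_le_inf_left _ (centralizer_le (Set.singleton_subset_iff.2 hb))).trans
          (hU.2.2.2 b (K.2.1 hb) hb1)) (inf_le_left.trans hUN))
          (le_iSup (fun i : {a : G // a ∈ A ∧ a ≠ 1} => θ i ⊓ N) ⟨b, K.2.1 hb, hb1⟩)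
  exact Min.absurd (A := A) (θ := θ) ⟨hA, hA3, hθ, hnl,
    fun X hX hall => hnot ⟨X, hX.1, hX.2.1, hall⟩, hsmaller⟩

end

/-- For every functor on a group of order `p ^ 3`, some solvable `p'`-subgroup contains it. -/
theorem hasCont {p : ℕ} [hp : Fact p.Prime] : ∀ (n : ℕ) {G : Type u} [Group G] [Finite G], Nat.card G = n →
    ∀ (A : Subgroup G), Cfsg.IsElementaryAbelian p A → Nat.card A = p ^ 3 →
      ∀ θ : G → Subgroup G, Cfsg.IsSolvableSignalizerFunctor p A θ → HasCont p A θ := by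
  classical
  intro n
  induction n using Nat.strong_induction_on with
  | _ n ih =>
  intro G _ _ hn A hA hA3
  haveI := Fintype.ofFinite {a : G // a ∈ A ∧ a ≠ 1}
  suffices key : ∀ (k : ℕ) (θ : G → Subgroup G),
      ∑ a : {a : G // a ∈ A ∧ a ≠ 1}, Nat.card (θ a) = k →
      Cfsg.IsSolvableSignalizerFunctor p A θ → HasCont p A θ from
    fun θ hθ => key _ θ rfl hθ
  intro k
  induction k using Nat.strong_induction_on with
  | _ k ihk =>
  intro θ hk hθ
  refine step hA hA3 hθ (fun {H} _ _ hH B hB' hB3 φ hφ => ih _ (hn ▸ hH) rfl B hB' hB3 φ hφ)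
    fun φ hφ hle ⟨a, ha, ha1, hne⟩ => ihk _ ?_ φ rfl hφ
  rw [← hk]
  refine Finset.sum_lt_sum (fun i _ => card_le_of_le (hle i i.2.1 i.2.2))
    ⟨⟨a, ha, ha1⟩, Finset.mem_univ _, lt_of_le_of_ne (card_le_of_le (hle a ha ha1)) fun e => hne ?_⟩
  exact eq_of_le_of_card_ge (hle a ha ha1) e.ge

/-- The solvable signalizer functor theorem. -/
theorem sft {p : ℕ} [hp : Fact p.Prime]
    {G : Type u} [Group G] [Finite G] {A : Subgroup G} (hA : Cfsg.IsElementaryAbelian p A)
    (hA3 : p ^ 3 ≤ Nat.card A) {θ : G → Subgroup G}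
    (hθ : Cfsg.IsSolvableSignalizerFunctor p A θ) :
    Group.IsSolvable ↥(⨆ a : {a : G // a ∈ A ∧ a ≠ 1}, θ a) ∧
      ¬ p ∣ Nat.card ↥(⨆ a : {a : G // a ∈ A ∧ a ≠ 1}, θ a) ∧
      ∀ a ∈ A, a ≠ 1 → (⨆ b : {a : G // a ∈ A ∧ a ≠ 1}, θ b) ⊓ centralizer ({a} : Set G) = θ a := by
  obtain ⟨A₀, hA₀, hA₀3⟩ := exists_subgroup_card_cube hA hA3
  have hA₀e := elemAb_mono hA hA₀
  obtain ⟨X, hXs, hXp, hX⟩ := hasCont _ rfl A₀ hA₀e hA₀3 θ
    ⟨⟨fun a ha => hθ.1.1 a (hA₀ ha), fun a ha => hθ.1.2.1 a (hA₀ ha),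
      fun a ha ha1 b hb => hθ.1.2.2.1 a (hA₀ ha) ha1 b (hA₀ hb),
      fun a ha ha1 b hb => hθ.1.2.2.2 a (hA₀ ha) ha1 b (hA₀ hb)⟩, fun a ha => hθ.2 a (hA₀ ha)⟩
  have hnc : ¬ IsCyclic A₀ := not_isCyclic_elemAb hA₀e
    (by rw [hA₀3]; exact Nat.pow_le_pow_right hp.out.pos (by norm_num))
  have hcont : HasCont p A θ := by
    refine ⟨X, hXs, hXp, fun a ha ha1 => ?_⟩
    have hp' := hθ.1.2.1 a ha ha1
    rw [← CfsgLib.Coprime.iSup_centralizer_eq hA₀e.1 hnc
      (hA₀.trans (le_normalizer_of_conj_mem (hθ.1.2.2.1 a ha ha1)))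
      (coprime_card_elemAb hA₀e hp')]
    exact iSup_le fun b => (hθ.1.2.2.2 a ha ha1 b (hA₀ b.2.1) b.2.2).trans (hX b b.2.1 b.2.2)
  refine ⟨?_, ?_, fun a ha ha1 => complete_of_cont hA hA3 hθ.1 hcont ha ha1⟩
  all_goals
    obtain ⟨X, hXs, hXp, hX⟩ := hcont
    have hle : (⨆ b : {a : G // a ∈ A ∧ a ≠ 1}, θ b) ≤ X := iSup_le fun b => hX b b.2.1 b.2.2
  · exact CfsgLib.Coprime.isSolvable_of_le hXs hle
  · exact fun hd => hXp (hd.trans (card_dvd_of_le hle))

/-- The solvable signalizer functor theorem for the prime two, in the shape of S0217. -/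
theorem solvable_functor_two {G : Type u} [Group G] [Finite G] (A : Subgroup G)
    (hAcomm : ∀ a ∈ A, ∀ b ∈ A, a * b = b * a) (hAexp : ∀ a ∈ A, a ^ 2 = 1)
    (hArank : 2 ^ 3 ≤ Nat.card A) (θ : G → Subgroup G)
    (hθC : ∀ a ∈ A, a ≠ 1 → θ a ≤ Subgroup.centralizer {a})
    (hθp : ∀ a ∈ A, a ≠ 1 → ¬ 2 ∣ Nat.card (θ a))
    (hθinv : ∀ a ∈ A, a ≠ 1 → ∀ b ∈ A, ∀ x ∈ θ a, b * x * b⁻¹ ∈ θ a)
    (hθsolv : ∀ a ∈ A, a ≠ 1 → Group.IsSolvable (θ a))
    (hbal : ∀ a ∈ A, a ≠ 1 → ∀ b ∈ A, b ≠ 1 → θ a ⊓ Subgroup.centralizer {b} ≤ θ b) :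
    ¬ 2 ∣ Nat.card ↥(⨆ a : {a : G // a ∈ A ∧ a ≠ 1}, θ a) ∧
      ∀ a ∈ A, a ≠ 1 →
        (⨆ b : {a : G // a ∈ A ∧ a ≠ 1}, θ b) ⊓ Subgroup.centralizer {a} = θ a := by
  haveI : Fact (Nat.Prime 2) := ⟨Nat.prime_two⟩
  exact (sft
    ⟨⟨⟨fun x y => Subtype.ext (hAcomm x x.2 y y.2)⟩⟩, fun a ha => by simpa using hAexp a ha⟩
    hArank ⟨⟨hθC, hθp, hθinv, hbal⟩, hθsolv⟩).2

/-- A coprime group of order prime to `p` with solvable centralizers of the points of an elementary
abelian group of rank three is solvable. -/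
theorem solvable_of_centralizers {X : Type u} [Group X] [Finite X] {p : ℕ} [hp : Fact p.Prime]
    {A K : Subgroup X} (hA : Cfsg.IsElementaryAbelian p A) (hA3 : p ^ 3 ≤ Nat.card A)
    (hAK : A ≤ normalizer (K : Set X)) (hK : ¬ p ∣ Nat.card K)
    (hsol : ∀ a ∈ A, a ≠ 1 → Group.IsSolvable ↥(K ⊓ centralizer ({a} : Set X))) :
    Group.IsSolvable K := by
  have hθ : Cfsg.IsSolvableSignalizerFunctor p A fun a => K ⊓ centralizer ({a} : Set X) := by
    refine ⟨⟨fun a _ _ => inf_le_right, fun a _ _ hd => hK (hd.trans (card_dvd_of_le inf_le_left)),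
      fun a ha _ => conj_mem_of_le_normalizer (CfsgLib.Comp.le_normalizer_inf hAK ?_),
      fun a _ _ b _ _ x hx => ⟨hx.1.1, hx.2⟩⟩, hsol⟩
    intro b hb
    rw [← centralizer_zpowers a]
    refine (le_centralizer_iff.1 (zpowers_le.2 fun c hc => ?_)).trans le_normalizer hb
    exact congrArg Subtype.val (hA.1.is_comm.comm ⟨c, hc⟩ ⟨a, ha⟩)
  have hA2 : p ^ 2 ≤ Nat.card A := (Nat.pow_le_pow_right hp.out.pos (by norm_num)).trans hA3
  have hle : K ≤ ⨆ a : {a : X // a ∈ A ∧ a ≠ 1}, K ⊓ centralizer ({(a : X)} : Set X) :=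
    (CfsgLib.Coprime.iSup_centralizer_eq hA.1 (not_isCyclic_elemAb hA hA2) hAK
      (coprime_card_elemAb hA hK)).ge
  exact CfsgLib.Coprime.isSolvable_of_le (sft hA hA3 hθ).1 hle

end CfsgLib.Comp.SFT
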