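import Mathlib

/-!
Counting in the commutant: a group of symplectic type with an automorphism of order `p` without
fixed points, acting on a module where that automorphism has no fixed points.
-/

set_option autoImplicit false
set_option linter.style.haveILetI false
set_option linter.unusedSectionVars false

namespace CfsgLib.Comp.SFT.HH

open Subgroup
open scoped commutatorElement

theorem card_monoidHom_le (K F : Type*) [MulOneClass K] [Finite K] [Field F] :
    Nat.card (K →* F) ≤ Nat.card K := by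
  classical
  haveI := Fintype.ofFinite K
  have h := linearIndependent_monoidHom K F
  haveI : Finite (K →* F) := h.finite
  haveI := Fintype.ofFinite (K →* F)
  have h1 := h.fintype_card_le_finrank
  rw [Module.finrank_pi] at h1
  rwa [Nat.card_eq_fintype_card, Nat.card_eq_fintype_card]

/-- The index of the radical of an alternating pairing is a square. -/
theorem index_square {K : Type*} [Group K] [Finite K] {F : Type*} [Field F] (Z : Subgroup K)
    (hcomm : _root_.commutator K ≤ Z) (β : K → K → F)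
    (hl : ∀ a b c, β (a * b) c = β a c * β b c) (hr : ∀ a b c, β a (b * c) = β a b * β a c)
    (hone : ∀ a, β a 1 = 1 ∧ β 1 a = 1) (halt : ∀ a, β a a = 1)
    (hsym : ∀ a b, β a b = 1 → β b a = 1)
    (hrad : ∀ a, a ∈ Z ↔ ∀ b, β a b = 1) : ∃ k : ℕ, Z.index = k * k := by
  classical
  obtain ⟨A, hA⟩ := (Set.toFinite {A : Subgroup K | Z ≤ A ∧ ∀ a ∈ A, ∀ b ∈ A, β a b = 1}).exists_maximal
    ⟨Z, le_rfl, fun a ha b _ => (hrad a).1 ha b⟩
  obtain ⟨hZA, hAA⟩ := hA.prop
  haveI : Z.Normal := Subgroup.Normal.of_commutator_le K hcomm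
  haveI : A.Normal := Subgroup.Normal.of_commutator_le K (hcomm.trans hZA)
  have hmem : ∀ u, (∀ a ∈ A, β u a = 1) → u ∈ A := by
    intro u hu
    let L : Subgroup K :=
      { carrier := {v | β v u = 1 ∧ ∀ a ∈ A, β v a = 1}
        one_mem' := ⟨(hone u).2, fun a _ => (hone a).2⟩
        mul_mem' := by
          rintro v w ⟨h1, h2⟩ ⟨h3, h4⟩
          exact ⟨by rw [hl, h1, h3, mul_one], fun a ha => by rw [hl, h2 a ha, h4 a ha, mul_one]⟩
        inv_mem' := by
          rintro v ⟨h1, h2⟩
          have key : ∀ a, β v a = 1 → β v⁻¹ a = 1 := fun a h => by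
            have := hl v⁻¹ v a
            rwa [inv_mul_cancel, (hone a).2, h, mul_one, eq_comm] at this
          exact ⟨key u h1, fun a ha => key a (h2 a ha)⟩ }
    have hle : A ⊔ zpowers u ≤ L :=
      sup_le (fun a ha => ⟨hsym _ _ (hu a ha), fun b hb => hAA a ha b hb⟩)
        (zpowers_le.2 ⟨halt u, hu⟩)
    have hiso : ∀ a ∈ A ⊔ zpowers u, ∀ b ∈ A ⊔ zpowers u, β a b = 1 := by
      intro a ha b hb
      let R : Subgroup K :=
        { carrier := {b | β a b = 1}
          one_mem' := (hone a).1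
          mul_mem' := by intro v w h1 h2; show β a (v * w) = 1; rw [hr, h1, h2, mul_one]
          inv_mem' := by
            intro v h1
            have := hr a v⁻¹ v
            rwa [inv_mul_cancel, (hone a).1, h1, mul_one, eq_comm] at this }
      exact (sup_le (fun c hc => (hle ha).2 c hc) (zpowers_le.2 (hle ha).1) :
        A ⊔ zpowers u ≤ R) hb
    exact hA.le_of_ge ⟨hZA.trans le_sup_left, hiso⟩ le_sup_left (mem_sup_right (mem_zpowers u))
  set Q := A ⧸ Z.subgroupOf A
  have h1 : Nat.card (K ⧸ A) ≤ Nat.card Q := by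
    let g : K → (Q →* F) := fun u => QuotientGroup.lift (Z.subgroupOf A)
      { toFun := fun a : A => β u a
        map_one' := (hone u).1
        map_mul' := fun a b => hr u a b }
      fun a ha => hsym _ _ ((hrad (a : K)).1 ha u)
    haveI : Finite (Q →* F) := (linearIndependent_monoidHom Q F).finite
    refine le_trans (Nat.card_le_card_of_injective (fun x : K ⧸ A => g x.out) ?_)
      (card_monoidHom_le Q F)
    intro x y hxy
    rw [← x.out_eq', ← y.out_eq']
    refine QuotientGroup.eq.2 (hmem _ fun a ha => ?_)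
    have h2 : β x.out a = β y.out a :=
      DFunLike.congr_fun hxy (QuotientGroup.mk' (Z.subgroupOf A) ⟨a, ha⟩)
    rw [hl, ← h2, ← hl, inv_mul_cancel]
    exact (hone a).2
  have h2 : Nat.card Q ≤ Nat.card (K ⧸ A) := by
    let g : A → (K ⧸ A →* F) := fun a => QuotientGroup.lift A
      { toFun := fun u => β a u
        map_one' := (hone _).1
        map_mul' := fun u v => hr a u v }
      fun u hu => hAA a a.2 u hu
    haveI : Finite (K ⧸ A →* F) := (linearIndependent_monoidHom (K ⧸ A) F).finite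
    refine le_trans (Nat.card_le_card_of_injective (fun x : Q => g x.out) ?_)
      (card_monoidHom_le (K ⧸ A) F)
    intro x y hxy
    rw [← x.out_eq', ← y.out_eq']
    refine QuotientGroup.eq.2 ((hrad _).2 fun u => ?_)
    have h3 : β (x.out : K) u = β (y.out : K) u := DFunLike.congr_fun hxy (QuotientGroup.mk' A u)
    show β (((x.out : A) : K)⁻¹ * ((y.out : A) : K)) u = 1
    rw [hl, ← h3, ← hl, inv_mul_cancel]
    exact (hone u).2
  refine ⟨A.index, ?_⟩
  rw [← relIndex_mul_index hZA]
  congr 1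
  exact le_antisymm h2 h1

/-- A set of representatives of the orbits of a fixed-point-free map of prime order. -/
theorem exists_reps {α : Type*} [DecidableEq α] (f : α → α) {p : ℕ} (hp : p.Prime)
    (hf : ∀ x, f^[p] x = x) (T : Finset α) (hT : ∀ x ∈ T, f x ∈ T) (hne : ∀ x ∈ T, f x ≠ x) :
    ∃ S : Finset α, S ⊆ T ∧ S.card * p = T.card ∧ ∀ x ∈ T, ∃ s ∈ S, ∃ i, f^[i] s = x := by
  induction hn : T.card using Nat.strong_induction_on generalizing T with
  | _ n ih =>
  subst hn
  rcases T.eq_empty_or_nonempty with rfl | ⟨x, hx⟩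
  · exact ⟨∅, by simp, by simp, by simp⟩
  have hper : Function.minimalPeriod f x = p := by
    have h1 : Function.minimalPeriod f x ∣ p := Function.IsPeriodicPt.minimalPeriod_dvd (hf x)
    rcases (Nat.dvd_prime hp).1 h1 with h | h
    · exact absurd (Function.minimalPeriod_eq_one_iff_isFixedPt.1 h) (hne x hx)
    · exact h
  set O := (Finset.range p).image fun i => f^[i] x
  have hiter : ∀ i, f^[i] x ∈ T := fun i => by
    induction i with
    | zero => exact hx
    | succ i ihi => rw [Function.iterate_succ_apply']; exact hT _ ihi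
  have hO : O.card = p := by
    rw [Finset.card_image_of_injOn, Finset.card_range]
    intro i hi j hj h
    rw [Finset.coe_range] at hi hj
    exact Function.iterate_injOn_Iio_minimalPeriod (by rwa [hper]) (by rwa [hper]) h
  have hOT : O ⊆ T := by
    intro y hy
    obtain ⟨i, -, rfl⟩ := Finset.mem_image.1 hy
    exact hiter i
  have hc : (T \ O).card + p = T.card := by
    rw [← hO]; exact Finset.card_sdiff_add_card_eq_card hOT
  have hp0 := hp.pos
  obtain ⟨S, hST, hS, hcov⟩ := ih (T \ O).card (by omega) (T \ O) (fun y hy => by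
      rw [Finset.mem_sdiff] at hy ⊢
      refine ⟨hT y hy.1, fun hfy => hy.2 ?_⟩
      obtain ⟨i, -, hi⟩ := Finset.mem_image.1 hfy
      refine Finset.mem_image.2 ⟨(p - 1 + i) % p, Finset.mem_range.2 (Nat.mod_lt _ hp.pos), ?_⟩
      show f^[(p - 1 + i) % p] x = y
      rw [Function.IsPeriodicPt.iterate_mod_apply (hf x), Function.iterate_add_apply, hi,
        ← Function.iterate_succ_apply, Nat.succ_eq_add_one, Nat.sub_add_cancel hp.pos]
      exact hf y)
    (fun y hy => hne y (Finset.mem_sdiff.1 hy).1) rfl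
  have hxm : x ∉ S := fun h => (Finset.mem_sdiff.1 (hST h)).2
    (Finset.mem_image.2 ⟨0, Finset.mem_range.2 hp.pos, rfl⟩)
  refine ⟨insert x S, Finset.insert_subset hx (hST.trans Finset.sdiff_subset), ?_, fun y hy => ?_⟩
  · rw [Finset.card_insert_of_notMem hxm, Nat.succ_mul, hS]; exact hc
  · by_cases hyO : y ∈ O
    · obtain ⟨i, -, rfl⟩ := Finset.mem_image.1 hyO
      exact ⟨x, Finset.mem_insert_self _ _, i, rfl⟩
    · obtain ⟨s, hs, i, hi⟩ := hcov y (Finset.mem_sdiff.2 ⟨hy, hyO⟩)
      exact ⟨s, Finset.mem_insert_of_mem hs, i, hi⟩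

theorem core_false {F : Type*} [Field F] {M : Type*} [AddCommGroup M] [Module F M] [Finite M]
    [Nontrivial M] {G : Type*} [Group G] [Finite G] (σ : G →* Module.End F M) {p q : ℕ}
    (hp : p.Prime) (hq : q.Prime) (hq2 : q ≠ 2) {e : G} (he : e ^ p = 1) {U Zc : Subgroup G}
    (hU : IsPGroup q U) (heU : e ∈ normalizer (U : Set G)) (hZU : Zc < U)
    (hZc : Zc ≤ centralizer (U : Set G)) (hder : ⁅U, U⁆ ≤ Zc)
    (heZ : Zc ≤ centralizer ({e} : Set G)) (hscal : ∀ z ∈ Zc, ∃ l : F, σ z = l • 1)
    (hnd : ∀ u ∈ U, (∀ v ∈ U, σ ⁅u, v⁆ = 1) → u ∈ Zc)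
    (hfp : ∀ u ∈ U, ⁅u, e⁆ ∈ Zc → u ∈ Zc) {ζ : F} (hζ : IsPrimitiveRoot ζ p) (hpF : (p : F) ≠ 0)
    (hqF : (q : F) ≠ 0) (hfix : ∀ m, σ e m = m → m = 0) : False := by
  classical
  haveI := Fact.mk hq
  haveI : Module.Finite F M := Module.Finite.of_finite
  haveI := Fintype.ofFinite U
  -- scalars
  have hinj : ∀ {l l' : F}, l • (1 : Module.End F M) = l' • 1 → l = l' := fun {l l'} h => by
    obtain ⟨m, hm⟩ := exists_ne (0 : M)
    exact smul_left_injective F hm (LinearMap.congr_fun h m)
  have hσinv : ∀ g, σ g⁻¹ * σ g = 1 := fun g => by rw [← map_mul, inv_mul_cancel, map_one]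
  have hσinv' : ∀ g, σ g * σ g⁻¹ = 1 := fun g => by rw [← map_mul, mul_inv_cancel, map_one]
  have hcZ : ∀ {z w : G}, z ∈ Zc → w ∈ U → z * w = w * z := fun hz hw =>
    (mem_centralizer_iff.1 (hZc hz) _ hw).symm
  -- the commutator form
  have hb : ∀ u v : U, ⁅(u : G), (v : G)⁆ ∈ Zc := fun u v =>
    hder (commutator_mem_commutator u.2 v.2)
  have hmul : ∀ u u' v : U, ⁅((u * u' : U) : G), (v : G)⁆ = ⁅(u : G), (v : G)⁆ * ⁅(u' : G), (v : G)⁆ := by
    intro u u' v
    rw [Subgroup.coe_mul, show ⁅(u : G) * u', (v : G)⁆ = (u : G) * ⁅(u' : G), (v : G)⁆ * (u : G)⁻¹ *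
      ⁅(u : G), (v : G)⁆ by simp only [commutatorElement_def]; group, ← hcZ (hb u' v) u.2,
      mul_inv_cancel_right, hcZ (hb u' v) (hder.trans hZU.le |> fun h =>
        h (commutator_mem_commutator u.2 v.2))]
  have hmul' : ∀ u v v' : U, ⁅(u : G), ((v * v' : U) : G)⁆ = ⁅(u : G), (v : G)⁆ * ⁅(u : G), (v' : G)⁆ := by
    intro u v v'
    rw [Subgroup.coe_mul, show ⁅(u : G), (v : G) * v'⁆ = ⁅(u : G), (v : G)⁆ *
      ((v : G) * ⁅(u : G), (v' : G)⁆ * (v : G)⁻¹) by simp only [commutatorElement_def]; group,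
      ← hcZ (hb u v') v.2, mul_inv_cancel_right]
  set n : F := (Fintype.card U : F) with hn
  have hn0 : n ≠ 0 := by
    obtain ⟨k, hk⟩ := IsPGroup.iff_card.1 hU
    rw [hn, ← Nat.card_eq_fintype_card, hk, Nat.cast_pow]
    exact pow_ne_zero k hqF
  -- the sum of the commutators with `w`
  have hsum : ∀ w : U, ∑ y : U, σ ⁅(y : G), (w : G)⁆ =
      if (w : G) ∈ Zc then n • 1 else 0 := by
    intro w
    by_cases hw : (w : G) ∈ Zc
    · rw [if_pos hw, Finset.sum_congr rfl fun (y : U) _ => show σ ⁅(y : G), (w : G)⁆ = 1 by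
          rw [commutatorElement_eq_one_iff_mul_comm.2 (hcZ hw y.2).symm, map_one],
        Finset.sum_const, Finset.card_univ, hn, Nat.cast_smul_eq_nsmul]
    · rw [if_neg hw]
      obtain ⟨v, hv, hv1⟩ : ∃ v ∈ U, σ ⁅(w : G), v⁆ ≠ 1 := by
        by_contra hc
        push Not at hc
        exact hw (hnd _ w.2 hc)
      obtain ⟨l, hl⟩ := hscal _ (hb ⟨v, hv⟩ w)
      set S := ∑ y : U, σ ⁅(y : G), (w : G)⁆ with hS
      have h1 : l • S = S := by
        have e1 : l • S = σ ⁅(v : G), (w : G)⁆ * S := by rw [hl, smul_mul_assoc, one_mul]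
        rw [e1, hS, Finset.mul_sum]
        conv_lhs => arg 2; ext y; rw [← map_mul, ← hmul ⟨v, hv⟩]
        exact Function.Bijective.sum_comp (Group.mulLeft_bijective (⟨v, hv⟩ : U))
          fun y : U => σ ⁅(y : G), (w : G)⁆
      have hl1 : l - 1 ≠ 0 := fun h => hv1 (by
        rw [sub_eq_zero.1 h, one_smul] at hl
        rw [← commutatorElement_inv, ← hσinv ⁅v, (w : G)⁆, hl, mul_one])
      exact (smul_eq_zero.1 (show (l - 1) • S = 0 by rw [sub_smul, one_smul, h1, sub_self])).resolve_left hl1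
  -- averaging
  let π : U → Module.End F M →ₗ[F] Module.End F M := fun x =>
    ∑ y : U, (LinearMap.mulLeft F (σ (y : G))).comp
      ((LinearMap.mulRight F (σ (y : G)⁻¹)).comp (LinearMap.mulRight F (σ (x : G)⁻¹)))
  have hπ : ∀ x f, π x f = ∑ y : U, σ (y : G) * (f * σ (x : G)⁻¹ * σ (y : G)⁻¹) := fun x f => by
    simp only [π, LinearMap.coe_sum, Finset.sum_apply, LinearMap.comp_apply,
      LinearMap.mulLeft_apply, LinearMap.mulRight_apply]
  let B : Submodule F (Module.End F M) :=
    { carrier := {f | ∀ u ∈ U, σ u * f = f * σ u}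
      add_mem' := fun ha hb u hu => by rw [mul_add, add_mul, ha u hu, hb u hu]
      zero_mem' := fun u _ => by rw [mul_zero, zero_mul]
      smul_mem' := fun c f hf u hu => by rw [mul_smul_comm, smul_mul_assoc, hf u hu] }
  have hπB : ∀ x f, π x f ∈ B := by
    intro x f u hu
    rw [hπ, Finset.mul_sum, Finset.sum_mul]
    refine (Finset.sum_congr rfl fun (y : U) _ => ?_).trans
      (Function.Bijective.sum_comp (Group.mulLeft_bijective (⟨u, hu⟩ : U))
        fun y : U => σ (y : G) * (f * σ (x : G)⁻¹ * σ (y : G)⁻¹) * σ u)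
    simp only [Subgroup.coe_mul, map_mul, mul_inv_rev, mul_assoc, hσinv, mul_one]
  have hrecon : ∀ f, ∑ x : U, π x f * σ (x : G) =
      ((Finset.univ.filter fun y : U => (y : G) ∈ Zc).card : F) • n • f := by
    intro f
    rw [Finset.sum_congr rfl fun x _ => by rw [hπ, Finset.sum_mul], Finset.sum_comm,
      Nat.cast_smul_eq_nsmul, ← Finset.sum_const, Finset.sum_filter]
    refine Finset.sum_congr rfl fun y _ => ?_
    have e1 : ∀ x : U, σ (y : G) * (f * σ (x : G)⁻¹ * σ (y : G)⁻¹) * σ (x : G) =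
        σ (y : G) * f * σ (y : G)⁻¹ * σ ⁅(x : G), (y : G)⁆ := by
      intro x
      have h2 : (x : G)⁻¹ * (y : G)⁻¹ * x = (y : G)⁻¹ * ⁅(x : G), (y : G)⁆ := by
        have h3 : ⁅(y : G), (x : G)⁻¹⁆ = ⁅(x : G), (y : G)⁆ := by
          have := hcZ (hb x y) (inv_mem x.2)
          rw [show ⁅(y : G), (x : G)⁻¹⁆ = (x : G)⁻¹ * ⁅(x : G), (y : G)⁆ * x by
            simp only [commutatorElement_def]; group, ← this, inv_mul_cancel_right]
        rw [← h3, commutatorElement_def]; group
      calc _ = σ (y : G) * f * (σ (x : G)⁻¹ * σ (y : G)⁻¹ * σ (x : G)) := by simp only [mul_assoc]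
        _ = _ := by rw [← map_mul, ← map_mul, h2, map_mul, ← mul_assoc]
    rw [Finset.sum_congr rfl fun x _ => e1 x, ← Finset.mul_sum, hsum y]
    by_cases hy : (y : G) ∈ Zc
    · rw [if_pos hy, if_pos hy]
      obtain ⟨l, hl⟩ := hscal _ hy
      have h4 : σ (y : G) * f = f * σ (y : G) := by
        rw [hl, smul_mul_assoc, mul_smul_comm, one_mul, mul_one]
      rw [h4, mul_assoc f, hσinv', mul_one, mul_smul_comm, mul_one]
    · rw [if_neg hy, if_neg hy, mul_zero]
  -- classes modulo `Zc`
  haveI hnorm : (Zc.subgroupOf U).Normal := ⟨fun a ha b => by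
    show ((b * a * b⁻¹ : U) : G) ∈ Zc
    have h1 : (a : G) * b = b * a := hcZ (show (a : G) ∈ Zc from ha) b.2
    rw [Subgroup.coe_mul, Subgroup.coe_mul, InvMemClass.coe_inv, ← h1, mul_inv_cancel_right]
    exact ha⟩
  let Q := U ⧸ Zc.subgroupOf U
  haveI := Fintype.ofFinite Q
  have hclass : ∀ a b : U, (QuotientGroup.mk a : Q) = QuotientGroup.mk b ↔ (a : G)⁻¹ * b ∈ Zc :=
    fun a b => QuotientGroup.eq.trans Iff.rfl
  have hπz : ∀ a b : U, (QuotientGroup.mk a : Q) = QuotientGroup.mk b → ∀ f, π a f = 0 → π b f = 0 := by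
    intro a b hab f hf
    obtain ⟨l, hl⟩ := hscal _ (inv_mem ((hclass a b).1 hab))
    have e1 : σ (b : G)⁻¹ = l • σ (a : G)⁻¹ := by
      rw [show (b : G)⁻¹ = ((a : G)⁻¹ * b)⁻¹ * (a : G)⁻¹ by group, map_mul, hl, smul_mul_assoc, one_mul]
    rw [hπ] at hf ⊢
    simp only [e1, mul_smul_comm, smul_mul_assoc, ← Finset.smul_sum, hf, smul_zero]
  -- lower bound for the endomorphisms
  have hlow : Fintype.card Q * Module.finrank F B ≤ Module.finrank F M * Module.finrank F M := by
    let Θ : (Q → B) →ₗ[F] Module.End F M :=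
      ∑ x : Q, (LinearMap.mulRight F (σ ((x.out : U) : G))).comp (B.subtype.comp (LinearMap.proj x))
    have hΘ : ∀ g, Θ g = ∑ x : Q, (g x : Module.End F M) * σ ((x.out : U) : G) := fun g => by
      simp only [Θ, LinearMap.coe_sum, Finset.sum_apply, LinearMap.comp_apply,
        LinearMap.mulRight_apply, LinearMap.proj_apply, Submodule.subtype_apply]
    have hinjΘ : Function.Injective Θ := by
      rw [← LinearMap.ker_eq_bot, LinearMap.ker_eq_bot']
      intro g hg
      funext x₀
      have h1 : π x₀.out (Θ g) = n • (g x₀ : Module.End F M) := by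
        rw [hπ, hΘ, Finset.sum_congr rfl fun y _ => by rw [Finset.sum_mul, Finset.sum_mul, Finset.mul_sum],
          Finset.sum_comm, Finset.sum_eq_single x₀]
        · rw [Finset.sum_congr rfl fun (y : U) _ => show σ (y : G) * ((g x₀ : Module.End F M) *
              σ ((x₀.out : U) : G) * σ ((x₀.out : U) : G)⁻¹ * σ (y : G)⁻¹) = g x₀ by
              rw [mul_assoc (g x₀ : Module.End F M), hσinv', mul_one, ← mul_assoc, (g x₀).2 y y.2,
                mul_assoc, hσinv', mul_one],
            Finset.sum_const, Finset.card_univ, hn, Nat.cast_smul_eq_nsmul]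
        · intro x _ hx
          set w : U := x.out * x₀.out⁻¹
          have e1 : ∀ y : U, σ (y : G) * ((g x : Module.End F M) * σ ((x.out : U) : G) *
              σ ((x₀.out : U) : G)⁻¹ * σ (y : G)⁻¹) = (g x : Module.End F M) * σ ⁅(y : G), (w : G)⁆ *
                σ (w : G) := by
            intro y
            rw [mul_assoc (g x : Module.End F M), mul_assoc (g x : Module.End F M), ← mul_assoc,
              (g x).2 y y.2, mul_assoc, mul_assoc (g x : Module.End F M), ← map_mul, ← map_mul,
              ← map_mul, ← map_mul]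
            congr 2
            show (y : G) * (((x.out : U) : G) * ((x₀.out : U) : G)⁻¹ * (y : G)⁻¹) = _
            simp only [w, Subgroup.coe_mul, InvMemClass.coe_inv, commutatorElement_def]
            group
          rw [Finset.sum_congr rfl fun y _ => e1 y, ← Finset.sum_mul, ← Finset.mul_sum, hsum w,
            if_neg fun hw => hx ?_, mul_zero, zero_mul]
          rw [← x.out_eq', ← x₀.out_eq', hclass]
          have h5 : ((x.out : U) : G)⁻¹ * (w : G)⁻¹ * ((x.out : U) : G) ∈ Zc := by
            rw [mul_assoc, hcZ (inv_mem hw) x.out.2, inv_mul_cancel_left]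
            exact inv_mem hw
          convert h5 using 1
          simp [w, mul_assoc]
        · intro h; exact absurd (Finset.mem_univ _) h
      rw [hg, map_zero, eq_comm, smul_eq_zero] at h1
      exact Subtype.ext (h1.resolve_left hn0)
    have h2 := LinearMap.finrank_le_finrank_of_injective hinjΘ
    rwa [Module.finrank_pi_fintype, Finset.sum_const, Finset.card_univ, smul_eq_mul,
      Module.finrank_linearMap] at h2
  -- the map on the classes
  have hce : ∀ u ∈ U, e * u * e⁻¹ ∈ U := fun u hu => (mem_normalizer_iff.1 heU u).1 hu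
  let ce : U → U := fun u => ⟨e * u * e⁻¹, hce u u.2⟩
  have hcez : ∀ {z : G}, z ∈ Zc → e * z * e⁻¹ = z := fun hz => by
    rw [← mem_centralizer_singleton_iff.1 (heZ hz), mul_inv_cancel_right]
  let φ : Q → Q := fun x => QuotientGroup.mk (ce x.out)
  have hφ : ∀ u : U, φ (QuotientGroup.mk u) = QuotientGroup.mk (ce u) := fun u => by
    rw [hclass]
    have h1 := (hclass _ u).1 (QuotientGroup.out_eq' (QuotientGroup.mk u : Q))
    have h2 := hcez h1
    show (e * _ * e⁻¹)⁻¹ * (e * (u : G) * e⁻¹) ∈ Zc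
    convert h1 using 1
    conv_rhs => rw [← h2]
    simp [mul_assoc]
  have hφi : ∀ (i : ℕ) (u : U), φ^[i] (QuotientGroup.mk u) = QuotientGroup.mk (ce^[i] u) := fun i u => by
    induction i with
    | zero => rfl
    | succ i ih => rw [Function.iterate_succ_apply', ih, hφ, Function.iterate_succ_apply']
  have hcei : ∀ (i : ℕ) (u : U), ((ce^[i] u : U) : G) = e ^ i * u * (e ^ i)⁻¹ := fun i u => by
    induction i with
    | zero => simp
    | succ i ih =>
      rw [Function.iterate_succ_apply', show ((ce (ce^[i] u) : U) : G) = e * (ce^[i] u : U) * e⁻¹ from rfl,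
        ih, pow_succ']
      group
  have hφp : ∀ x, φ^[p] x = x := fun x => by
    obtain ⟨u, rfl⟩ := QuotientGroup.mk_surjective x
    rw [hφi]
    exact congrArg _ (Subtype.ext (by rw [hcei, he, one_mul, inv_one, mul_one]))
  have hφne : ∀ x, φ x = x → x = 1 := fun x hx => by
    obtain ⟨u, rfl⟩ := QuotientGroup.mk_surjective x
    rw [hφ, hclass] at hx
    refine (QuotientGroup.eq_one_iff u).2 (hfp _ u.2 ?_)
    have hx' : (e * (u : G) * e⁻¹)⁻¹ * u ∈ Zc := hx
    show ⁅(u : G), e⁆ ∈ Zc
    rw [show ⁅(u : G), e⁆ = (u : G) * ((e * (u : G) * e⁻¹)⁻¹ * u) * (u : G)⁻¹ by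
      rw [commutatorElement_def]; group, ← hcZ hx' u.2, mul_inv_cancel_right]
    exact hx'
  obtain ⟨S, -, hScard, hScov⟩ := exists_reps φ hp hφp (Finset.univ.erase (1 : Q))
    (fun x hx => Finset.mem_erase.2 ⟨fun h1 => (Finset.mem_erase.1 hx).1 (hφne x (by
      have : φ^[p] x = 1 := by
        rw [show p = p - 1 + 1 by have := hp.pos; omega, Function.iterate_succ_apply, h1]
        rw [show (1 : Q) = QuotientGroup.mk 1 from rfl, hφi]
        exact congrArg _ (Subtype.ext (by rw [hcei]; simp))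
      rw [hφp] at this
      rw [h1, this])), Finset.mem_univ _⟩)
    (fun x hx h1 => (Finset.mem_erase.1 hx).1 (hφne x h1))
  rw [Finset.card_erase_of_mem (Finset.mem_univ _), Finset.card_univ] at hScard
  -- upper bound for the centralizer of `e`
  let C : Submodule F (Module.End F M) :=
    { carrier := {f | σ e * f = f * σ e}
      add_mem' := fun {a b} ha hb => by
        show σ e * (a + b) = (a + b) * σ e
        rw [mul_add, add_mul, show σ e * a = a * σ e from ha, show σ e * b = b * σ e from hb]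
      zero_mem' := by show σ e * 0 = 0 * σ e; rw [mul_zero, zero_mul]
      smul_mem' := fun c f hf => by
        show σ e * (c • f) = (c • f) * σ e
        rw [mul_smul_comm, smul_mul_assoc, show σ e * f = f * σ e from hf] }
  have hup : Module.finrank F C ≤ (S.card + 1) * Module.finrank F B := by
    let Λ : C →ₗ[F] (↥(insert (1 : Q) S) → B) := LinearMap.pi fun x =>
      ((π (x : Q).out).comp C.subtype).codRestrict B fun f => hπB _ _
    have hinjΛ : Function.Injective Λ := by
      rw [← LinearMap.ker_eq_bot, LinearMap.ker_eq_bot']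
      rintro ⟨f, hf⟩ hΛ
      have hbase : ∀ x ∈ insert (1 : Q) S, π x.out f = 0 := fun x hx =>
        congrArg Subtype.val (congrFun hΛ ⟨x, hx⟩)
      have hstep : ∀ u : U, π u f = 0 → π (ce u) f = 0 := by
        intro u hu
        have hbij : Function.Bijective ce := Finite.injective_iff_bijective.1 fun a b hab =>
          Subtype.ext (mul_left_cancel (mul_right_cancel (congrArg Subtype.val hab)))
        have hfe : f = σ e * f * σ e⁻¹ := by rw [show σ e * f = f * σ e from hf, mul_assoc, hσinv', mul_one]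
        have h1 : π (ce u) f = σ e * π u f * σ e⁻¹ := by
          rw [hπ, hπ, Finset.mul_sum, Finset.sum_mul]
          rw [← Function.Bijective.sum_comp hbij]
          refine Finset.sum_congr rfl fun y _ => ?_
          conv_lhs => rw [hfe]
          simp only [ce, mul_inv_rev, inv_inv, map_mul, mul_assoc]
          simp only [← mul_assoc (σ e⁻¹) (σ e), hσinv, one_mul]
        rw [h1, hu, mul_zero, zero_mul]
      have hall : ∀ u : U, π u f = 0 := by
        intro u
        by_cases hu : (QuotientGroup.mk u : Q) = 1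
        · refine hπz (1 : Q).out u ?_ f (hbase 1 (Finset.mem_insert_self _ _))
          rw [QuotientGroup.out_eq', hu]
        · obtain ⟨x, hx, i, hi⟩ := hScov _ (Finset.mem_erase.2 ⟨hu, Finset.mem_univ _⟩)
          have h1 : ∀ j, π (ce^[j] x.out) f = 0 := fun j => by
            induction j with
            | zero => exact hbase x (Finset.mem_insert_of_mem hx)
            | succ j ih => rw [Function.iterate_succ_apply']; exact hstep _ ih
          refine hπz _ u ?_ f (h1 i)
          rw [← hφi, QuotientGroup.out_eq', hi]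
      have h2 := hrecon f
      rw [Finset.sum_eq_zero fun x _ => by rw [hall x, zero_mul], eq_comm, smul_eq_zero,
        smul_eq_zero] at h2
      refine Subtype.ext ((h2.resolve_left ?_).resolve_left hn0)
      obtain ⟨k, hk⟩ := IsPGroup.iff_card.1 (hU.to_subgroup (Zc.subgroupOf U))
      have e1 : (Finset.univ.filter fun y : U => (y : G) ∈ Zc).card = q ^ k := by
        rw [← hk, Nat.card_eq_fintype_card, ← Fintype.card_subtype]
        exact Fintype.card_congr (Equiv.refl _)
      rw [e1, Nat.cast_pow]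
      exact pow_ne_zero k hqF
    refine (LinearMap.finrank_le_finrank_of_injective hinjΛ).trans ?_
    rw [Module.finrank_pi_fintype, Finset.sum_const, Finset.card_univ, smul_eq_mul, Fintype.card_coe]
    exact Nat.mul_le_mul_right _ (Finset.card_insert_le _ _)
  -- eigenspaces of `e`
  have hp0 := hp.pos
  set E := σ e with hE
  have hEp : E ^ p = 1 := by rw [hE, ← map_pow, he, map_one]
  let P : ℕ → Module.End F M := fun j =>
    (p : F)⁻¹ • ∑ i ∈ Finset.range p, ((ζ ^ j)⁻¹ • E) ^ i
  have hζ0 : ζ ≠ 0 := hζ.ne_zero hp.ne_zero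
  have hgeom : ∀ {x : F}, x ^ p = 1 → x ≠ 1 → ∑ i ∈ Finset.range p, x ^ i = 0 := fun {x} hx hx1 => by
    rw [geom_sum_eq hx1, hx, sub_self, zero_div]
  have hηp : ∀ j : ℕ, ((ζ ^ j)⁻¹) ^ p = 1 := fun j => by
    rw [inv_pow, ← pow_mul, mul_comm, pow_mul, hζ.pow_eq_one, one_pow, inv_one]
  have hEP : ∀ j, E * P j = ζ ^ j • P j := by
    intro j
    have hkey : ((ζ ^ j)⁻¹ • E) * P j = P j := by
      show ((ζ ^ j)⁻¹ • E) * ((p : F)⁻¹ • ∑ i ∈ Finset.range p, ((ζ ^ j)⁻¹ • E) ^ i) = _
      rw [mul_smul_comm, Finset.mul_sum]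
      refine congrArg _ ?_
      have h1 := Finset.sum_range_succ' (fun i => ((ζ ^ j)⁻¹ • E) ^ i) p
      rw [Finset.sum_range_succ, smul_pow, hηp, hEp, one_smul, pow_zero] at h1
      conv_lhs => arg 2; ext i; rw [← pow_succ']
      exact (add_right_cancel h1).symm
    conv_rhs => rw [← hkey, smul_mul_assoc, smul_smul, mul_inv_cancel₀ (pow_ne_zero _ hζ0), one_smul]
  have hPE : ∀ j, P j * E = E * P j := fun j => by
    show ((p : F)⁻¹ • ∑ i ∈ Finset.range p, ((ζ ^ j)⁻¹ • E) ^ i) * E = _
    rw [smul_mul_assoc, mul_smul_comm, Finset.sum_mul, Finset.mul_sum]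
    congr 1
    exact Finset.sum_congr rfl fun i _ => (((Commute.refl E).smul_left _).pow_left i).eq
  have hPsum : ∑ j ∈ Finset.range p, P j = 1 := by
    show ∑ j ∈ Finset.range p, (p : F)⁻¹ • ∑ i ∈ Finset.range p, ((ζ ^ j)⁻¹ • E) ^ i = 1
    rw [← Finset.smul_sum, Finset.sum_comm, Finset.sum_eq_single 0]
    · simp only [pow_zero, Finset.sum_const, Finset.card_range]
      rw [← Nat.cast_smul_eq_nsmul F, smul_smul, inv_mul_cancel₀ hpF, one_smul]
    · intro i hi hi0
      rw [Finset.sum_congr rfl fun j _ => by rw [smul_pow], ← Finset.sum_smul]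
      have h1 : ∑ j ∈ Finset.range p, ((ζ ^ j)⁻¹) ^ i = ∑ j ∈ Finset.range p, ((ζ ^ i)⁻¹) ^ j :=
        Finset.sum_congr rfl fun j _ => by rw [inv_pow, inv_pow, ← pow_mul, ← pow_mul, mul_comm]
      rw [h1, hgeom (hηp i) fun h => hi0 ?_, zero_smul]
      rw [inv_eq_one] at h
      exact Nat.eq_zero_of_dvd_of_lt ((hζ.pow_eq_one_iff_dvd i).1 h) (Finset.mem_range.1 hi)
    · intro h; exact absurd (Finset.mem_range.2 hp.pos) h
  let W : ℕ → Submodule F M := fun j => LinearMap.ker (E - ζ ^ j • 1)
  have hmemW : ∀ {j m}, m ∈ W j ↔ E m = ζ ^ j • m := fun {j m} => by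
    show (E - ζ ^ j • 1) m = 0 ↔ _
    rw [LinearMap.sub_apply, sub_eq_zero]; rfl
  have hPW : ∀ j m, P j m ∈ W j := fun j m => hmemW.2 (LinearMap.congr_fun (hEP j) m)
  have hP0 : P 0 = 0 := LinearMap.ext fun m => by
    have h1 := hmemW.1 (hPW 0 m)
    rw [pow_zero, one_smul] at h1
    exact hfix _ h1
  have hPfix : ∀ i < p, ∀ j < p, ∀ w ∈ W j, P i w = if i = j then w else 0 := by
    intro i hi j hj w hw
    have h1 : ∀ k : ℕ, (((ζ ^ i)⁻¹ • E) ^ k) w = ((ζ ^ i)⁻¹ * ζ ^ j) ^ k • w := fun k => by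
      induction k with
      | zero => simp
      | succ k ih =>
        rw [pow_succ', Module.End.mul_apply, ih, map_smul, LinearMap.smul_apply, hmemW.1 hw,
          smul_smul, smul_smul, pow_succ, mul_assoc]
    show ((p : F)⁻¹ • ∑ k ∈ Finset.range p, ((ζ ^ i)⁻¹ • E) ^ k) w = _
    rw [LinearMap.smul_apply, LinearMap.coe_sum, Finset.sum_apply,
      Finset.sum_congr rfl fun k _ => h1 k, ← Finset.sum_smul, smul_smul]
    by_cases hij : i = j
    · subst hij
      rw [if_pos rfl, inv_mul_cancel₀ (pow_ne_zero _ hζ0)]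
      simp [inv_mul_cancel₀ hpF]
    · rw [if_neg hij, hgeom, mul_zero, zero_smul]
      · rw [mul_pow, hηp, ← pow_mul, mul_comm j, pow_mul, hζ.pow_eq_one, one_pow, mul_one]
      · intro h
        exact hij (hζ.pow_inj hi hj ((inv_mul_eq_one₀ (pow_ne_zero _ hζ0)).1 h))
  let Pr : ∀ j, M →ₗ[F] W j := fun j => LinearMap.codRestrict (W j) (P j) (hPW j)
  set J := Finset.Ico 1 p
  have hdsum : Module.finrank F M ≤ ∑ j ∈ J, Module.finrank F (W j) := by
    have hi : Function.Injective (LinearMap.pi fun j : J => Pr j) := by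
      rw [← LinearMap.ker_eq_bot, LinearMap.ker_eq_bot']
      intro m hm
      have h1 := LinearMap.congr_fun hPsum m
      rw [LinearMap.coe_sum, Finset.sum_apply, Finset.sum_eq_zero fun j hj => ?_] at h1
      · exact h1.symm
      rcases Nat.eq_zero_or_pos j with rfl | hj0
      · rw [hP0, LinearMap.zero_apply]
      · exact congrArg Subtype.val (congrFun hm ⟨j, Finset.mem_Ico.2 ⟨hj0, Finset.mem_range.1 hj⟩⟩)
    refine (LinearMap.finrank_le_finrank_of_injective hi).trans ?_
    rw [Module.finrank_pi_fintype]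
    exact (Finset.sum_coe_sort J fun j => Module.finrank F (W j)).le
  have hCsum : ∑ j ∈ J, Module.finrank F (W j) ^ 2 ≤ Module.finrank F C := by
    let ι' : ∀ j : J, (W j →ₗ[F] W j) →ₗ[F] Module.End F M := fun j =>
      { toFun := fun f => (W j).subtype.comp (f.comp (Pr j))
        map_add' := fun f g => by rw [LinearMap.add_comp, LinearMap.comp_add]
        map_smul' := fun c f => by rw [LinearMap.smul_comp, LinearMap.comp_smul]; rfl }
    let Ψ : (∀ j : J, W j →ₗ[F] W j) →ₗ[F] Module.End F M :=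
      ∑ j : J, (ι' j).comp (LinearMap.proj j)
    have hΨ : ∀ g m, Ψ g m = ∑ j : J, ((g j (Pr j m) : W j) : M) := fun g m => by
      simp only [Ψ, LinearMap.coe_sum, Finset.sum_apply, LinearMap.comp_apply]
      rfl
    have hΨC : ∀ g, Ψ g ∈ C := fun g => LinearMap.ext fun m => by
      show E (Ψ g m) = Ψ g (E m)
      rw [hΨ, hΨ, map_sum]
      refine Finset.sum_congr rfl fun j _ => ?_
      rw [hmemW.1 (g j (Pr j m)).2]
      have h1 : Pr j (E m) = ζ ^ (j : ℕ) • Pr j m := Subtype.ext (by
        show (P j * E) m = ζ ^ (j : ℕ) • P j m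
        rw [hPE, hEP]; rfl)
      rw [h1, map_smul, Submodule.coe_smul]
    have hi : Function.Injective (Ψ.codRestrict C hΨC) := by
      rw [← LinearMap.ker_eq_bot, LinearMap.ker_eq_bot']
      intro g hg
      funext j₀
      refine LinearMap.ext fun w => Subtype.ext ?_
      have h1 : Ψ g (w : M) = 0 := LinearMap.congr_fun (congrArg Subtype.val hg) (w : M)
      rw [hΨ, Finset.sum_eq_single j₀] at h1
      · have h2 : Pr j₀ (w : M) = w := Subtype.ext (by
          show P j₀ (w : M) = w
          rw [hPfix _ (Finset.mem_Ico.1 j₀.2).2 _ (Finset.mem_Ico.1 j₀.2).2 w w.2, if_pos rfl])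
        rwa [h2] at h1
      · intro j _ hj
        have h2 : Pr j (w : M) = 0 := Subtype.ext (by
          show P j (w : M) = 0
          rw [hPfix _ (Finset.mem_Ico.1 j.2).2 _ (Finset.mem_Ico.1 j₀.2).2 w w.2,
            if_neg fun h => hj (Subtype.ext h)])
        rw [h2, map_zero]; rfl
      · intro h; exact absurd (Finset.mem_univ _) h
    refine le_trans ?_ (LinearMap.finrank_le_finrank_of_injective hi)
    rw [Module.finrank_pi_fintype, ← Finset.sum_coe_sort J fun j => Module.finrank F (W j) ^ 2]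
    exact (Finset.sum_congr rfl fun j _ => by rw [Module.finrank_linearMap, pow_two]).le
  -- arithmetic
  have hchain : Fintype.card Q * Module.finrank F B ≤
      (p - 1) * ((S.card + 1) * Module.finrank F B) := by
    refine hlow.trans ?_
    calc Module.finrank F M * Module.finrank F M
        ≤ (∑ j ∈ J, Module.finrank F (W j)) ^ 2 := by rw [pow_two]; exact Nat.mul_le_mul hdsum hdsum
      _ ≤ J.card * ∑ j ∈ J, Module.finrank F (W j) ^ 2 := sq_sum_le_card_mul_sum_sq
      _ ≤ (p - 1) * Module.finrank F C := by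
          rw [Nat.card_Ico]; exact Nat.mul_le_mul_left _ hCsum
      _ ≤ _ := Nat.mul_le_mul_left _ hup
  have hB0 : 0 < Module.finrank F B := by
    haveI : Nontrivial B := nontrivial_of_ne (⟨1, fun u _ => by rw [mul_one, one_mul]⟩ : B) 0
      fun h => one_ne_zero (α := Module.End F M) (congrArg Subtype.val h)
    exact Module.finrank_pos
  rw [← mul_assoc] at hchain
  have h3 := Nat.le_of_mul_le_mul_right hchain hB0
  -- the square
  obtain ⟨k, hk⟩ : ∃ k, (Zc.subgroupOf U).index = k * k := by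
    choose bf hbf using fun uv : U × U => hscal _ (hb uv.1 uv.2)
    have hone : ∀ {x y : U}, σ ⁅(x : G), (y : G)⁆ = 1 ↔ bf (x, y) = 1 := fun {x y} =>
      ⟨fun h => hinj (by rw [← hbf, h, one_smul]), fun h => by
        rw [hbf (x, y), h, one_smul]⟩
    refine index_square (Zc.subgroupOf U) ?_ (fun a b => bf (a, b)) ?_ ?_ ?_ ?_ ?_ ?_
    · rw [← map_le_map_iff_of_injective U.subtype_injective, map_subtype_commutator,
        map_subgroupOf_eq_of_le hZU.le]
      exact hder
    · intro a b c
      refine hinj ?_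
      rw [← hbf, show (a * b, c).1 = a * b from rfl, hmul, map_mul, hbf (a, c), hbf (b, c),
        smul_mul_assoc, one_mul, smul_smul]
    · intro a b c
      refine hinj ?_
      rw [← hbf, show (a, b * c).2 = b * c from rfl, hmul', map_mul, hbf (a, b), hbf (a, c),
        smul_mul_assoc, one_mul, smul_smul]
    · exact fun a => ⟨hone.1 (by simp), hone.1 (by simp)⟩
    · exact fun a => hone.1 (by simp)
    · intro a b h
      refine hone.1 ?_
      rw [← commutatorElement_inv, ← hσinv ⁅(a : G), (b : G)⁆, hone.2 h, mul_one]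
    · intro a
      refine ⟨fun ha b => hone.1 ?_, fun h => hnd _ a.2 fun v hv => hone.2 (h ⟨v, hv⟩)⟩
      rw [commutatorElement_eq_one_iff_mul_comm.2 (hcZ (show (a : G) ∈ Zc from ha) b.2), map_one]
  have hQ : Fintype.card Q = k * k := by rw [← Nat.card_eq_fintype_card, ← hk]; rfl
  have hk1 : 1 < k := by
    by_contra hle
    have : k * k ≤ 1 := Nat.mul_le_mul (not_lt.1 hle) (not_lt.1 hle)
    have h1 : (Zc.subgroupOf U).index = 1 := le_antisymm (hk ▸ this) (Nat.pos_of_ne_zero index_ne_zero_of_finite)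
    exact hZU.not_ge (relIndex_eq_one.1 h1)
  have hkodd : ¬ 2 ∣ k := fun h2 => by
    have h4 : (Zc.subgroupOf U).index ∣ Nat.card U := index_dvd_card _
    obtain ⟨m, hm⟩ := IsPGroup.iff_card.1 hU
    rw [hm, hk] at h4
    exact hq2 ((Nat.prime_dvd_prime_iff_eq Nat.prime_two hq).1
      (Nat.prime_two.dvd_of_dvd_pow ((h2.trans (dvd_mul_left k k)).trans h4))).symm
  rw [hQ] at hScard h3
  obtain ⟨r, rfl⟩ : ∃ r, p = r + 1 := ⟨p - 1, by omega⟩
  rw [Nat.add_sub_cancel] at h3
  have hkk : k * k = S.card * (r + 1) + 1 := by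
    have : 0 < k * k := Nat.mul_pos (by omega) (by omega)
    omega
  have hle : k * k ≤ r * r := by nlinarith
  have hkr : k ≤ r := Nat.mul_self_le_mul_self_iff.1 hle
  have hd : r + 1 ∣ (k - 1) * (k + 1) := ⟨S.card, by
    obtain ⟨j, rfl⟩ : ∃ j, k = j + 1 := ⟨k - 1, by omega⟩
    rw [Nat.add_sub_cancel]; nlinarith⟩
  rcases hp.dvd_mul.1 hd with h | h
  · exact absurd (Nat.le_of_dvd (by omega) h) (by omega)
  · have h5 : k + 1 = r + 1 := le_antisymm (by omega) (Nat.le_of_dvd (by omega) h)
    rcases hp.eq_two_or_odd with h6 | h6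
    · omega
    · exact hkodd (by omega)

end CfsgLib.Comp.SFT.HH
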