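import Cfsg.Agent.Lib.Comp.SFT.Frob
import Cfsg.Agent.Lib.Comp.SFT.HHCore

/-!
A theorem of Hall–Higman type: a group of odd prime-power order centralizing the fixed points of an
automorphism `e` of prime order on a coprime group has `⁅U, e⁆` centralizing that group.
-/

set_option autoImplicit false
set_option linter.style.haveILetI false
set_option linter.unusedSectionVars false

universe u

namespace CfsgLib.Comp.SFT

open Subgroup
open scoped commutatorElement

section Endo

theorem eq_zero_of_range_fix {H : Type*} [Group H] [Finite H] {W : Type*} [AddCommGroup W] [Finite W]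
    (ρ : H →* AddMonoid.End W) {c : H} (hn : (orderOf c).Coprime (Nat.card W)) {w v : W}
    (hv : ρ c v - v = w) (hw : ρ c w = w) : w = 0 := by
  have h1 : ∀ n : ℕ, ρ (c ^ n) v = v + n • w := by
    intro n
    induction n with
    | zero => rw [pow_zero, rho_one, zero_nsmul, add_zero]
    | succ n ih =>
      rw [pow_succ', rho_mul, ih, succ_nsmul]
      rw [map_add, map_nsmul, hw, sub_eq_iff_eq_add.1 hv]
      abel
  have h2 := h1 (orderOf c)
  rw [pow_orderOf_eq_one, rho_one, left_eq_add] at h2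
  exact eq_of_coprime_nsmul hn (h2.trans (nsmul_zero _).symm)

/-- The faithful case. -/
theorem hh_faithful {H : Type*} [Group H] [Finite H] {W : Type*} [AddCommGroup W] [Finite W]
    (ρ : H →* AddMonoid.End W) (hinj : Function.Injective ρ) {p q : ℕ} (hp : p.Prime) (hq : q.Prime)
    (hq2 : q ≠ 2) (hqp : q ≠ p) {e : H} (he : e ^ p = 1) (U : Subgroup H) (hU : IsPGroup q U)
    (heU : e ∈ normalizer (U : Set H)) (hcop : (Nat.card U).Coprime (Nat.card W))
    (hWp : (Nat.card W).Coprime p) (hfix : ∀ w, ρ e w = w → ∀ x ∈ U, ρ x w = w) :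
    ⁅U, zpowers e⁆ = ⊥ := by
  classical
  induction hm : Nat.card U using Nat.strong_induction_on generalizing U with
  | _ m ih =>
  subst hm
  haveI := Fact.mk hp
  haveI := Fact.mk hq
  haveI : NeZero p := ⟨hp.ne_zero⟩
  have hUe : zpowers e ≤ normalizer (U : Set H) := zpowers_le.2 heU
  have hle : ⁅U, zpowers e⁆ ≤ U := commutator_le_of_le_normalizer hUe
  have hUp : (Nat.card U).Coprime p := by
    obtain ⟨n, hn⟩ := IsPGroup.iff_card.1 hU
    rw [hn]
    exact Nat.Coprime.pow_left _ ((Nat.coprime_primes hq hp).2 hqp)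
  have hZcop : (Nat.card (zpowers e)).Coprime (Nat.card U) := by
    rw [Nat.card_zpowers]
    exact (hUp.coprime_dvd_right (orderOf_dvd_of_pow_eq_one he)).symm
  haveI := hU.isNilpotent
  have hUs : Group.IsSolvable U := inferInstance
  by_contra hne
  have hsub : ∀ Y < U, e ∈ normalizer (Y : Set H) → ⁅Y, zpowers e⁆ = ⊥ := fun Y hY heY =>
    ih _ (lt_of_le_of_ne (card_le_of_le hY.le) fun h => hY.ne (eq_of_le_of_card_ge hY.le h.ge)) Y
      (hU.to_le hY.le) heY (hcop.coprime_dvd_left (card_dvd_of_le hY.le))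
      (fun w hw x hx => hfix w hw x (hY.le hx)) rfl
  have hUeq : ⁅U, zpowers e⁆ = U := by
    refine eq_of_le_of_not_lt hle fun hlt => hne ?_
    have h1 := hsub _ hlt (normalizer_commutator_ge_right U (zpowers e) (mem_zpowers e))
    rwa [CfsgLib.Coprime.commutator_commutator_eq hUe hZcop (Or.inr hUs)] at h1
  have hU0 : U ≠ ⊥ := fun h => hne (by rw [h, commutator_bot_left])
  have hthree : ∀ Y ≤ U, U ≤ normalizer (Y : Set H) → ⁅Y, zpowers e⁆ = ⊥ →
      Y ≤ centralizer (U : Set H) := by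
    intro Y _ hUY hYe
    rw [le_centralizer_iff, ← commutator_eq_bot_iff_le_centralizer, ← hUeq]
    refine commutator_commutator_eq_bot_of_rotate ?_ ?_
    · rw [commutator_comm (zpowers e) Y, hYe, commutator_bot_left]
    · refine le_bot_iff.1 ((commutator_mono ?_ le_rfl).trans hYe.le)
      exact commutator_le_of_le_normalizer hUY
  set Zc := U ⊓ centralizer ({e} : Set H) with hZcdef
  have heD : e ∈ normalizer ((⁅U, U⁆ : Subgroup H) : Set H) := derived_norm' U heU
  have hDlt : ⁅U, U⁆ < U := lt_of_le_of_ne (commutator_le_self U) fun h =>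
    hU0 (eq_bot_of_perfect_of_isSolvable' h hUs)
  have hder : ⁅U, U⁆ ≤ Zc := le_inf (commutator_le_self U) (by
    rw [← centralizer_zpowers e, ← commutator_eq_bot_iff_le_centralizer]
    exact hsub _ hDlt heD)
  have hZce : ⁅Zc, zpowers e⁆ = ⊥ := by
    rw [commutator_eq_bot_iff_le_centralizer, centralizer_zpowers]
    exact inf_le_right
  have hZcU : Zc ≤ centralizer (U : Set H) := hthree Zc inf_le_left
    (le_normalizer_iff_commutator_le_left.2 ((commutator_mono inf_le_left le_rfl).trans hder)) hZce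
  have hZlt : Zc < U := lt_of_le_of_ne inf_le_left fun h => hne (by rw [← h]; exact hZce)
  have hfp : ∀ u ∈ U, ⁅u, e⁆ ∈ Zc → u ∈ Zc := by
    intro u hu hc
    refine ⟨hu, mem_centralizer_singleton_iff.2 ?_⟩
    have hce : Commute ⁅u, e⁆ e := (mem_centralizer_singleton_iff.1 hc.2 : _)
    have h1 : ⁅u, e⁆ ^ p = 1 := by
      have h2 : (⁅u, e⁆ * e) ^ p = 1 := by
        rw [show ⁅u, e⁆ * e = u * e * u⁻¹ by rw [commutatorElement_def]; group, conj_pow, he, mul_one,
          mul_inv_cancel]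
      rwa [hce.mul_pow, he, mul_one] at h2
    have h3 : orderOf ⁅u, e⁆ ∣ Nat.card U := by
      have := _root_.orderOf_dvd_natCard (⟨_, hc.1⟩ : U)
      rwa [← orderOf_coe] at this
    exact commutatorElement_eq_one_iff_mul_comm.1 (orderOf_eq_one_iff.1
      (Nat.eq_one_of_dvd_coprimes hUp h3 (orderOf_dvd_of_pow_eq_one h1)))
  -- the abelian case
  have hD0 : ⁅U, U⁆ ≠ ⊥ := by
    intro hD
    have hab : IsMulCommutative U := ⟨⟨fun a b => Subtype.ext
      (mem_centralizer_iff.1 (commutator_eq_bot_iff_le_centralizer.1 hD b.2) (a : H) a.2)⟩⟩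
    have hfpf := CfsgLib.Coprime.commutator_inf_centralizer_eq_bot hab hUe hZcop
    rw [hUeq, centralizer_zpowers] at hfpf
    refine hU0 (le_bot_iff.1 fun x hx => mem_bot.2 (hinj ?_))
    rw [map_one]
    refine trivial_of_fpf ρ hp he heU (fun y hy hye => ?_) hcop hfix x hx
    rw [← mem_bot, ← hfpf]
    exact ⟨hy, mem_centralizer_singleton_iff.2 hye.eq⟩
  obtain ⟨c, hcD, hc1⟩ := exists_mem_ne_one hD0
  have hcU : c ∈ U := commutator_le_self U hcD
  have hcZ := hder hcD
  have hcW : (orderOf c).Coprime (Nat.card W) := hcop.coprime_dvd_left (by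
    have := _root_.orderOf_dvd_natCard (⟨c, hcU⟩ : U)
    rwa [← orderOf_coe] at this)
  -- the space
  let ρ2 : H →* AddMonoid.End (ZMod p → W) :=
    { toFun := fun g => AddMonoidHom.compLeft (ρ g) (ZMod p)
      map_one' := AddMonoidHom.ext fun f => funext fun i => rho_one ρ (f i)
      map_mul' := fun g g' => AddMonoidHom.ext fun f => funext fun i => rho_mul ρ g g' (f i) }
  have hρ2 : ∀ g f i, ρ2 g f i = ρ g (f i) := fun _ _ _ => rfl
  let S : AddMonoid.End (ZMod p → W) :=
    { toFun := fun f i => f (i + 1), map_zero' := rfl, map_add' := fun _ _ => rfl }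
  have hcomm : ∀ g, g ∈ U ∨ g = e → Commute g c := by
    rintro g (hg | rfl)
    · exact mem_centralizer_iff.1 (hZcU hcZ) g hg
    · exact (mem_centralizer_singleton_iff.1 hcZ.2).symm
  let L0 : AddSubgroup (ZMod p → W) :=
    { carrier := {f | (∀ i, ∃ v, ρ c v - v = f i) ∧ ∑ i, f i = 0}
      zero_mem' := ⟨fun i => ⟨0, by rw [map_zero, sub_zero]; rfl⟩, by simp⟩
      add_mem' := by
        rintro f g ⟨hf, hf'⟩ ⟨hg, hg'⟩
        refine ⟨fun i => ?_, by simp only [Pi.add_apply]; rw [Finset.sum_add_distrib, hf', hg', add_zero]⟩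
        obtain ⟨v, hv⟩ := hf i
        obtain ⟨w, hw⟩ := hg i
        exact ⟨v + w, by rw [map_add, Pi.add_apply, ← hv, ← hw]; abel⟩
      neg_mem' := by
        rintro f ⟨hf, hf'⟩
        refine ⟨fun i => ?_, by simp only [Pi.neg_apply]; rw [Finset.sum_neg_distrib, hf', neg_zero]⟩
        obtain ⟨v, hv⟩ := hf i
        exact ⟨-v, by rw [map_neg, Pi.neg_apply, ← hv]; abel⟩ }
  let Inv : AddSubgroup (ZMod p → W) → Prop := fun Λ =>
    (∀ g, g ∈ U ∨ g = e → ∀ f ∈ Λ, ρ2 g f ∈ Λ) ∧ ∀ f ∈ Λ, S f ∈ Λ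
  have hL0inv : Inv L0 := by
    refine ⟨fun g hg f hf => ⟨fun i => ?_, ?_⟩, fun f hf => ⟨fun i => hf.1 (i + 1), ?_⟩⟩
    · obtain ⟨v, hv⟩ := hf.1 i
      refine ⟨ρ g v, ?_⟩
      rw [← rho_mul, ← (hcomm g hg).eq, rho_mul, ← map_sub, hv, hρ2]
    · show ∑ i, ρ g (f i) = 0
      rw [← map_sum, hf.2, map_zero]
    · show ∑ i, f (i + 1) = 0
      rw [← hf.2]
      exact Equiv.sum_comp (Equiv.addRight (1 : ZMod p)) f
  have h01 : (0 : ZMod p) ≠ 1 := zero_ne_one
  have hL00 : L0 ≠ ⊥ := by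
    intro hb
    refine hc1 (hinj (AddMonoidHom.ext fun v => ?_))
    rw [map_one]
    show ρ c v = v
    have hmem : (Pi.single 0 (ρ c v - v) - Pi.single 1 (ρ c v - v) : ZMod p → W) ∈ L0 := by
      have hs : ∀ (j : ZMod p) (i : ZMod p), ∃ u, ρ c u - u = Pi.single (M := fun _ => W) j (ρ c v - v) i := by
        intro j i
        by_cases hij : i = j
        · exact ⟨v, by rw [hij, Pi.single_eq_same]⟩
        · exact ⟨0, by rw [map_zero, sub_zero, Pi.single_eq_of_ne hij]⟩
      refine ⟨fun i => ?_, ?_⟩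
      · obtain ⟨u, hu⟩ := hs 0 i
        obtain ⟨u', hu'⟩ := hs 1 i
        exact ⟨u - u', by rw [map_sub, Pi.sub_apply, ← hu, ← hu']; abel⟩
      · simp [Finset.sum_sub_distrib]
    rw [hb, AddSubgroup.mem_bot] at hmem
    have h1 := congrFun hmem 0
    rw [Pi.sub_apply, Pi.single_eq_same, Pi.single_eq_of_ne h01, sub_zero, Pi.zero_apply, sub_eq_zero] at h1
    exact h1
  obtain ⟨Λ, hΛ⟩ := (Set.toFinite {Λ : AddSubgroup (ZMod p → W) | Λ ≤ L0 ∧ Λ ≠ ⊥ ∧ Inv Λ}).exists_minimal
    ⟨L0, le_rfl, hL00, hL0inv⟩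
  obtain ⟨hΛL, hΛ0, hΛg, hΛS⟩ := hΛ.prop
  haveI : Nontrivial Λ := (AddSubgroup.nontrivial_iff_ne_bot Λ).2 hΛ0
  set K := U ⊔ zpowers e with hKdef
  have hUK : U ≤ K := le_sup_left
  have heK : e ∈ K := mem_sup_right (mem_zpowers e)
  let St : Subgroup H :=
    { carrier := {g | ∀ f ∈ Λ, ρ2 g f ∈ Λ}
      one_mem' := fun f hf => by rw [rho_one ρ2]; exact hf
      mul_mem' := fun {a b} ha hb f hf => by rw [rho_mul ρ2]; exact ha _ (hb _ hf)
      inv_mem' := fun {a} ha => by
        have h1 : ∀ n : ℕ, ∀ f ∈ Λ, ρ2 (a ^ n) f ∈ Λ := fun n => by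
          induction n with
          | zero => intro f hf; rw [pow_zero, rho_one ρ2]; exact hf
          | succ n ihn => intro f hf; rw [pow_succ', rho_mul ρ2]; exact ha _ (ihn f hf)
        obtain ⟨n, hn⟩ := (isOfFinOrder_of_finite a).mem_powers_iff_mem_zpowers.2
          (inv_mem (mem_zpowers a))
        show ∀ f ∈ Λ, ρ2 a⁻¹ f ∈ Λ
        rw [← show a ^ n = a⁻¹ from hn]
        exact h1 n }
  have hKSt : K ≤ St := sup_le (fun g hg => hΛg g (Or.inl hg)) (zpowers_le.2 (hΛg e (Or.inr rfl)))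
  let rM : K →* AddMonoid.End Λ :=
    { toFun := fun g => ((ρ2 g : (ZMod p → W) →+ (ZMod p → W)).comp Λ.subtype).codRestrict Λ
        fun f => hKSt g.2 f f.2
      map_one' := AddMonoidHom.ext fun f => Subtype.ext (rho_one ρ2 (f : ZMod p → W))
      map_mul' := fun g g' => AddMonoidHom.ext fun f => Subtype.ext
        (rho_mul ρ2 (g : H) g' (f : ZMod p → W)) }
  have hrM : ∀ (g : K) (f : Λ) i, ((rM g f : Λ) : ZMod p → W) i = ρ g ((f : ZMod p → W) i) :=
    fun _ _ _ => rfl
  let sM : AddMonoid.End Λ :=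
    ((S : (ZMod p → W) →+ (ZMod p → W)).comp Λ.subtype).codRestrict Λ fun f => hΛS f f.2
  have hsM : ∀ (f : Λ) i, ((sM f : Λ) : ZMod p → W) i = (f : ZMod p → W) (i + 1) := fun _ _ => rfl
  have hsr : ∀ g : K, sM * rM g = rM g * sM := fun g =>
    AddMonoidHom.ext fun f => Subtype.ext rfl
  let gens : Set (AddMonoid.End Λ) := insert sM (rM '' {z : K | (z : H) ∈ Zc})
  have hzcomm : ∀ z : K, (z : H) ∈ Zc → ∀ g : K, rM z * rM g = rM g * rM z := by
    intro z hz
    suffices h : (⊤ : Subgroup K) ≤ (centralizer ({z} : Set K)) by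
      intro g
      rw [← map_mul, ← map_mul, mem_centralizer_singleton_iff.1 (h (mem_top g))]
    intro g _
    rw [mem_centralizer_singleton_iff]
    refine Subtype.ext ?_
    show (g : H) * z = z * g
    have h1 : K ≤ centralizer ({(z : H)} : Set H) := by
      refine sup_le (fun u hu => ?_) (zpowers_le.2 ?_)
      · rw [mem_centralizer_singleton_iff]
        exact mem_centralizer_iff.1 (hZcU hz) u hu
      · rw [mem_centralizer_singleton_iff]
        exact (mem_centralizer_singleton_iff.1 hz.2).symm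
    exact mem_centralizer_singleton_iff.1 (h1 g.2)
  have hgcomm : ∀ x ∈ gens, ∀ y ∈ gens, x * y = y * x := by
    rintro x (rfl | ⟨z, hz, rfl⟩) y (rfl | ⟨z', hz', rfl⟩)
    · rfl
    · exact hsr z'
    · exact (hsr z).symm
    · exact hzcomm z hz z'
  let 𝔽 := Subring.closure gens
  have hcen : ∀ φ ∈ 𝔽, φ * sM = sM * φ ∧ ∀ g : K, φ * rM g = rM g * φ := by
    intro φ hφ
    have h1 : 𝔽 ≤ Subring.centralizer (insert sM (Set.range rM)) := Subring.closure_le.2 (by
      rintro x (rfl | ⟨z, hz, rfl⟩)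
      · refine Subring.mem_centralizer_iff.2 ?_
        rintro y (rfl | ⟨g, rfl⟩)
        · rfl
        · exact (hsr g).symm
      · refine Subring.mem_centralizer_iff.2 ?_
        rintro y (rfl | ⟨g, rfl⟩)
        · exact hsr z
        · exact (hzcomm z hz g).symm)
    exact ⟨(Subring.mem_centralizer_iff.1 (h1 hφ) _ (Set.mem_insert _ _)).symm,
      fun g => (Subring.mem_centralizer_iff.1 (h1 hφ) _ (Set.mem_insert_of_mem _ ⟨g, rfl⟩)).symm⟩
  -- the ring is a field
  have hinjOr : ∀ φ ∈ 𝔽, φ = 0 ∨ Function.Injective φ := by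
    intro φ hφ
    obtain ⟨hφs, hφg⟩ := hcen φ hφ
    set k := (AddMonoidHom.ker (φ : Λ →+ Λ)).map Λ.subtype with hk
    by_cases hk0 : k = ⊥
    · refine Or.inr ((AddMonoidHom.ker_eq_bot_iff (φ : Λ →+ Λ)).1 ?_)
      exact (AddSubgroup.map_eq_bot_iff_of_injective _ Λ.subtype_injective).1 hk0
    · refine Or.inl (AddMonoidHom.ext fun f => ?_)
      have h1 : Λ ≤ k := hΛ.le_of_le ⟨(AddSubgroup.map_le_iff_le_comap.2 fun x _ => hΛL x.2), hk0,
        fun g hg x hx => ?_, fun x hx => ?_⟩ (AddSubgroup.map_le_iff_le_comap.2 fun x _ => x.2)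
      · obtain ⟨y, hy, e1⟩ := h1 f.2
        rw [← Subtype.ext e1]
        exact hy
      · obtain ⟨y, hy, rfl⟩ := hx
        have hgK : g ∈ K := hg.elim (fun h => hUK h) fun h => h ▸ heK
        refine ⟨rM ⟨g, hgK⟩ y, ?_, rfl⟩
        show φ (rM ⟨g, hgK⟩ y) = 0
        rw [← end_mul_apply, hφg, end_mul_apply, show φ y = 0 from hy, map_zero]
      · obtain ⟨y, hy, rfl⟩ := hx
        refine ⟨sM y, ?_, rfl⟩
        show φ (sM y) = 0
        rw [← end_mul_apply, hφs, end_mul_apply, show φ y = 0 from hy, map_zero]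
  letI : CommRing 𝔽 := Subring.closureCommRingOfComm hgcomm
  haveI : Finite (AddMonoid.End Λ) := DFunLike.finite _
  haveI : NoZeroDivisors 𝔽 := ⟨fun {a b} hab => by
    rcases hinjOr b b.2 with hb | hb
    · exact Or.inr (Subtype.ext hb)
    · refine Or.inl (Subtype.ext (AddMonoidHom.ext fun f => ?_))
      obtain ⟨f', rfl⟩ := (Finite.injective_iff_surjective.1 hb) f
      exact DFunLike.congr_fun (congrArg Subtype.val hab) f'⟩
  haveI : Nontrivial 𝔽 := ⟨⟨0, 1, fun h => by
    obtain ⟨f, hf⟩ := exists_ne (0 : Λ)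
    exact hf (DFunLike.congr_fun (congrArg Subtype.val h) f).symm⟩⟩
  haveI : IsDomain 𝔽 := NoZeroDivisors.to_isDomain _
  letI : Field 𝔽 := (Finite.isField_of_domain 𝔽).toField
  have hsmul : ∀ (a : 𝔽) (f : Λ), a • f = (a : AddMonoid.End Λ) f := fun _ _ => rfl
  let σ : K →* Module.End 𝔽 Λ :=
    { toFun := fun g =>
        { toFun := rM g
          map_add' := map_add _
          map_smul' := fun a f => by
            rw [RingHom.id_apply, hsmul, hsmul, ← end_mul_apply, ← (hcen a a.2).2 g, end_mul_apply] }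
      map_one' := LinearMap.ext fun f => DFunLike.congr_fun (map_one rM) f
      map_mul' := fun g g' => LinearMap.ext fun f => DFunLike.congr_fun (map_mul rM g g') f }
  have hσ : ∀ (g : K) (f : Λ) i, ((σ g f : Λ) : ZMod p → W) i = ρ g ((f : ZMod p → W) i) :=
    fun _ _ _ => rfl
  have hcfix : ∀ f : Λ, σ ⟨c, hUK hcU⟩ f = f → f = 0 := fun f hf => by
    refine Subtype.ext (funext fun i => ?_)
    obtain ⟨v, hv⟩ := (hΛL f.2).1 i
    refine eq_zero_of_range_fix ρ hcW hv ?_
    rw [← hσ ⟨c, hUK hcU⟩ f i, hf]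
  -- non-degeneracy
  have hnd : ∀ u ∈ U, (∀ v ∈ U, ∀ f ∈ Λ, ρ2 ⁅u, v⁆ f = f) → u ∈ Zc := by
    have hcz : ∀ {z w : H}, z ∈ Zc → w ∈ U → z * w = w * z := fun hz hw =>
      (mem_centralizer_iff.1 (hZcU hz) _ hw).symm
    let R : Subgroup H :=
      { carrier := {u | u ∈ U ∧ ∀ v ∈ U, ∀ f ∈ Λ, ρ2 ⁅u, v⁆ f = f}
        one_mem' := ⟨one_mem U, fun v _ f _ => by rw [commutatorElement_one_left, rho_one ρ2]⟩
        mul_mem' := by
          rintro a b ⟨ha, ha'⟩ ⟨hb, hb'⟩
          refine ⟨mul_mem ha hb, fun v hv f hf => ?_⟩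
          have h1 : ⁅b, v⁆ ∈ Zc := hder (commutator_mem_commutator hb hv)
          rw [show ⁅a * b, v⁆ = a * ⁅b, v⁆ * a⁻¹ * ⁅a, v⁆ by simp only [commutatorElement_def]; group,
            ← hcz h1 ha, mul_inv_cancel_right, rho_mul ρ2, ha' v hv f hf, hb' v hv f hf]
        inv_mem' := by
          rintro a ⟨ha, ha'⟩
          refine ⟨inv_mem ha, fun v hv f hf => ?_⟩
          have h1 : ⁅a, v⁆ ∈ Zc := hder (commutator_mem_commutator ha hv)
          rw [show ⁅a⁻¹, v⁆ = a⁻¹ * ⁅a, v⁆⁻¹ * a⁻¹⁻¹ by simp only [commutatorElement_def]; group,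
            ← hcz (inv_mem h1) (inv_mem ha), mul_inv_cancel_right]
          conv_lhs => rw [← ha' v hv f hf, ← rho_mul ρ2, inv_mul_cancel, rho_one ρ2] }
    intro u hu hu'
    have hRU : R ≤ U := fun x hx => hx.1
    have hRlt : R < U := by
      refine lt_of_le_of_ne hRU fun hRe => ?_
      obtain ⟨f, hf⟩ := exists_ne (0 : Λ)
      refine hf (hcfix f (Subtype.ext ?_))
      let Fix : Subgroup H :=
        { carrier := {g | ρ2 g (f : ZMod p → W) = f}
          one_mem' := rho_one ρ2 _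
          mul_mem' := fun {a b} ha hb => by
            show ρ2 (a * b) _ = _
            rw [rho_mul ρ2, show ρ2 b (f : ZMod p → W) = f from hb]; exact ha
          inv_mem' := fun {a} ha => by
            show ρ2 a⁻¹ _ = _
            conv_lhs => rw [← show ρ2 a (f : ZMod p → W) = f from ha, ← rho_mul ρ2, inv_mul_cancel,
              rho_one ρ2] }
      exact (commutator_le.2 fun a ha b hb => (hRe.ge ha).2 b hb f f.2 : ⁅U, U⁆ ≤ Fix) hcD
    have heR : e ∈ normalizer (R : Set H) := by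
      rw [← map_conj_eq_iff]
      refine eq_of_le_of_card_ge ?_ (by rw [card_map_of_injective (MulAut.conj e).injective])
      rintro _ ⟨a, ⟨ha, ha'⟩, rfl⟩
      refine ⟨(mem_normalizer_iff.1 heU a).1 ha, fun v hv f hf => ?_⟩
      show ρ2 ⁅e * a * e⁻¹, v⁆ f = f
      have hv' : e⁻¹ * v * e ∈ U := (mem_normalizer_iff''.1 heU v).1 hv
      rw [show ⁅e * a * e⁻¹, v⁆ = e * ⁅a, e⁻¹ * v * e⁆ * e⁻¹ by simp only [commutatorElement_def]; group,
        ← mem_centralizer_singleton_iff.1 (hder (commutator_mem_commutator ha hv')).2,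
        mul_inv_cancel_right]
      exact ha' _ hv' f hf
    refine ⟨hu, ?_⟩
    have h1 := hsub R hRlt heR
    rw [commutator_eq_bot_iff_le_centralizer, centralizer_zpowers] at h1
    exact h1 ⟨hu, hu'⟩
  -- the root of unity
  have hsp : ∀ n : ℕ, ∀ f : Λ, ∀ i, (((sM ^ n) f : Λ) : ZMod p → W) i = (f : ZMod p → W) (i + n) :=
    fun n f => by
    induction n with
    | zero => intro i; rw [Nat.cast_zero, add_zero]; rfl
    | succ n ihn =>
      intro i
      rw [pow_succ', end_mul_apply, hsM, ihn, Nat.cast_succ]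
      abel_nf
  let ζ : 𝔽 := ⟨sM, Subring.subset_closure (Set.mem_insert _ _)⟩
  have hsum0 : ∀ f : Λ, ∀ w, (∀ i, (f : ZMod p → W) i = w) → f = 0 := by
    intro f w hw
    refine Subtype.ext (funext fun i => ?_)
    have h1 := (hΛL f.2).2
    simp only [hw, Finset.sum_const, Finset.card_univ, ZMod.card] at h1
    rw [hw i]
    exact eq_of_coprime_nsmul hWp.symm (h1.trans (nsmul_zero _).symm)
  have hζ : IsPrimitiveRoot ζ p := by
    have h1 : orderOf ζ = p := by
      refine orderOf_eq_prime (Subtype.ext (AddMonoidHom.ext fun f => Subtype.ext (funext fun i => ?_)))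
        fun h => ?_
      · show (((sM ^ p) f : Λ) : ZMod p → W) i = _
        rw [hsp, ZMod.natCast_self, add_zero]; rfl
      · obtain ⟨f, hf⟩ := exists_ne (0 : Λ)
        refine hf (hsum0 f ((f : ZMod p → W) 0) fun i => ?_)
        have h2 := congrArg (fun a : 𝔽 => (((a : AddMonoid.End Λ) ^ i.val) f : ZMod p → W) 0) h
        simp only [OneMemClass.coe_one, one_pow] at h2
        rw [hsp, ZMod.natCast_zmod_val, zero_add] at h2
        exact h2.symm ▸ rfl
    have h3 := IsPrimitiveRoot.orderOf ζ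
    rwa [h1] at h3
  have hncast : ∀ n : ℕ, n.Coprime (Nat.card W) → (n : 𝔽) ≠ 0 := by
    intro n hn h0
    obtain ⟨f, hf⟩ := exists_ne (0 : Λ)
    refine hf (Subtype.ext (funext fun i => eq_of_coprime_nsmul hn ?_))
    have h2 : n • f = 0 := by
      rw [← AddMonoid.End.natCast_apply n f]
      have := congrArg (fun a : 𝔽 => (a : AddMonoid.End Λ) f) h0
      simpa using this
    exact (congrArg (fun f : Λ => (f : ZMod p → W) i) h2).trans (nsmul_zero _).symm
  have hqW : q.Coprime (Nat.card W) := hcop.coprime_dvd_left (by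
    obtain ⟨k, hk⟩ := IsPGroup.iff_card.1 hU
    rw [hk]
    exact dvd_pow_self q fun h => hU0 (card_eq_one.1 (by rw [hk, h, pow_zero])))
  have hemem : ∀ {A : Subgroup H}, A ≤ K → ∀ (x : K), x ∈ A.subgroupOf K ↔ (x : H) ∈ A :=
    fun _ _ => Iff.rfl
  refine HH.core_false σ hp hq hq2 (e := ⟨e, heK⟩) (Subtype.ext (by simpa using he))
    (U := U.subgroupOf K) (Zc := Zc.subgroupOf K) (hU.comap_of_injective K.subtype K.subtype_injective)
    (coe_mem_normalizer_subgroupOf hUK _ heU) ?_ ?_ ?_ ?_ ?_ ?_ ?_ hζ (hncast p hWp.symm)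
    (hncast q hqW) ?_
  · refine lt_of_le_of_ne (comap_mono hZlt.le) fun h => hZlt.ne ?_
    rw [← map_subgroupOf_eq_of_le (hZlt.le.trans hUK), h, map_subgroupOf_eq_of_le hUK]
  · intro z hz
    exact mem_centralizer_iff.2 fun u hu => Subtype.ext (mem_centralizer_iff.1 (hZcU hz) (u : H) hu)
  · intro x hx
    have h1 := mem_map_of_mem K.subtype hx
    rw [Subgroup.map_commutator, map_subgroupOf_eq_of_le hUK] at h1
    exact hder h1
  · intro z hz
    exact mem_centralizer_singleton_iff.2 (Subtype.ext (mem_centralizer_singleton_iff.1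
      (show (z : H) ∈ Zc from hz).2))
  · intro z hz
    exact ⟨⟨rM z, Subring.subset_closure (Set.mem_insert_of_mem _ ⟨z, hz, rfl⟩)⟩,
      LinearMap.ext fun f => rfl⟩
  · intro u hu h
    refine hnd (u : H) hu fun v hv f hf => ?_
    exact congrArg Subtype.val (LinearMap.congr_fun (h ⟨v, hUK hv⟩ hv) ⟨f, hf⟩)
  · intro u hu h
    exact hfp (u : H) hu h
  · intro f hf
    refine Subtype.ext (funext fun i => ?_)
    obtain ⟨v, hv⟩ := (hΛL f.2).1 i
    refine eq_zero_of_range_fix ρ hcW hv (hfix _ ?_ c hcU)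
    exact congrArg (fun f : Λ => (f : ZMod p → W) i) hf

/-- `⁅U, e⁆` acts trivially. -/
theorem hh_end {H : Type*} [Group H] [Finite H] {W : Type*} [AddCommGroup W] [Finite W]
    (ρ : H →* AddMonoid.End W) {p q : ℕ} (hp : p.Prime) (hq : q.Prime) (hq2 : q ≠ 2) (hqp : q ≠ p)
    {e : H} (he : e ^ p = 1) {U : Subgroup H} (hU : IsPGroup q U)
    (heU : e ∈ normalizer (U : Set H)) (hcop : (Nat.card U).Coprime (Nat.card W))
    (hWp : (Nat.card W).Coprime p) (hfix : ∀ w, ρ e w = w → ∀ x ∈ U, ρ x w = w) :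
    ∀ x ∈ ⁅U, zpowers e⁆, ρ x = 1 := by
  intro x hx
  set π := ρ.toHomUnits
  let ρ' : π.range →* AddMonoid.End W := (Units.coeHom _).comp π.range.subtype
  have hinj : Function.Injective ρ' := fun a b h => Subtype.ext (Units.ext h)
  haveI : Finite π.range := Finite.of_surjective π.rangeRestrict π.rangeRestrict_surjective
  have h1 := hh_faithful ρ' hinj hp hq hq2 hqp (e := π.rangeRestrict e)
    (by rw [← map_pow, he, map_one]) (U.map π.rangeRestrict) (hU.map _)
    (le_normalizer_map _ (mem_map_of_mem _ heU)) (hcop.coprime_dvd_left (card_map_dvd _ _)) hWp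
    (fun w hw y hy => by
      obtain ⟨u, hu, rfl⟩ := hy
      exact hfix w hw u hu)
  have h2 : π.rangeRestrict x ∈ ⁅U.map π.rangeRestrict, zpowers (π.rangeRestrict e)⁆ := by
    rw [← MonoidHom.map_zpowers, ← Subgroup.map_commutator]
    exact mem_map_of_mem _ hx
  rw [h1, mem_bot] at h2
  exact (congrArg ρ' h2).trans (map_one ρ')

end Endo

variable {Y : Type u} [Group Y] [Finite Y]

/-- `⁅U, e⁆` centralizes `V`, for a `q`-group `U`, `q` odd, centralizing the fixed points of `e`. -/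
theorem centralizes_of_odd {p q : ℕ} (hp : p.Prime) (hq : q.Prime) (hq2 : q ≠ 2) (hqp : q ≠ p) {e : Y}
    {U V : Subgroup Y} (hep : e ^ p = 1) (hU : IsPGroup q U) (heU : e ∈ normalizer (U : Set Y))
    (heV : e ∈ normalizer (V : Set Y)) (hUV : U ≤ normalizer (V : Set Y)) (hV : Group.IsSolvable V)
    (hcop : (Nat.card U).Coprime (Nat.card V)) (hVp : (Nat.card V).Coprime p)
    (hfix : U ≤ centralizer ((V ⊓ centralizer ({e} : Set Y) : Subgroup Y) : Set Y)) :
    ⁅U, zpowers e⁆ ≤ centralizer (V : Set Y) := by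
  have hle : ⁅U, zpowers e⁆ ≤ U := commutator_le_of_le_normalizer (zpowers_le.2 heU)
  refine le_centralizer_of_abEnd hV (hle.trans hUV) (hcop.coprime_dvd_left (card_dvd_of_le hle))
    fun W hWV hN x hx hxU => ?_
  set N := normalizer (W : Set Y)
  have hUN : U ≤ N := hUV.trans hN
  refine hh_end (abEnd W) (U := U.subgroupOf N) hp hq hq2 hqp (e := ⟨e, hN heV⟩)
    (Subtype.ext (by simpa using hep)) (hU.comap_of_injective N.subtype N.subtype_injective)
    (coe_mem_normalizer_subgroupOf hUN _ heU) ?_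
    ((hVp.coprime_dvd_left (card_dvd_of_le hWV)).coprime_dvd_left (card_ab_dvd W))
    (fun w hw y hy => ?_) ⟨x, hx⟩ ?_
  · rw [CfsgLib.Coprime.card_subgroupOf hUN]
    exact hcop.coprime_dvd_right ((card_ab_dvd W).trans (card_dvd_of_le hWV))
  · obtain ⟨c, hc, hce, rfl⟩ :=
      exists_fixed_lift hep (hN heV) (hVp.coprime_dvd_left (card_dvd_of_le hWV)) hw
    rw [abEnd_of]
    congr 2
    refine Subtype.ext ?_
    show (y : Y) * c * (y : Y)⁻¹ = c
    have h1 : c * (y : Y) = (y : Y) * c :=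
      mem_centralizer_iff.1 (hfix hy) c ⟨hWV hc, mem_centralizer_singleton_iff.2 hce.symm⟩
    rw [← h1, mul_inv_cancel_right]
  · rw [← zpowers_subgroupOf (hN heV)]
    exact map_subgroupOf_mem hUN (zpowers_le.2 (hN heV)) hxU

/-- When `⁅U, e⁆` is known to centralize whatever `U` centralizes the fixed points of `e` on. -/
def CommOK (q : ℕ) (e : Y) (U : Subgroup Y) : Prop :=
  q ≠ 2 ∨ IsMulCommutative U ∨ U ⊓ centralizer ({e} : Set Y) = ⊥

theorem comm_centralizes {p q : ℕ} (hp : p.Prime) (hq : q.Prime) (hqp : q ≠ p) {e : Y}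
    {U V : Subgroup Y} (hok : CommOK q e U) (hep : e ^ p = 1) (hU : IsPGroup q U)
    (heU : e ∈ normalizer (U : Set Y)) (heV : e ∈ normalizer (V : Set Y))
    (hUV : U ≤ normalizer (V : Set Y)) (hV : Group.IsSolvable V)
    (hcop : (Nat.card U).Coprime (Nat.card V)) (hVp : (Nat.card V).Coprime p)
    (hfix : U ≤ centralizer ((V ⊓ centralizer ({e} : Set Y) : Subgroup Y) : Set Y)) :
    ⁅U, zpowers e⁆ ≤ centralizer (V : Set Y) := by
  haveI := Fact.mk hq
  have hle : ⁅U, zpowers e⁆ ≤ U := commutator_le_of_le_normalizer (zpowers_le.2 heU)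
  rcases hok with h | h | h
  · exact centralizes_of_odd hp hq h hqp hep hU heU heV hUV hV hcop hVp hfix
  · refine centralizes_of_fpf hp hep (normalizer_commutator_ge_right U (zpowers e) (mem_zpowers e))
      heV (hle.trans hUV) hV (hcop.coprime_dvd_left (card_dvd_of_le hle)) hVp ?_ (hle.trans hfix)
    rw [← centralizer_zpowers e]
    refine CfsgLib.Coprime.commutator_inf_centralizer_eq_bot h (zpowers_le.2 heU) ?_
    rw [Nat.card_zpowers]
    refine Nat.Coprime.coprime_dvd_left (orderOf_dvd_of_pow_eq_one hep) ?_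
    obtain ⟨n, hn⟩ := IsPGroup.iff_card.1 hU
    rw [hn]
    exact Nat.Coprime.pow_right _ ((Nat.coprime_primes hp hq).2 hqp.symm)
  · exact hle.trans (centralizes_of_fpf hp hep heU heV hUV hV hcop hVp h hfix)

end CfsgLib.Comp.SFT
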