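import Cfsg.Agent.Lib.Comp.SFT.Setting
import Cfsg.Agent.Lib.Comp.SFT.HallHigman

/-!
Absorption: the commutators `⁅O_s(M), e⁆`, `θ e ≤ M`, lie in `O_s` of every member containing them.
-/

set_option autoImplicit false
set_option linter.style.haveILetI false
set_option linter.unusedSectionVars false

universe u

namespace CfsgLib.Comp.SFT

open Subgroup

variable {G : Type u} [Group G] [Finite G] {p : ℕ} [hp : Fact p.Prime]
  {A : Subgroup G} {θ : G → Subgroup G}

/-- The `s`-group `X` is of a kind whose commutators with points of `A` are absorbed. -/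
def AbsOK (s : ℕ) (A X : Subgroup G) : Prop :=
  s ≠ 2 ∨ IsMulCommutative X ∨ X ⊓ centralizer (A : Set G) = ⊥

theorem isMulCommutative_of_le {X Y : Subgroup G} (hY : IsMulCommutative Y) (h : X ≤ Y) :
    IsMulCommutative X :=
  ⟨⟨fun a b => Subtype.ext (congrArg (fun y : Y => (y : G)) (hY.is_comm.comm ⟨a, h a.2⟩ ⟨b, h b.2⟩))⟩⟩

theorem qm_isMulCommutative {V X : Subgroup G} (hX : IsMulCommutative X) :
    IsMulCommutative (qm V X) := by
  refine ⟨⟨?_⟩⟩
  rintro ⟨_, a, ha, rfl⟩ ⟨_, b, hb, rfl⟩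
  refine Subtype.ext ?_
  show QuotientGroup.mk' _ a * QuotientGroup.mk' _ b = QuotientGroup.mk' _ b * QuotientGroup.mk' _ a
  rw [← map_mul, ← map_mul]
  exact congrArg _ (Subtype.ext (congrArg (fun w : X => (w : G))
    (hX.is_comm.comm ⟨(a : G), ha⟩ ⟨(b : G), hb⟩)))

/-- `T` lies in `O_s` of every member containing it. -/
def Absorbed (p : ℕ) (A : Subgroup G) (θ : G → Subgroup G) (s : ℕ) (T : Subgroup G) : Prop :=
  ∀ H ∈ Cfsg.signalizerFamily p A θ, T ≤ H → T ≤ Cfsg.pCoreOf s H

namespace Min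

variable (h : Min p A θ)

include h

/-- `U ≤ O_s(H)` when the centralizers of generating subgroups of `A` move it inside `s`-groups. -/
theorem core_of_cover {s : ℕ} (hs : s.Prime) {H U : Subgroup G} (hH : H ∈ Cfsg.signalizerFamily p A θ)
    (hUH : U ≤ H) (hU : IsPGroup s U) {ι : Type*} (B : ι → Subgroup G)
    (hgen : ∀ X ∈ Cfsg.signalizerFamily p A θ, X = ⨆ i, X ⊓ centralizer (B i : Set G))
    (hK : ∀ i, ∃ K : Subgroup G, IsPGroup s K ∧ U ≤ K ∧
      H ⊓ centralizer (B i : Set G) ≤ normalizer (K : Set G)) :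
    U ≤ Cfsg.pCoreOf s H := by
  refine le_core_test hs hH.1 hUH hU fun t ht hts P hPH hPn hVP hPt => ?_
  have hHN := core_norm s H
  have hPm : P ∈ Cfsg.signalizerFamily p A θ := family_mono hH hPH ((h.mem_inv hH).trans hPn)
  refine le_centralizer_iff.1 (qm_iSup_le (hPH.trans hHN) (hgen P hPm) fun i => ?_)
  obtain ⟨K, hKs, hUK, hKn⟩ := hK i
  have hXn : P ⊓ centralizer (B i : Set G) ≤ normalizer (Cfsg.pCoreOf s H : Set G) :=
    inf_le_left.trans (hPH.trans hHN)
  rw [← commutator_eq_bot_iff_le_centralizer, ← qm_commutator hXn (hUH.trans hHN)]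
  refine le_bot_iff.1 ((qm_mono (K := P ⊓ K) (le_inf ?_ ?_)).trans
    (qm_eq_bot_of_pgroup hs ht hts inf_le_left (hKs.to_le inf_le_right) hPt).le)
  · exact (commutator_mono inf_le_left le_rfl).trans
      (commutator_le_of_le_normalizer ((hUH.trans le_normalizer).trans hPn))
  · rw [commutator_comm]
    exact (commutator_mono hUK le_rfl).trans
      (commutator_le_of_le_normalizer ((inf_le_inf_right _ hPH).trans hKn))

/-- `⁅U, e⁆ ≤ O_s(H)` when the centralizer of `e` moves `U` inside an `s`-group. -/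
theorem comm_core {s : ℕ} (hs : s.Prime) {H U K : Subgroup G}
    (hH : H ∈ Cfsg.signalizerFamily p A θ) (hUH : U ≤ H) (hU : IsPGroup s U)
    (hUA : A ≤ normalizer (U : Set G)) {e : G} (he : e ∈ A) (hok : CommOK s e U) (hKs : IsPGroup s K) (hUK : U ≤ K)
    (hKn : H ⊓ centralizer ({e} : Set G) ≤ normalizer (K : Set G)) :
    ⁅U, zpowers e⁆ ≤ Cfsg.pCoreOf s H := by
  have hZU : zpowers e ≤ normalizer (U : Set G) := zpowers_le.2 (hUA he)
  have hle : ⁅U, zpowers e⁆ ≤ U := commutator_le_of_le_normalizer hZU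
  refine le_core_test hs hH.1 (hle.trans hUH) (hU.to_le hle) fun t ht hts P hPH hPn hVP hPt => ?_
  set V := Cfsg.pCoreOf s H
  have hHN := core_norm s H
  have hAN : A ≤ normalizer (V : Set G) := core_inv (h.mem_inv hH)
  have hAP : A ≤ normalizer (P : Set G) := (h.mem_inv hH).trans hPn
  have hPm : P ∈ Cfsg.signalizerFamily p A θ := family_mono hH hPH hAP
  have hPN : P ≤ normalizer (V : Set G) := hPH.trans hHN
  have hUN : U ≤ normalizer (V : Set G) := hUH.trans hHN
  have heN : zpowers e ≤ normalizer (V : Set G) := zpowers_le.2 (hAN he)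
  have hsp : (Nat.card U).Coprime p :=
    (h.coprime_p hH).coprime_dvd_left (card_dvd_of_le hUH)
  haveI := Fact.mk hs
  haveI := Fact.mk ht
  by_cases hsp' : s = p
  · obtain ⟨n, hn⟩ := IsPGroup.iff_card.1 (hU.to_le hle)
    have hb : Nat.card ↥⁅U, zpowers e⁆ = 1 :=
      Nat.eq_one_of_dvd_coprimes (Nat.Coprime.pow_right n hsp) (card_dvd_of_le hle)
        (hn.trans (by rw [hsp'])).dvd
    rw [card_eq_one.1 hb, (qm_eq_bot (V := V) (H := ⊥) bot_le).2 bot_le]
    exact bot_le
  rw [qm_commutator hUN heN, qm_zpowers (hAN he)]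
  refine comm_centralizes (V := qm V P) hp.out hs hsp' ?_ ?_ (isPGroup_qm hU)
    (qm_le_normalizer hUN heN hZU (qx_mem _ (mem_zpowers e)))
    (qm_le_normalizer hPN heN (zpowers_le.2 (hAP he)) (qx_mem _ (mem_zpowers e)))
    (qm_le_normalizer hPN hUN ((hUH.trans le_normalizer).trans hPn)) (isSolvable_qm hPN hPm.1) ?_
    ((h.coprime_p hPm).coprime_dvd_left (card_qm_dvd P)) ?_
  · rcases hok with hk | hk | hk
    · exact Or.inl hk
    · exact Or.inr (Or.inl (qm_isMulCommutative hk))
    · refine Or.inr (Or.inr ?_)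
      rw [← centralizer_zpowers (qx V e (hAN he)), ← qm_zpowers (hAN he),
        ← qm_fix hUN heN hZU ?_ (h.solvable_sub (zpowers_le.2 he)), centralizer_zpowers, hk,
        qm_eq_bot bot_le]
      · exact bot_le
      · rw [Nat.card_zpowers]
        exact (hsp.coprime_dvd_right (orderOf_dvd_of_pow_eq_one (by simpa using h.hA.2 e he))).symm
  · show (QuotientGroup.mk' (V.subgroupOf (normalizer (V : Set G))) ⟨e, hAN he⟩) ^ p = 1
    rw [← map_pow, show (⟨e, hAN he⟩ : ↥(normalizer (V : Set G))) ^ p = 1 from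
      Subtype.ext (by simpa using h.hA.2 e he), map_one]
  · exact IsPGroup.coprime_card_of_ne s t hts.symm _ _ (isPGroup_qm hU) hPt
  · rw [← centralizer_zpowers (qx V e (hAN he)), ← qm_zpowers (hAN he),
      ← qm_fix hPN heN (zpowers_le.2 (hAP he)) (h.cop_sub hPm (zpowers_le.2 he))
        (h.solvable_sub (zpowers_le.2 he)),
      le_centralizer_iff, ← commutator_eq_bot_iff_le_centralizer,
      ← qm_commutator (inf_le_left.trans hPN) hUN]
    refine le_bot_iff.1 ((qm_mono (K := P ⊓ K) (le_inf ?_ ?_)).trans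
      (qm_eq_bot_of_pgroup hs ht hts inf_le_left (hKs.to_le inf_le_right) hPt).le)
    · exact (commutator_mono inf_le_left le_rfl).trans
        (commutator_le_of_le_normalizer ((hUH.trans le_normalizer).trans hPn))
    · rw [centralizer_zpowers, commutator_comm]
      exact (commutator_mono hUK le_rfl).trans
        (commutator_le_of_le_normalizer ((inf_le_inf_right _ hPH).trans hKn))

/-- The basic lemma: `⁅U, e⁆ ≤ O_s(H)` for `U ≤ O_s(M) ∩ H` and `θ e ≤ M`. -/
theorem comm_core_member {s : ℕ} (hs : s.Prime) {H U M : Subgroup G}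
    (hH : H ∈ Cfsg.signalizerFamily p A θ) (hUH : U ≤ H) (hUA : A ≤ normalizer (U : Set G))
    {e : G} (he : e ∈ A) (he1 : e ≠ 1) (hok : CommOK s e U) (heM : θ e ≤ M)
    (hUM : U ≤ Cfsg.pCoreOf s M) :
    ⁅U, zpowers e⁆ ≤ Cfsg.pCoreOf s H :=
  h.comm_core hs hH hUH ((core_pgroup s M).to_le hUM) hUA he hok (core_pgroup s M) hUM
    (((h.point_le_theta hH he he1).trans heM).trans (core_norm s M))

theorem gen_points {K : Subgroup G} (hK : Line p A K) :
    ∀ X ∈ Cfsg.signalizerFamily p A θ,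
      X = ⨆ c : {c : G // c ∈ K ∧ c ≠ 1}, X ⊓ centralizer ((zpowers (c : G) : Subgroup G) : Set G) := by
  intro X hX
  conv_lhs => rw [← h.line_gen hX.2.1 hK (hK.1.trans (h.mem_inv hX))]
  exact iSup_congr fun c => by rw [centralizer_zpowers]

/-- `⁅X, e⁆` is absorbed for every invariant `X ≤ O_s(M)`, `θ e ≤ M`. -/
theorem absorbed_comm {s : ℕ} (hs : s.Prime) {M X : Subgroup G}
    (hM : M ∈ Cfsg.signalizerFamily p A θ) {e : G} (he : e ∈ A) (he1 : e ≠ 1) (heM : θ e ≤ M)
    (hok : AbsOK s A X) (hXM : X ≤ Cfsg.pCoreOf s M) (hXA : A ≤ normalizer (X : Set G)) :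
    Absorbed p A θ s ⁅X, zpowers e⁆ := by
  intro H hH hTH
  have hZA : zpowers e ≤ A := zpowers_le.2 he
  have hXm : X ∈ Cfsg.signalizerFamily p A θ := family_mono hM (hXM.trans (core_le s M)) hXA
  refine (commutator_le_pieces _ e rfl h.hA h.A_ne_bot hXm.1 hXm.2.1 hXA (hXA he)
    (h.A_le_centralizer le_rfl he)
    (by rw [h.orderOf_point he he1]; exact hp.out.coprime_iff_not_dvd.2 hXm.2.1)).trans
    (iSup_le fun B => ?_)
  set U := X ⊓ centralizer ((B : Subgroup G) : Set G)
  by_cases heB : e ∈ (B : Subgroup G)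
  · rw [commutator_eq_bot_iff_le_centralizer.2 (inf_le_right.trans (centralizer_le (zpowers_le.2 heB)))]
    exact bot_le
  have hokU : CommOK s e U := by
    rcases hok with hk | hk | hk
    · exact Or.inl hk
    · exact Or.inr (Or.inl (isMulCommutative_of_le hk inf_le_left))
    · exact Or.inr (Or.inr ((h.cent_line_off B.2 he heB).trans hk))
  have hUA : A ≤ normalizer (U : Set G) := h.inv_cent_inf hXA B.2.1
  have hcm : ⁅U, zpowers e⁆ ≤ U := commutator_le_of_le_normalizer (hZA.trans hUA)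
  refine h.core_of_cover hs hH ((commutator_mono inf_le_left le_rfl).trans hTH)
    (((core_pgroup s M).to_le (inf_le_left.trans hXM)).to_le hcm)
    (fun c : {c : G // c ∈ (B : Subgroup G) ∧ c ≠ 1} => zpowers (c : G))
    (h.gen_points B.2) fun c => ?_
  have hcA : (c : G) ∈ A := B.2.1 c.2.1
  refine ⟨Cfsg.pCoreOf s (θ c), core_pgroup _ _, ?_, ?_⟩
  · exact h.comm_core_member hs (h.theta_mem hcA c.2.2)
      (h.piece_le_theta hXm B.2.1 c.2.1 c.2.2) hUA he he1 hokU heM (inf_le_left.trans hXM)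
  · rw [centralizer_zpowers]
    exact (h.point_le_theta hH hcA c.2.2).trans (core_norm s _)

end Min

end CfsgLib.Comp.SFT
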