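import Cfsg.Agent.Lib.Comp.SFT.Absorb

/-!
Bender's method in a minimal counterexample: maximal members with more than one prime in the
Fitting subgroup.
-/

set_option autoImplicit false
set_option linter.style.haveILetI false
set_option linter.unusedSectionVars false

universe u

namespace CfsgLib.Comp.SFT

open Subgroup
open scoped commutatorElement

variable {G : Type u} [Group G] [Finite G] {p : ℕ} [hp : Fact p.Prime]
  {A : Subgroup G} {θ : G → Subgroup G}

/-- The Fitting subgroup of `M` involves two primes. -/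
def Multi (M : Subgroup G) : Prop :=
  ∃ q r : ℕ, q.Prime ∧ r.Prime ∧ q ≠ r ∧ Cfsg.pCoreOf q M ≠ ⊥ ∧ Cfsg.pCoreOf r M ≠ ⊥

/-- The Fitting subgroup of `M` is a nontrivial `s`-group. -/
def Single (s : ℕ) (M : Subgroup G) : Prop :=
  Cfsg.pCoreOf s M ≠ ⊥ ∧ ∀ q : ℕ, q.Prime → q ≠ s → Cfsg.pCoreOf q M = ⊥

/-- `X` is normalized by `O_r(M)`, `r ≠ s`, by `W` and by `C(W) ∩ O_s(M)`. -/
def NormBy (s : ℕ) (W M X : Subgroup G) : Prop :=
  (∀ r : ℕ, r.Prime → r ≠ s → Cfsg.pCoreOf r M ≤ normalizer (X : Set G)) ∧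
    W ≤ normalizer (X : Set G) ∧
    Cfsg.pCoreOf s M ⊓ centralizer (W : Set G) ≤ normalizer (X : Set G)

/-- `H` contains `O_r(M)`, `r ≠ s`, `W` and `C(W) ∩ O_s(M)`. -/
def PartIn (s : ℕ) (W M H : Subgroup G) : Prop :=
  (∀ r : ℕ, r.Prime → r ≠ s → Cfsg.pCoreOf r M ≤ H) ∧ W ≤ H ∧
    Cfsg.pCoreOf s M ⊓ centralizer (W : Set G) ≤ H

/-- The centre of `O_q(M)`. -/
def CenCore (q : ℕ) (M : Subgroup G) : Subgroup G :=
  Cfsg.pCoreOf q M ⊓ centralizer (Cfsg.pCoreOf q M : Set G)

/-- No nontrivial member normalized by `Fit M` is a group for a prime outside `F(M)`. -/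
def NF (p : ℕ) (A : Subgroup G) (θ : G → Subgroup G) (M : Subgroup G) : Prop :=
  ∀ t : ℕ, t.Prime → Cfsg.pCoreOf t M = ⊥ → ∀ X ∈ Cfsg.signalizerFamily p A θ, IsPGroup t X →
    Fit M ≤ normalizer (X : Set G) → X = ⊥

theorem normBy_core {s q : ℕ} {W M H : Subgroup G} (h : PartIn s W M H) :
    NormBy s W M (Cfsg.pCoreOf q H) :=
  ⟨fun r hr hrs => (h.1 r hr hrs).trans (core_norm q H), h.2.1.trans (core_norm q H),
    h.2.2.trans (core_norm q H)⟩

theorem normBy_of_fit {s : ℕ} (hs : s.Prime) {M X : Subgroup G} (hX : Fit M ≤ normalizer (X : Set G)) :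
    NormBy s (Cfsg.pCoreOf s M) M X :=
  ⟨fun _ hr _ => (core_le_fit hr M).trans hX, (core_le_fit hs M).trans hX,
    inf_le_left.trans ((core_le_fit hs M).trans hX)⟩

theorem partIn_of_fit {s : ℕ} (hs : s.Prime) {M H : Subgroup G} (hH : Fit M ≤ H) :
    PartIn s (Cfsg.pCoreOf s M) M H :=
  ⟨fun _ hr _ => (core_le_fit hr M).trans hH, (core_le_fit hs M).trans hH,
    inf_le_left.trans ((core_le_fit hs M).trans hH)⟩

theorem exists_ne_of_multi {M : Subgroup G} (hM : Multi M) (s : ℕ) :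
    ∃ r : ℕ, r.Prime ∧ r ≠ s ∧ Cfsg.pCoreOf r M ≠ ⊥ := by
  obtain ⟨q, r, hq, hr, hne, hq0, hr0⟩ := hM
  by_cases h : q = s
  · exact ⟨r, hr, fun e => hne (h.trans e.symm), hr0⟩
  · exact ⟨q, hq, h, hq0⟩

theorem fit_single {s : ℕ} (hs : s.Prime) {M : Subgroup G} (hM : Single s M) :
    Fit M = Cfsg.pCoreOf s M := by
  refine le_antisymm (iSup_le fun q => ?_) (core_le_fit hs M)
  by_cases h : (q : ℕ) = s
  · rw [h]
  · rw [hM.2 q q.2 h]; exact bot_le

theorem single_or_multi {M : Subgroup G} (hs : Group.IsSolvable M) (hM : M ≠ ⊥) :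
    Multi M ∨ ∃ s : ℕ, s.Prime ∧ Single s M := by
  obtain ⟨s, hs', hs0⟩ := exists_core_ne_bot hs hM
  by_cases h : ∀ q : ℕ, q.Prime → q ≠ s → Cfsg.pCoreOf q M = ⊥
  · exact Or.inr ⟨s, hs', hs0, h⟩
  · push Not at h
    obtain ⟨q, hq, hne, hq0⟩ := h
    exact Or.inl ⟨q, s, hq, hs', hne, hq0, hs0⟩

theorem not_multi_of_single {s : ℕ} {M : Subgroup G} (h : Single s M) : ¬ Multi M := by
  rintro ⟨q, r, hq, hr, hne, hq0, hr0⟩
  by_cases h1 : q = s
  · exact hr0 (h.2 r hr fun e => hne (h1.trans e.symm))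
  · exact hq0 (h.2 q hq h1)

namespace Min

variable (h : Min p A θ)

include h

theorem core_mem {M : Subgroup G} (hM : M ∈ Cfsg.signalizerFamily p A θ) (q : ℕ) :
    Cfsg.pCoreOf q M ∈ Cfsg.signalizerFamily p A θ :=
  family_mono hM (core_le q M) (core_inv (h.mem_inv hM))

theorem fit_mem {M : Subgroup G} (hM : M ∈ Cfsg.signalizerFamily p A θ) :
    Fit M ∈ Cfsg.signalizerFamily p A θ := family_mono hM (fit_le M) (fit_inv (h.mem_inv hM))

theorem max_ne_bot {M : Subgroup G} (hM : MaxMem p A θ M) : M ≠ ⊥ := fun e =>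
  h.not_all M hM.1 fun a ha ha1 => (hM.2 _ (h.theta_mem ha ha1) (e ▸ bot_le)).le

theorem cenCore_mem {M : Subgroup G} (hM : M ∈ Cfsg.signalizerFamily p A θ) (q : ℕ) :
    CenCore q M ∈ Cfsg.signalizerFamily p A θ :=
  family_mono (h.core_mem hM q) inf_le_left (CfsgLib.Comp.le_normalizer_inf (h.mem_inv (h.core_mem hM q))
    (CfsgLib.Comp.le_normalizer_centralizer (h.mem_inv (h.core_mem hM q))))

omit h in
theorem cenCore_norm (q : ℕ) (M : Subgroup G) : M ≤ normalizer (CenCore q M : Set G) :=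
  CfsgLib.Comp.le_normalizer_inf (core_norm q M)
    (CfsgLib.Comp.le_normalizer_centralizer (core_norm q M))

omit h in
theorem cenCore_ne_bot {q : ℕ} (hq : q.Prime) {M : Subgroup G} (h0 : Cfsg.pCoreOf q M ≠ ⊥) :
    CenCore q M ≠ ⊥ := by
  haveI := Fact.mk hq
  set P := Cfsg.pCoreOf q M
  haveI : Nontrivial P := (nontrivial_iff_ne_bot P).2 h0
  haveI := (core_pgroup q M).center_nontrivial (G := P)
  obtain ⟨z, hz⟩ := exists_ne (1 : center P)
  intro e
  have hmem : ((z : P) : G) ∈ CenCore q M :=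
    ⟨(z : P).2, fun y hy => congrArg Subtype.val (mem_center_iff.1 z.2 ⟨y, hy⟩)⟩
  rw [e, mem_bot] at hmem
  exact hz (Subtype.ext (Subtype.ext hmem))

theorem cenCore_norm_in {s q : ℕ} (hq : q.Prime) {W M X : Subgroup G}
    (hWP : W ≤ Cfsg.pCoreOf s M) (hX : NormBy s W M X) : CenCore q M ≤ normalizer (X : Set G) := by
  by_cases hqs : q = s
  · subst hqs
    exact (le_inf inf_le_left (inf_le_right.trans (centralizer_le hWP))).trans hX.2.2
  · exact inf_le_left.trans (hX.1 q hq hqs)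

/-- Elements of `C_X(Z(O_q(M)))` lie in `M`. -/
theorem fix_le_max {M : Subgroup G} (hM : MaxMem p A θ M) {q : ℕ} (hq : q.Prime)
    (hq0 : Cfsg.pCoreOf q M ≠ ⊥) {X : Subgroup G} (hX : X ∈ Cfsg.signalizerFamily p A θ) :
    X ⊓ centralizer (CenCore q M : Set G) ≤ M := by
  have hm := h.cenCore_mem hM.1 q
  refine h.le_max_of_norm hM hm (cenCore_ne_bot hq hq0) (cenCore_norm q M) (family_mono hX inf_le_left ?_)
    (inf_le_right.trans (centralizer_le_normalizer _))
  exact CfsgLib.Comp.le_normalizer_inf (h.mem_inv hX)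
    (CfsgLib.Comp.le_normalizer_centralizer (h.mem_inv hm))

/-- A `q`-member normalized by the parts of `F(M)` lies in `M`, `q` in `π(F(M))`. -/
theorem core_in_max {M : Subgroup G} (hM : MaxMem p A θ M) (hMm : Multi M) {s : ℕ}
    {W : Subgroup G} (hWP : W ≤ Cfsg.pCoreOf s M) {q : ℕ} (hq : q.Prime)
    (hq0 : Cfsg.pCoreOf q M ≠ ⊥) {X : Subgroup G} (hX : X ∈ Cfsg.signalizerFamily p A θ)
    (hXq : IsPGroup q X) (hn : NormBy s W M X) : X ≤ M := by
  haveI := Fact.mk hq
  obtain ⟨r, hr, hrq, hr0⟩ := exists_ne_of_multi hMm q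
  have hZq := h.cenCore_norm_in hq hWP hn
  have hZr := h.cenCore_norm_in hr hWP hn
  have hCM : X ⊓ centralizer (CenCore q M : Set G) ≤ M := h.fix_le_max hM hq hq0 hX
  have hdis := pgroup_disjoint hq hr (Ne.symm hrq) hXq
    ((core_pgroup r M).to_le (inf_le_left : CenCore r M ≤ _))
  have h1 : CenCore r M ≤ centralizer (X : Set G) := by
    refine CfsgLib.Comp.le_centralizer_of_centralizes_fixed (p := q) hXq
      ((core_pgroup q M).to_le inf_le_left) (coprime_card_pgroup hr hq hrq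
        ((core_pgroup r M).to_le inf_le_left)) hZq hZr ?_ ?_
    · exact le_trans inf_le_left ((core_commute hr hq hrq M).trans (centralizer_le inf_le_left))
    · rw [le_centralizer_iff, ← commutator_eq_bot_iff_le_centralizer, eq_bot_iff, ← hdis]
      exact le_inf ((commutator_mono inf_le_left le_rfl).trans (commutator_le_of_le_normalizer hZr))
        (by rw [commutator_comm]; exact commutator_le_of_le_normalizer (hCM.trans (cenCore_norm r M)))
  exact le_trans (le_inf le_rfl (le_centralizer_iff.1 h1)) (h.fix_le_max hM hr hr0 hX)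

/-- A `t`-member inside `M` normalized by the parts of `F(M)` is trivial, `t` outside `π(F(M))`. -/
theorem foreign_in_eq_bot {M : Subgroup G} (hM : M ∈ Cfsg.signalizerFamily p A θ) {s : ℕ}
    (hs : s.Prime) (hs0 : Cfsg.pCoreOf s M ≠ ⊥) {W : Subgroup G} (hWP : W ≤ Cfsg.pCoreOf s M) {t : ℕ}
    (ht : t.Prime) (ht0 : Cfsg.pCoreOf t M = ⊥) {X : Subgroup G} (hXt : IsPGroup t X) (hXM : X ≤ M)
    (hn : ∀ r : ℕ, r.Prime → r ≠ s → Cfsg.pCoreOf r M ≠ ⊥ → ⁅X, Cfsg.pCoreOf r M⁆ = ⊥)
    (hW : ⁅X, W⁆ = ⊥) (hCW : ⁅X, Cfsg.pCoreOf s M ⊓ centralizer (W : Set G)⁆ = ⊥) : X = ⊥ := by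
  haveI := Fact.mk hs
  have hts : t ≠ s := fun e => hs0 (e ▸ ht0)
  rw [← le_bot_iff, ← ht0]
  refine pgroup_fit_le ht (le_fit_of_centralizes hM.1 hXM fun q hq => ?_) hXt
  by_cases hq0 : Cfsg.pCoreOf q M = ⊥
  · rw [hq0, le_centralizer_iff]; exact bot_le
  by_cases hqs : q = s
  · subst hqs
    exact CfsgLib.Comp.le_centralizer_of_centralizes_fixed (p := q) (core_pgroup q M)
      ((core_pgroup q M).to_le hWP) (coprime_card_pgroup ht hq hts hXt)
      (hWP.trans le_normalizer) (hXM.trans (core_norm q M))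
      (commutator_eq_bot_iff_le_centralizer.1 hW) (commutator_eq_bot_iff_le_centralizer.1 hCW)
  · exact commutator_eq_bot_iff_le_centralizer.1 (hn q hq hqs hq0)

/-- An invariant part in `M` of a foreign member is trivial. -/
theorem foreign_part_eq_bot {M : Subgroup G} (hM : M ∈ Cfsg.signalizerFamily p A θ) {s : ℕ}
    (hs : s.Prime) (hs0 : Cfsg.pCoreOf s M ≠ ⊥) {W : Subgroup G} (hWP : W ≤ Cfsg.pCoreOf s M) {t : ℕ}
    (ht : t.Prime) (ht0 : Cfsg.pCoreOf t M = ⊥) {X C : Subgroup G} (hXt : IsPGroup t X)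
    (hn : NormBy s W M X) (hCX : C ≤ X) (hCM : C ≤ M) : C = ⊥ := by
  have key : ∀ (r : ℕ) (R : Subgroup G), r.Prime → t ≠ r → R ≤ Cfsg.pCoreOf r M →
      R ≤ normalizer (X : Set G) → ⁅C, R⁆ = ⊥ := by
    intro r R hr htr hR hRn
    rw [eq_bot_iff, ← pgroup_disjoint ht hr htr hXt (core_pgroup r M)]
    refine le_inf ((commutator_mono hCX le_rfl).trans (commutator_le_of_le_normalizer hRn)) ?_
    rw [commutator_comm]
    exact (commutator_mono hR le_rfl).trans (commutator_le_of_le_normalizer (hCM.trans (core_norm r M)))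
  have hts : t ≠ s := fun e => hs0 (e ▸ ht0)
  refine h.foreign_in_eq_bot hM hs hs0 hWP ht ht0 (hXt.to_le hCX) hCM
    (fun r hr hrs hr0 => key r _ hr (fun e => hr0 (e ▸ ht0)) le_rfl (hn.1 r hr hrs))
    (key s W hs hts hWP hn.2.1) (key s _ hs hts inf_le_left hn.2.2)

/-- `θ e ≤ M` forces fixed-point-freeness of `e` on foreign members. -/
theorem foreign_fpf {M : Subgroup G} (hM : M ∈ Cfsg.signalizerFamily p A θ) {s : ℕ}
    (hs : s.Prime) (hs0 : Cfsg.pCoreOf s M ≠ ⊥) {W : Subgroup G} (hWP : W ≤ Cfsg.pCoreOf s M) {t : ℕ}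
    (ht : t.Prime) (ht0 : Cfsg.pCoreOf t M = ⊥) {X : Subgroup G}
    (hX : X ∈ Cfsg.signalizerFamily p A θ) (hXt : IsPGroup t X)
    (hn : NormBy s W M X) {e : G} (he : e ∈ A) (he1 : e ≠ 1) (heM : θ e ≤ M) :
    X ⊓ centralizer ({e} : Set G) = ⊥ :=
  h.foreign_part_eq_bot hM hs hs0 hWP ht ht0 hXt hn inf_le_left ((h.point_le_theta hX he he1).trans heM)

theorem foreign_center_fpf {M : Subgroup G} (hM : MaxMem p A θ M) {s : ℕ}
    (hs : s.Prime) (hs0 : Cfsg.pCoreOf s M ≠ ⊥) {W : Subgroup G} (hWP : W ≤ Cfsg.pCoreOf s M) {t : ℕ}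
    (ht : t.Prime) (ht0 : Cfsg.pCoreOf t M = ⊥) {X : Subgroup G}
    (hX : X ∈ Cfsg.signalizerFamily p A θ) (hXt : IsPGroup t X) (hn : NormBy s W M X)
    {q : ℕ} (hq : q.Prime) (hq0 : Cfsg.pCoreOf q M ≠ ⊥) :
    X ⊓ centralizer (CenCore q M : Set G) = ⊥ :=
  h.foreign_part_eq_bot hM.1 hs hs0 hWP ht ht0 hXt hn inf_le_left (h.fix_le_max hM hq hq0 hX)

/-- Maximal members sharing their primes, with the Fitting parts of one inside the other, coincide. -/
theorem bender_eq {M H : Subgroup G} (hM : MaxMem p A θ M) (hH : MaxMem p A θ H) (hMm : Multi M)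
    {s : ℕ} (hs : s.Prime) {W : Subgroup G} (hWP : W ≤ Cfsg.pCoreOf s M) (hin : PartIn s W M H)
    (hfor : ∀ t : ℕ, t.Prime → Cfsg.pCoreOf t M = ⊥ → Cfsg.pCoreOf t H = ⊥) : H = M := by
  haveI := Fact.mk hs
  have hB1 : ∀ q : ℕ, q.Prime → Cfsg.pCoreOf q H ≤ M := fun q hq => by
    by_cases hq0 : Cfsg.pCoreOf q M = ⊥
    · rw [hfor q hq hq0]; exact bot_le
    · exact h.core_in_max hM hMm hWP hq hq0 (h.core_mem hH.1 q) (core_pgroup q H) (normBy_core hin)
  have hcomm : ∀ q r : ℕ, q.Prime → r.Prime → q ≠ r → ∀ R ≤ Cfsg.pCoreOf r M, R ≤ H →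
      ⁅Cfsg.pCoreOf q H, R⁆ = ⊥ := by
    intro q r hq hr hqr R hR hRH
    rw [eq_bot_iff, ← pgroup_disjoint hq hr hqr (core_pgroup q H) (core_pgroup r M)]
    refine le_inf (commutator_le_of_le_normalizer (hRH.trans (core_norm q H))) ?_
    rw [commutator_comm]
    exact (commutator_mono hR le_rfl).trans (commutator_le_of_le_normalizer ((hB1 q hq).trans (core_norm r M)))
  have hii : ∀ q r : ℕ, q.Prime → r.Prime → q ≠ r →
      Cfsg.pCoreOf q H ≤ centralizer (Cfsg.pCoreOf r M : Set G) := by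
    intro q r hq hr hqr
    by_cases hrs : r = s
    · subst hrs
      exact CfsgLib.Comp.le_centralizer_of_centralizes_fixed (p := r) (core_pgroup r M)
        ((core_pgroup r M).to_le hWP) (coprime_card_pgroup hq hr hqr (core_pgroup q H))
        (hWP.trans le_normalizer) ((hB1 q hq).trans (core_norm r M))
        (commutator_eq_bot_iff_le_centralizer.1 (hcomm q r hq hr hqr W hWP hin.2.1))
        (commutator_eq_bot_iff_le_centralizer.1 (hcomm q r hq hr hqr _ inf_le_left hin.2.2))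
    · exact commutator_eq_bot_iff_le_centralizer.1 (hcomm q r hq hr hqr _ le_rfl (hin.1 r hr hrs))
  have hcenH : ∀ q : ℕ, q.Prime → CenCore q M ≤ H := fun q hq => by
    by_cases hqs : q = s
    · subst hqs
      exact (le_inf inf_le_left (inf_le_right.trans (centralizer_le hWP))).trans hin.2.2
    · exact inf_le_left.trans (hin.1 q hq hqs)
  have hprimes : ∀ q : ℕ, q.Prime → Cfsg.pCoreOf q M ≠ ⊥ → Cfsg.pCoreOf q H ≠ ⊥ := by
    intro q hq hq0 hqH
    refine cenCore_ne_bot hq hq0 (le_bot_iff.1 ?_)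
    rw [← hqH]
    refine pgroup_fit_le hq (le_fit_of_centralizes hH.1.1 (hcenH q hq) fun v hv => ?_)
      ((core_pgroup q M).to_le inf_le_left)
    by_cases hvq : v = q
    · rw [hvq, hqH, le_centralizer_iff]; exact bot_le
    · exact le_trans inf_le_left (le_centralizer_iff.1 (hii v q hv hq hvq))
  have hall : ∀ r : ℕ, r.Prime → Cfsg.pCoreOf r M ≤ H := by
    intro r hr
    by_cases hrs : r = s
    · subst hrs
      obtain ⟨q, hq, hqr, hq0⟩ := exists_ne_of_multi hMm r
      exact h.le_max_of_norm hH (h.core_mem hH.1 q) (hprimes q hq hq0) (core_norm q H)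
        (h.core_mem hM.1 r) ((le_centralizer_iff.1 (hii q r hq hr hqr)).trans
          (centralizer_le_normalizer _))
    · exact hin.1 r hr hrs
  -- `O_{q'}` of the two members
  obtain ⟨q, r, hq, hr, hqr, hq0, hr0⟩ := hMm
  haveI := Fact.mk hq
  have key : ∀ (M H : Subgroup G), MaxMem p A θ M → MaxMem p A θ H → Cfsg.pCoreOf q H ≠ ⊥ →
      Cfsg.pCoreOf q M ≠ ⊥ → Cfsg.pCoreOf q H ≤ M → Cfsg.pCoreOf q M ≤ H →
      (∀ r : ℕ, r.Prime → q ≠ r → Cfsg.pCoreOf q H ≤ centralizer (Cfsg.pCoreOf r M : Set G)) →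
      Opp q M ≤ Opp q H := by
    intro M H hM hH hqH hqM hP2M hP1H hcent
    set P₁ := Cfsg.pCoreOf q M
    set P₂ := Cfsg.pCoreOf q H
    set W₀ := Opp q M
    have hW₀M : W₀ ≤ M := opp_le q M
    have hW₀A : A ≤ normalizer (W₀ : Set G) := by
      intro a ha
      have key : ∀ g ∈ normalizer (M : Set G), W₀.map (MulAut.conj g).toMonoidHom ≤ W₀ := by
        intro g hg
        have hgM := map_conj_eq_iff.2 hg
        refine le_opp ((map_mono hW₀M).trans hgM.le) ?_
          (by rw [card_map_of_injective (MulAut.conj g).injective]; exact opp_coprime q M)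
        intro y hy
        rw [← hgM] at hy
        obtain ⟨w, hw, rfl⟩ := hy
        exact le_normalizer_map (MulAut.conj g).toMonoidHom (mem_map_of_mem _ (opp_norm q M hw))
      rw [← map_conj_eq_iff]
      refine le_antisymm (key a (h.mem_inv hM.1 ha)) fun y hy => ?_
      exact ⟨_, key a⁻¹ (inv_mem (h.mem_inv hM.1 ha)) (mem_map_of_mem _ hy), by simp [mul_assoc]⟩
    have hW₀m := family_mono hM.1 hW₀M hW₀A
    have hn : P₂ ≤ normalizer (W₀ : Set G) := hP2M.trans (opp_norm q M)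
    have hfit : P₂ ≤ centralizer (Fit W₀ : Set G) := by
      rw [le_centralizer_iff]
      refine iSup_le fun r => ?_
      rw [le_centralizer_iff]
      by_cases hrq : (r : ℕ) = q
      · have e : Cfsg.pCoreOf (r : ℕ) W₀ = ⊥ := by
          rw [hrq]
          exact (inf_eq_left.2 (core_le q W₀)).symm.trans (CfsgLib.Coprime.inf_eq_bot_of_coprime
            (coprime_card_of_isPGroup (core_pgroup q W₀) (opp_coprime q M)))
        rw [e, le_centralizer_iff]; exact bot_le
      · refine (hcent r r.2 (Ne.symm hrq)).trans (centralizer_le ?_)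
        exact le_core ((core_le _ W₀).trans hW₀M) (core_inv (opp_norm q M)) (core_pgroup _ W₀)
    have hle : ⁅W₀, P₂⁆ ≤ Fit W₀ := by
      refine le_trans (le_inf (commutator_le_of_le_normalizer hn) ?_) (fit_self hW₀m.1)
      rw [← commutator_eq_bot_iff_le_centralizer, commutator_comm W₀]
      refine commutator_commutator_eq_bot_of_rotate ?_ ?_
      · refine le_bot_iff.1 ((commutator_mono ?_ le_rfl).trans
          (le_of_eq (commutator_eq_bot_iff_le_centralizer.2 (le_centralizer_iff.1 hfit))))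
        rw [commutator_comm]
        exact commutator_le_of_le_normalizer (fit_inv le_normalizer)
      · rw [commutator_comm (Fit W₀), commutator_eq_bot_iff_le_centralizer.2 hfit, commutator_bot_left]
    have h2 : ⁅W₀, P₂⁆ = ⊥ := by
      refine CfsgLib.Coprime.commutator_eq_bot_of_commutator_commutator hn
        (coprime_card_of_isPGroup (core_pgroup q H) (opp_coprime q M)) (Or.inr hW₀m.1) ?_
      exact le_bot_iff.1 ((commutator_mono hle le_rfl).trans
        (le_of_eq (commutator_eq_bot_iff_le_centralizer.2 (le_centralizer_iff.1 hfit))))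
    have hW₀H : W₀ ≤ H := h.le_max_of_norm hH (h.core_mem hH.1 q) hqH (core_norm q H) hW₀m
      ((commutator_eq_bot_iff_le_centralizer.1 h2).trans (centralizer_le_normalizer _))
    refine le_opp_test hq hH.1.1 hW₀H hP1H (core_pgroup q M) (opp_coprime q M) ?_ ?_
    · exact le_centralizer_of_disjoint (hW₀M.trans (core_norm q M))
        ((core_le q M).trans (opp_norm q M))
        (inf_comm .. |>.trans (CfsgLib.Coprime.inf_eq_bot_of_coprime
          (coprime_card_of_isPGroup (core_pgroup q M) (opp_coprime q M))))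
    · refine le_trans (h.le_max_of_norm hM (h.core_mem hM.1 q) hqM (core_norm q M)
        (family_mono hH.1 inf_le_left ?_) (inf_le_right.trans (centralizer_le_normalizer _)))
        (opp_norm q M)
      exact CfsgLib.Comp.le_normalizer_inf (h.mem_inv hH.1)
        (CfsgLib.Comp.le_normalizer_centralizer (h.mem_inv (h.core_mem hM.1 q)))
  have hq' := hprimes q hq hq0
  have h1 := key M H hM hH hq' hq0 (hB1 q hq) (hall q hq) fun r hr hne => hii q r hq hr hne
  have h2 := key H M hH hM hq0 hq' (hall q hq) (hB1 q hq) fun r hr hne =>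
    le_centralizer_iff.1 (hii r q hr hq hne.symm)
  have he : Opp q M = Opp q H := le_antisymm h1 h2
  have hrO : Cfsg.pCoreOf r M ≤ Opp q M :=
    le_opp (core_le r M) (core_norm r M) (coprime_card_pgroup hr hq hqr.symm (core_pgroup r M))
  have hOA : A ≤ normalizer (Opp q M : Set G) := by
    intro a ha
    have key : ∀ g ∈ normalizer (M : Set G), (Opp q M).map (MulAut.conj g).toMonoidHom ≤ Opp q M := by
      intro g hg
      have hgM := map_conj_eq_iff.2 hg
      refine le_opp ((map_mono (opp_le q M)).trans hgM.le) ?_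
        (by rw [card_map_of_injective (MulAut.conj g).injective]; exact opp_coprime q M)
      intro y hy
      rw [← hgM] at hy
      obtain ⟨w, hw, rfl⟩ := hy
      exact le_normalizer_map (MulAut.conj g).toMonoidHom (mem_map_of_mem _ (opp_norm q M hw))
    rw [← map_conj_eq_iff]
    refine le_antisymm (key a (h.mem_inv hM.1 ha)) fun y hy => ?_
    exact ⟨_, key a⁻¹ (inv_mem (h.mem_inv hM.1 ha)) (mem_map_of_mem _ hy), by simp [mul_assoc]⟩
  refine (hH.2 M hM.1 ?_).symm
  exact h.le_max_of_norm hM (family_mono hM.1 (opp_le q M) hOA)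
    (fun e => hr0 (le_bot_iff.1 (e ▸ hrO))) (opp_norm q M) hH.1 (he ▸ opp_norm q H)

end Min

end CfsgLib.Comp.SFT
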