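import Mathlib
import Cfsg.Agent.Lib.Transfer.UniqueOrderP

/-!
# Nilpotent groups of odd order on abelian groups of odd order

A nilpotent group `N` of odd order acting faithfully and coprimely on a nontrivial abelian group `V`
of odd order satisfies `2 * |N| ≤ |V|`.
-/

set_option autoImplicit false
set_option linter.style.haveILetI false

namespace CfsgLib.Comp.SFT

open Subgroup
open scoped commutatorElement

universe u

namespace BoundAux

section Structure

variable {K : Type u} [Group K] [Finite K]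

theorem eq_bot_of_le_commutator_top [Group.IsNilpotent K] {D : Subgroup K}
    (h : D ≤ ⁅D, (⊤ : Subgroup K)⁆) : D = ⊥ := by
  obtain ⟨n, hn⟩ := Subgroup.nilpotent_iff_lowerCentralSeries.1 ‹Group.IsNilpotent K›
  have hall : ∀ k, D ≤ (⊤ : Subgroup K).lowerCentralSeries k := by
    intro k
    induction k with
    | zero => simp
    | succ k ih =>
      rw [Subgroup.lowerCentralSeries_succ]
      exact h.trans (commutator_mono ih le_rfl)
  exact le_bot_iff.1 (hn ▸ hall n)

/-- Every element is in a subgroup containing all Sylow subgroups. -/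
theorem eq_top_of_sylow_le (M : Subgroup K)
    (h : ∀ r : ℕ, r.Prime → ∀ R : Sylow r K, (R : Subgroup K) ≤ M) : M = ⊤ := by
  rw [← Subgroup.index_eq_one]
  by_contra hne
  obtain ⟨r, hr, hrd⟩ := Nat.exists_prime_and_dvd hne
  haveI : Fact r.Prime := ⟨hr⟩
  obtain ⟨R⟩ : Nonempty (Sylow r K) := inferInstance
  exact R.not_dvd_index (hrd.trans (Subgroup.index_dvd_of_le (h r hr R)))

/-- A non-abelian nilpotent group of odd order has an elementary abelian normal subgroup of order
`q ^ 2`. -/
theorem exists_pair [hK : Group.IsNilpotent K] (hodd : Odd (Nat.card K))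
    (hna : ¬ ∀ a b : K, a * b = b * a) :
    ∃ q : ℕ, q.Prime ∧ ∃ e x : K, x ≠ 1 ∧ x ^ q = 1 ∧ e ^ q = 1 ∧ Commute e x ∧ x ∈ Subgroup.center K ∧
      ((e ∈ Subgroup.center K ∧ ∀ j : ℕ, e * x ^ j ≠ 1) ∨
        ((∀ n : K, ∃ j, j < q ∧ n * e * n⁻¹ = e * x ^ j) ∧ ∃ g : K, g * e * g⁻¹ = e * x)) := by
  obtain ⟨q, hq, Q, hQ⟩ : ∃ q, q.Prime ∧ ∃ Q : Sylow q K, ¬ IsMulCommutative ↥(Q : Subgroup K) := by
    by_contra hh
    push Not at hh
    refine hna fun a b => ?_
    have htop : Subgroup.center K = ⊤ := eq_top_of_sylow_le _ fun r hr R x hx => by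
      haveI : Fact r.Prime := ⟨hr⟩
      have hC : Subgroup.centralizer ({x} : Set K) = ⊤ := eq_top_of_sylow_le _ fun s hs S y hy => by
        haveI : Fact s.Prime := ⟨hs⟩
        rw [Subgroup.mem_centralizer_singleton_iff]
        by_cases hsr : s = r
        · subst hsr
          haveI := (hK : Group.IsNilpotent K)
          have hRn : (R : Subgroup K).Normal :=
            R.normal_of_normalizerCondition Group.normalizerCondition_of_isNilpotent
          obtain ⟨g, rfl⟩ := MulAction.exists_smul_eq K R S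
          have hy' : y ∈ (R : Subgroup K) := by
            rwa [Sylow.smul_eq_iff_mem_normalizer.2 (by show g ∈ Subgroup.normalizer ((R : Subgroup K) : Set K); rw [Subgroup.normalizer_eq_top]; trivial)] at hy
          exact congrArg Subtype.val ((hh s hr R).is_comm.comm ⟨y, hy'⟩ ⟨x, hx⟩)
        · exact (Subgroup.commute_of_normal_of_disjoint _ _
            (S.normal_of_normalizerCondition Group.normalizerCondition_of_isNilpotent)
            (R.normal_of_normalizerCondition Group.normalizerCondition_of_isNilpotent)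
            (IsPGroup.disjoint_of_ne s r hsr _ _ S.2 R.2) y x hy hx)
      rw [Subgroup.mem_center_iff]
      exact fun y => Subgroup.mem_centralizer_singleton_iff.1 (hC ▸ Subgroup.mem_top y)
    exact (Subgroup.mem_center_iff.1 (htop ▸ Subgroup.mem_top a) b).symm
  haveI : Fact q.Prime := ⟨hq⟩
  have hQne : (Q : Subgroup K) ≠ ⊥ := fun h => hQ ⟨⟨fun a b => by
    apply Subtype.ext
    have ha : (a : K) = 1 := Subgroup.mem_bot.1 (h ▸ a.2)
    have hb : (b : K) = 1 := Subgroup.mem_bot.1 (h ▸ b.2)
    show (a : K) * b = b * a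
    rw [ha, hb]⟩⟩
  have hq2 : q ≠ 2 := by
    rintro rfl
    obtain ⟨a, ha, ha1⟩ := (Subgroup.bot_or_exists_ne_one _).resolve_left hQne
    obtain ⟨i, hi⟩ := Q.2 ⟨a, ha⟩
    obtain ⟨t, -, ht⟩ := (Nat.dvd_prime_pow hq).1 (orderOf_dvd_of_pow_eq_one (congrArg Subtype.val hi : a ^ 2 ^ i = 1))
    rcases t with _ | t
    · exact ha1 (orderOf_eq_one_iff.1 (by rw [ht, pow_zero]))
    · exact Nat.not_even_iff_odd.2 hodd (even_iff_two_dvd.2 (((dvd_pow_self 2 t.succ_ne_zero)).trans (ht ▸ orderOf_dvd_natCard a)))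
  have hnc : ¬ IsCyclic ↥(Q : Subgroup K) := fun h => hQ inferInstance
  obtain ⟨A, hAn, hAc, hAe, hA2⟩ := CfsgLib.Transfer.exists_normal_elementary_sq hq2 Q.2 hnc
  set E : Subgroup K := A.map (Q : Subgroup K).subtype with hE
  have hE2 : Nat.card E = q ^ 2 := by rw [hE, Subgroup.card_map_of_injective (Subgroup.subtype_injective _), hA2]
  have hEn : E.Normal := by
    rw [← Subgroup.normalizer_eq_top_iff]
    refine eq_top_of_sylow_le _ fun r hr R x hx => ?_
    haveI : Fact r.Prime := ⟨hr⟩
    refine Subgroup.mem_normalizer_fintype fun y hy => ?_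
    obtain ⟨a, ha, rfl⟩ := (hy : y ∈ E)
    by_cases hrq : r = q
    · subst hrq
      have hxQ : x ∈ (Q : Subgroup K) := by
        obtain ⟨g, rfl⟩ := MulAction.exists_smul_eq K Q R
        haveI : (Q : Subgroup K).Normal := Q.normal_of_normalizerCondition Group.normalizerCondition_of_isNilpotent
        rwa [Sylow.smul_eq_iff_mem_normalizer.2 (by show g ∈ Subgroup.normalizer ((Q : Subgroup K) : Set K); rw [Subgroup.normalizer_eq_top]; trivial)] at hx
      exact ⟨⟨x, hxQ⟩ * a * ⟨x, hxQ⟩⁻¹, hAn.conj_mem a ha ⟨x, hxQ⟩, rfl⟩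
    · have hc := Subgroup.commute_of_normal_of_disjoint _ _
        (R.normal_of_normalizerCondition Group.normalizerCondition_of_isNilpotent)
        (Q.normal_of_normalizerCondition Group.normalizerCondition_of_isNilpotent)
        (IsPGroup.disjoint_of_ne r q hrq _ _ R.2 Q.2) x (a : K) hx a.2
      refine ⟨a, ha, ?_⟩
      show (a : K) = x * (a : K) * x⁻¹
      rw [hc.eq, mul_inv_cancel_right]
  have hEc : ∀ a ∈ E, ∀ b ∈ E, Commute a b := by
    rintro _ ⟨a, ha, rfl⟩ _ ⟨b, hb, rfl⟩
    exact congrArg (fun z : A => ((z : (Q : Subgroup K)) : K)) (hAc.is_comm.comm ⟨a, ha⟩ ⟨b, hb⟩)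
  have hEe : ∀ a ∈ E, a ^ q = 1 := by
    rintro _ ⟨a, ha, rfl⟩
    rw [← map_pow, hAe a ha, map_one]
  have hord : ∀ a ∈ E, a ≠ 1 → Nat.card (Subgroup.zpowers a) = q := fun a ha ha1 => by
    rw [Nat.card_zpowers]; exact orderOf_eq_prime (hEe a ha) ha1
  set D := ⁅E, (⊤ : Subgroup K)⁆ with hD
  haveI := hEn
  have hDE : D ≤ E := Subgroup.commutator_le_left E ⊤
  by_cases hDb : D = ⊥
  · -- `E` is central
    have hEZ : E ≤ Subgroup.center K := by
      rw [hD, Subgroup.commutator_eq_bot_iff_le_centralizer] at hDb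
      intro a ha
      rw [Subgroup.mem_center_iff]
      exact fun b => (Subgroup.mem_centralizer_iff.1 (hDb ha) b (Subgroup.mem_top b))
    obtain ⟨x, hx, hx1⟩ := (Subgroup.bot_or_exists_ne_one E).resolve_left (fun h => by
      rw [h, Subgroup.card_bot] at hE2
      have := Nat.one_lt_pow (n := 2) (by norm_num) hq.one_lt
      omega)
    obtain ⟨e, he, hex⟩ : ∃ e ∈ E, e ∉ Subgroup.zpowers x := by
      by_contra hh
      push Not at hh
      have h := Subgroup.card_le_of_le (show E ≤ Subgroup.zpowers x from hh)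
      rw [hE2, hord x hx hx1, pow_two] at h
      have := Nat.le_of_mul_le_mul_left (h.trans (mul_one q).ge) hq.pos
      have := hq.two_le
      omega
    refine ⟨q, hq, e, x, hx1, hEe x hx, hEe e he, hEc e he x hx, hEZ hx, Or.inl ⟨hEZ he, fun j h => hex ?_⟩⟩
    rw [eq_inv_of_mul_eq_one_left h]
    exact inv_mem (pow_mem (Subgroup.mem_zpowers x) j)
  · have hDne : ¬ E ≤ D := fun h => hDb (by
      have h' := eq_bot_of_le_commutator_top (hD ▸ h)
      rw [h'] at hDE
      exact le_bot_iff.1 hDE)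
    obtain ⟨d, hd, hd1⟩ := (Subgroup.bot_or_exists_ne_one D).resolve_left hDb
    have hDd : Subgroup.zpowers d = D := by
      refine Subgroup.eq_of_le_of_card_ge (Subgroup.zpowers_le.2 hd) ?_
      rw [hord d (hDE hd) hd1]
      obtain ⟨i, hi2, hi⟩ := (Nat.dvd_prime_pow hq).1 (hE2 ▸ Subgroup.card_dvd_of_le hDE)
      rcases Nat.lt_or_ge i 2 with hlt | hge
      · rw [hi]
        exact (Nat.pow_le_pow_right hq.pos (by omega : i ≤ 1)).trans (pow_one q).le
      · exact absurd (Subgroup.eq_of_le_of_card_ge hDE (by rw [hE2, hi]; exact Nat.pow_le_pow_right hq.pos hge)).ge hDne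
    have hDZ : D ≤ Subgroup.center K := by
      haveI : D.Normal := inferInstanceAs (⁅E, (⊤ : Subgroup K)⁆).Normal
      have hlt : ¬ D ≤ ⁅D, (⊤ : Subgroup K)⁆ := fun h => hDb (eq_bot_of_le_commutator_top h)
      have hb : ⁅D, (⊤ : Subgroup K)⁆ = ⊥ := by
        have h1 := Subgroup.card_dvd_of_le (Subgroup.commutator_le_left D (⊤ : Subgroup K))
        have hDq : Nat.card D = q := by rw [← hDd, hord d (hDE hd) hd1]
        rw [hDq, Nat.dvd_prime hq] at h1
        rcases h1 with h1 | h1
        · exact Subgroup.card_eq_one.1 h1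
        · exact absurd (Subgroup.eq_of_le_of_card_ge (Subgroup.commutator_le_left D _) (by rw [hDq, h1])).ge hlt
      rw [Subgroup.commutator_eq_bot_iff_le_centralizer] at hb
      intro a ha
      rw [Subgroup.mem_center_iff]
      exact fun b => (Subgroup.mem_centralizer_iff.1 (hb ha) b (Subgroup.mem_top b))
    obtain ⟨e, he, heZ⟩ := SetLike.not_le_iff_exists.1 (show ¬ E ≤ Subgroup.center K from fun h => hDb (by
      rw [hD, Subgroup.commutator_eq_bot_iff_le_centralizer]
      exact fun a ha => Subgroup.mem_centralizer_iff.2 fun b _ => Subgroup.mem_center_iff.1 (h ha) b))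
    have hcom : ∀ n : K, e⁻¹ * (n * e * n⁻¹) ∈ D := fun n => by
      have h := Subgroup.commutator_mem_commutator (inv_mem he) (Subgroup.mem_top n)
      rwa [commutatorElement_def, inv_inv, mul_assoc (e⁻¹ * n), show e⁻¹ * n * (e * n⁻¹) = e⁻¹ * (n * e * n⁻¹) by group] at h
    obtain ⟨g, hg⟩ : ∃ g : K, g * e * g⁻¹ ≠ e := by
      by_contra hh
      push Not at hh
      exact heZ (Subgroup.mem_center_iff.2 fun n => mul_inv_eq_iff_eq_mul.1 (hh n))
    set x := e⁻¹ * (g * e * g⁻¹) with hx
    have hxD : x ∈ D := hcom g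
    have hx1 : x ≠ 1 := fun h => hg (inv_mul_eq_one.1 h).symm
    have hxgen : Subgroup.zpowers x = D := by
      refine Subgroup.eq_of_le_of_card_ge (Subgroup.zpowers_le.2 hxD) ?_
      rw [hord x (hDE hxD) hx1, ← hDd, hord d (hDE hd) hd1]
    refine ⟨q, hq, e, x, hx1, hEe x (hDE hxD), hEe e he, hEc e he x (hDE hxD), hDZ hxD,
      Or.inr ⟨fun n => ?_, g, by rw [hx, mul_inv_cancel_left]⟩⟩
    obtain ⟨i, hi⟩ := Subgroup.mem_zpowers_iff.1 (hxgen.ge (hcom n))
    have hxo : orderOf x = q := orderOf_eq_prime (hEe x (hDE hxD)) hx1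
    refine ⟨(i % (q : ℤ)).toNat, ?_, ?_⟩
    · have := Int.emod_lt_of_pos i (Int.natCast_pos.2 hq.pos)
      have := Int.emod_nonneg i (Int.natCast_ne_zero.2 hq.ne_zero)
      omega
    · rw [← zpow_natCast, Int.toNat_of_nonneg (Int.emod_nonneg i (Int.natCast_ne_zero.2 hq.ne_zero)),
        ← hxo, zpow_mod_orderOf, hi, mul_inv_cancel_left]

end Structure

section Action

variable {V : Type u} [CommGroup V]

/-- Fixed points of an automorphism. -/
def fixed (x : MulAut V) : Subgroup V where
  carrier := {v | x v = v}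
  mul_mem' := fun {a b} (ha : x a = a) (hb : x b = b) => show x (a * b) = a * b by rw [map_mul, ha, hb]
  one_mem' := map_one x
  inv_mem' := fun {a} (ha : x a = a) => show x a⁻¹ = a⁻¹ by rw [map_inv, ha]

theorem mem_fixed {x : MulAut V} {v : V} : v ∈ fixed x ↔ x v = v := Iff.rfl

theorem fixed_map {n x y : MulAut V} (h : n * x = y * n) {v : V} (hv : v ∈ fixed x) : n v ∈ fixed y := by
  show y (n v) = n v
  rw [← MulAut.mul_apply, ← h, MulAut.mul_apply, (hv : x v = v)]

theorem fixed_pow {x : MulAut V} {v : V} (hv : v ∈ fixed x) (i : ℕ) : (x ^ i) v = v := by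
  induction i with
  | zero => rfl
  | succ i ih => rw [pow_succ, MulAut.mul_apply, (hv : x v = v), ih]

theorem eq_one_of_pow [Finite V] {v : V} {n : ℕ} (h : v ^ n = 1) (hn : n.Coprime (Nat.card V)) : v = 1 :=
  orderOf_eq_one_iff.1 (Nat.eq_one_of_dvd_coprimes hn (orderOf_dvd_of_pow_eq_one h) (orderOf_dvd_natCard v))

/-- The product over a cyclic group of automorphisms. -/
def T (q : ℕ) (x : MulAut V) : V →* V where
  toFun v := ∏ i ∈ Finset.range q, (x ^ i) v
  map_one' := by simp
  map_mul' a b := by simp [Finset.prod_mul_distrib]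

theorem T_mem_fixed {q : ℕ} {x : MulAut V} (hx : x ^ q = 1) (v : V) : T q x v ∈ fixed x := by
  show x (∏ i ∈ Finset.range q, (x ^ i) v) = ∏ i ∈ Finset.range q, (x ^ i) v
  rw [map_prod]
  have h1 := Finset.prod_range_succ' (fun i => (x ^ i) v) q
  rw [Finset.prod_range_succ, hx] at h1
  simp only [pow_zero, MulAut.one_apply] at h1
  refine (Finset.prod_congr rfl fun i _ => ?_).trans (mul_right_cancel h1).symm
  rw [pow_succ', MulAut.mul_apply]

theorem T_eq_pow {q : ℕ} {x : MulAut V} {v : V} (hv : v ∈ fixed x) : T q x v = v ^ q := by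
  show (∏ i ∈ Finset.range q, (x ^ i) v) = v ^ q
  rw [Finset.prod_congr rfl (fun i _ => fixed_pow hv i), Finset.prod_const, Finset.card_range]

/-- `v ^ q` is the product of the `T`'s of the lines other than `⟨x⟩`. -/
theorem pow_eq_prod {q : ℕ} (hq : q.Prime) {e x : MulAut V} (hc : Commute e x) (hx : x ^ q = 1)
    (hfpf : ∀ i, 0 < i → i < q → fixed (x ^ i) = ⊥) (v : V) :
    v ^ q = ∏ j ∈ Finset.range q, T q (e * x ^ j) v := by
  have hswap : (∏ j ∈ Finset.range q, T q (e * x ^ j) v) =
      ∏ i ∈ Finset.range q, (e ^ i) (T q (x ^ i) v) := by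
    show (∏ j ∈ Finset.range q, ∏ i ∈ Finset.range q, ((e * x ^ j) ^ i) v) = _
    rw [Finset.prod_comm]
    refine Finset.prod_congr rfl fun i _ => ?_
    show _ = (e ^ i) (∏ j ∈ Finset.range q, ((x ^ i) ^ j) v)
    rw [map_prod]
    refine Finset.prod_congr rfl fun j _ => ?_
    rw [(hc.pow_right j).mul_pow, MulAut.mul_apply, ← pow_mul, ← pow_mul, mul_comm j i]
  rw [hswap, Finset.prod_eq_single 0]
  · rw [pow_zero, pow_zero, MulAut.one_apply, T_eq_pow (show v ∈ fixed (1 : MulAut V) from rfl)]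
  · intro i hi hi0
    have hT : T q (x ^ i) v = 1 := by
      have h := T_mem_fixed (x := x ^ i) (q := q) (by rw [← pow_mul, mul_comm, pow_mul, hx, one_pow]) v
      rwa [hfpf i (Nat.pos_of_ne_zero hi0) (Finset.mem_range.1 hi), Subgroup.mem_bot] at h
    rw [hT, map_one]
  · intro h
    exact absurd (Finset.mem_range.2 hq.pos) h

/-- Restriction to an invariant subgroup. -/
def res (H : Subgroup (MulAut V)) (W : Subgroup V) (hW : ∀ n ∈ H, ∀ w ∈ W, n w ∈ W) : H →* MulAut W where
  toFun n :=
    { toFun := fun w => ⟨(n : MulAut V) w, hW n n.2 w w.2⟩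
      invFun := fun w => ⟨((n : MulAut V)⁻¹) w, hW _ (inv_mem n.2) w w.2⟩
      left_inv := fun w => Subtype.ext (MulAut.inv_apply_self V (n : MulAut V) w)
      right_inv := fun w => Subtype.ext (MulAut.apply_inv_self V (n : MulAut V) w)
      map_mul' := fun a b => Subtype.ext (map_mul (n : MulAut V) (a : V) b) }
  map_one' := by ext; rfl
  map_mul' a b := by ext; rfl

theorem apply_eq_of_res_eq_one {H : Subgroup (MulAut V)} {W : Subgroup V} {hW : ∀ n ∈ H, ∀ w ∈ W, n w ∈ W}
    {n : H} (h : res H W hW n = 1) {w : V} (hw : w ∈ W) : (n : MulAut V) w = w := by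
  have h1 := congrArg (fun f : MulAut W => ((f ⟨w, hw⟩ : W) : V)) h
  exact h1

end Action

/-- The statement for subgroups of the automorphism group. -/
theorem key : ∀ (k : ℕ) (V : Type u) [CommGroup V] [Finite V], Nat.card V = k → 1 < Nat.card V →
    Odd (Nat.card V) → ∀ N : Subgroup (MulAut V), Group.IsNilpotent N → Odd (Nat.card N) →
      (Nat.card N).Coprime (Nat.card V) → 2 * Nat.card N ≤ Nat.card V := by
  intro k
  induction k using Nat.strong_induction_on with
  | _ k IH =>
  intro V _ _ hk hV1 hVodd N hN hNodd hcop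
  classical
  -- induction for a proper invariant subgroup
  have hres : ∀ H : Subgroup (MulAut V), H ≤ N → ∀ (W : Subgroup V) (hW : ∀ n ∈ H, ∀ w ∈ W, n w ∈ W),
      W ≠ ⊥ → W ≠ ⊤ → 2 * Nat.card (res H W hW).range ≤ Nat.card W := by
    intro H hH W hW hWb hWt
    have hlt : Nat.card W < k := hk ▸ lt_of_le_of_ne (Subgroup.card_le_card_group W)
      (fun h => hWt (Subgroup.eq_top_of_card_eq W h))
    have hd : Nat.card (res H W hW).range ∣ Nat.card N :=
      (Subgroup.card_range_dvd _).trans (Subgroup.card_dvd_of_le hH)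
    refine IH _ hlt W rfl ((Subgroup.one_lt_card_iff_ne_bot W).2 hWb)
      (hVodd.of_dvd_nat (Subgroup.card_subgroup_dvd_card W)) _ ?_ (hNodd.of_dvd_nat hd)
      ((hcop.coprime_dvd_left hd).coprime_dvd_right (Subgroup.card_subgroup_dvd_card W))
    haveI := hN
    haveI : Group.IsNilpotent H :=
      Group.nilpotent_of_mulEquiv (Subgroup.subgroupOfEquivOfLe hH)
    exact Group.nilpotent_of_surjective _ (res H W hW).rangeRestrict_surjective
  haveI : Nontrivial V := Finite.one_lt_card_iff_nontrivial.1 hV1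
  by_cases hi : ∃ z ∈ N, (∀ n ∈ N, n * z = z * n) ∧ z ≠ 1 ∧ fixed z ≠ ⊥
  · -- a central element with proper nontrivial fixed points
    obtain ⟨z, hz, hzc, hz1, hC⟩ := hi
    set f : V →* V :=
      { toFun := fun v => z v * v⁻¹
        map_one' := by simp
        map_mul' := fun a b => by rw [map_mul, mul_inv]; exact mul_mul_mul_comm _ _ _ _ } with hf
    have hker : f.ker = fixed z := by
      ext v
      exact mul_inv_eq_one
    set D := f.range with hD
    have hCD : fixed z ⊓ D = ⊥ := by
      rw [eq_bot_iff]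
      rintro w ⟨hw, v, rfl⟩
      have hzi : ∀ i : ℕ, (z ^ i) v = v * f v ^ i := by
        intro i
        induction i with
        | zero => simp
        | succ i ih =>
          rw [pow_succ', MulAut.mul_apply, ih, map_mul, map_pow, (hw : z (f v) = f v), pow_succ']
          show z v * _ = v * ((z v * v⁻¹) * _)
          rw [← mul_assoc v, mul_comm v (z v * v⁻¹), inv_mul_cancel_right]
      have h1 := hzi (orderOf z)
      rw [pow_orderOf_eq_one, MulAut.one_apply] at h1
      rw [Subgroup.mem_bot]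
      refine eq_one_of_pow (mul_eq_left.1 h1.symm) ?_
      exact hcop.coprime_dvd_left (Subgroup.orderOf_dvd_natCard N hz)
    have hcard : Nat.card (fixed z) * Nat.card D = Nat.card V := by
      rw [← hker, hD, ← Subgroup.index_ker, Subgroup.card_mul_index]
    have hDb : D ≠ ⊥ := fun h => hz1 (MulEquiv.ext fun v => by
      have h1 : f v ∈ D := ⟨v, rfl⟩
      rw [h, Subgroup.mem_bot] at h1
      exact mul_inv_eq_one.1 h1)
    have hCt : fixed z ≠ ⊤ := fun h => hz1 (MulEquiv.ext fun v => (h ▸ Subgroup.mem_top v : v ∈ fixed z))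
    have hDt : D ≠ ⊤ := fun h => hC (by rw [← hCD, h, inf_top_eq])
    have hsup : fixed z ⊔ D = ⊤ := by
      refine Subgroup.eq_top_of_card_eq _ (le_antisymm (Subgroup.card_le_card_group _) ?_)
      rw [← hcard]
      have h1 := Subgroup.relIndex_sup_left (H := D) (K := fixed z)
      have h2 : (fixed z).relIndex D = Nat.card D := by
        rw [← Subgroup.inf_relIndex_right, hCD, Subgroup.relIndex_bot_left]
      have h3 := Subgroup.relIndex_mul_relIndex ⊥ (fixed z) (fixed z ⊔ D) bot_le le_sup_left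
      rw [Subgroup.relIndex_bot_left, Subgroup.relIndex_bot_left, h1, h2] at h3
      exact h3.le
    have hWC : ∀ n ∈ N, ∀ w ∈ fixed z, n w ∈ fixed z := fun n hn w hw => fixed_map (hzc n hn) hw
    have hWD : ∀ n ∈ N, ∀ w ∈ D, n w ∈ D := by
      rintro n hn _ ⟨v, rfl⟩
      refine ⟨n v, ?_⟩
      show z (n v) * (n v)⁻¹ = n (z v * v⁻¹)
      rw [map_mul, map_inv, ← MulAut.mul_apply, ← hzc n hn, MulAut.mul_apply]
    have hinj : Function.Injective ((res N _ hWC).rangeRestrict.prod (res N _ hWD).rangeRestrict) := by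
      rw [injective_iff_map_eq_one]
      intro n hn
      have hn1 : res N _ hWC n = 1 := congrArg Subtype.val (Prod.ext_iff.1 hn).1
      have hn2 : res N _ hWD n = 1 := congrArg Subtype.val (Prod.ext_iff.1 hn).2
      have hle : fixed z ⊔ D ≤ fixed (n : MulAut V) :=
        sup_le (fun w hw => apply_eq_of_res_eq_one hn1 hw) (fun w hw => apply_eq_of_res_eq_one hn2 hw)
      exact Subtype.ext (MulEquiv.ext fun v => hle (hsup ▸ Subgroup.mem_top v))
    have h1 := hres N le_rfl _ hWC hC hCt
    have h2 := hres N le_rfl _ hWD hDb hDt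
    have h3 := Nat.card_le_card_of_injective _ hinj
    rw [Nat.card_prod] at h3
    rw [← hcard]
    nlinarith [Nat.mul_le_mul h1 h2]
  push Not at hi
  by_cases hab : ∀ a b : N, a * b = b * a
  · -- abelian, hence semiregular on the nonidentity elements
    obtain ⟨v, hv⟩ := exists_ne (1 : V)
    have hreg : ∀ n : N, (n : MulAut V) v = v → n = 1 := by
      intro n hn
      by_contra hn1
      have h := hi n n.2 (fun m hm => congrArg Subtype.val (hab ⟨m, hm⟩ n)) (fun e => hn1 (Subtype.ext e))
      have h' : v ∈ fixed (n : MulAut V) := hn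
      rw [h, Subgroup.mem_bot] at h'
      exact hv h'
    have hdiv : ∀ {m n : N} {w : V}, (m : MulAut V) v = (n : MulAut V) w →
        ((n⁻¹ * m : N) : MulAut V) v = w := by
      intro m n w h
      rw [Subgroup.coe_mul, MulAut.mul_apply, h, InvMemClass.coe_inv, MulAut.inv_apply_self]
    have hneg : ∀ n : N, (n : MulAut V) v ≠ v⁻¹ := by
      intro n hn
      have h2 : ((n * n : N) : MulAut V) v = v := by
        rw [Subgroup.coe_mul, MulAut.mul_apply, hn, map_inv, hn, inv_inv]
      have h3 := hreg _ h2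
      have hn1 : n = 1 := by
        refine orderOf_eq_one_iff.1 (Nat.eq_one_of_dvd_coprimes (a := 2) (b := Nat.card N) ?_
          (orderOf_dvd_of_pow_eq_one (by rw [pow_two, h3])) (orderOf_dvd_natCard n))
        exact Nat.coprime_two_left.2 hNodd
      rw [hn1, Subgroup.coe_one, MulAut.one_apply] at hn
      exact hv (eq_one_of_pow (n := 2) (by rw [pow_two]; exact mul_eq_one_iff_eq_inv.2 hn)
        (Nat.coprime_two_left.2 hVodd))
    let g : N × Bool → V := fun p => (p.1 : MulAut V) (if p.2 then v else v⁻¹)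
    have hg : Function.Injective g := by
      rintro ⟨m, a⟩ ⟨n, b⟩ h
      cases a <;> cases b <;> simp only [g, Bool.false_eq_true, if_false, if_true] at h
      · rw [map_inv, map_inv, inv_inj] at h
        rw [(inv_mul_eq_one.1 (hreg _ (hdiv h)) : n = m)]
      · exact absurd (hdiv h.symm) (hneg _)
      · exact absurd (hdiv h) (hneg _)
      · rw [(inv_mul_eq_one.1 (hreg _ (hdiv h)) : n = m)]
    have h := Nat.card_le_card_of_injective g hg
    rw [Nat.card_prod, Nat.card_eq_fintype_card (α := Bool), Fintype.card_bool] at h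
    omega
  -- the non-abelian case
  haveI := hN
  obtain ⟨q, hq, e', x', hx1', hxq', heq', hex', hxc', hcase⟩ := exists_pair hNodd hab
  haveI : Fact q.Prime := ⟨hq⟩
  set e : MulAut V := (e' : MulAut V) with he
  set x : MulAut V := (x' : MulAut V) with hx
  have hex : Commute e x := congrArg Subtype.val hex'.eq
  have hxq : x ^ q = 1 := congrArg Subtype.val hxq'
  have heq : e ^ q = 1 := congrArg Subtype.val heq'
  have hcent : ∀ y : N, y ∈ Subgroup.center N → y ≠ 1 → fixed (y : MulAut V) = ⊥ := fun y hy hy1 =>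
    hi y y.2 (fun m hm => congrArg Subtype.val (Subgroup.mem_center_iff.1 hy ⟨m, hm⟩))
      (fun h => hy1 (Subtype.ext h))
  have hxo : orderOf x' = q := orderOf_eq_prime hxq' hx1'
  have hfpf : ∀ i, 0 < i → i < q → fixed (x ^ i) = ⊥ := by
    intro i hi0 hiq
    refine hcent (x' ^ i) (pow_mem hxc' i) ?_
    exact pow_ne_one_of_lt_orderOf hi0.ne' (hxo.symm ▸ hiq)
  have hqV : q.Coprime (Nat.card V) := hcop.coprime_dvd_left (hxo ▸ orderOf_dvd_natCard x')
  rcases hcase with ⟨hec, hne⟩ | ⟨hconj, g, hg⟩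
  · exfalso
    obtain ⟨v, hv⟩ := exists_ne (1 : V)
    refine hv (eq_one_of_pow ?_ hqV)
    rw [pow_eq_prod hq hex hxq hfpf v]
    refine Finset.prod_eq_one fun j _ => ?_
    have h := T_mem_fixed (x := e * x ^ j) (q := q)
      (by rw [(hex.pow_right j).mul_pow, heq, ← pow_mul, mul_comm, pow_mul, hxq, one_pow, mul_one]) v
    have hb : fixed (e * x ^ j) = ⊥ := hcent (e' * x' ^ j) (mul_mem hec (pow_mem hxc' j)) (hne j)
    rwa [hb, Subgroup.mem_bot] at h
  -- blocks permuted by `g`
  set W : Fin q → Subgroup V := fun j => fixed (e * x ^ (j : ℕ)) with hWdef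
  have hgj : ∀ j : ℕ, g ^ j * e' * (g ^ j)⁻¹ = e' * x' ^ j := by
    intro j
    induction j with
    | zero => simp
    | succ j ih =>
      rw [pow_succ' g, mul_inv_rev, show g * g ^ j * e' * ((g ^ j)⁻¹ * g⁻¹) = g * (g ^ j * e' * (g ^ j)⁻¹) * g⁻¹ by group,
        ih, show g * (e' * x' ^ j) * g⁻¹ = g * e' * g⁻¹ * (g * x' ^ j * g⁻¹) by group, hg,
        Subgroup.mem_center_iff.1 (pow_mem hxc' j) g, mul_inv_cancel_right, pow_succ' x', mul_assoc]
  set H : Subgroup (MulAut V) := N ⊓ Subgroup.centralizer ({e} : Set (MulAut V)) with hH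
  have hWinv : ∀ j : Fin q, ∀ n ∈ H, ∀ w ∈ W j, n w ∈ W j := by
    intro j n hn w hw
    refine fixed_map ?_ hw
    have h1 : n * e = e * n := Subgroup.mem_centralizer_singleton_iff.1 hn.2
    have h2 : n * x = x * n := congrArg Subtype.val (Subgroup.mem_center_iff.1 hxc' ⟨n, hn.1⟩)
    exact ((show Commute n e from h1).mul_right ((show Commute n x from h2).pow_right (j : ℕ))).eq
  -- conjugates of `e` have `q` possibilities
  have hNH : Nat.card N ≤ q * Nat.card H := by
    choose c hcq hc using hconj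
    let rep : Fin q → N := fun j => g ^ (j : ℕ)
    have hmem : ∀ n : N, (((rep ⟨c n, hcq n⟩)⁻¹ * n : N) : MulAut V) ∈ H := by
      intro n
      refine ⟨SetLike.coe_mem _, Subgroup.mem_centralizer_singleton_iff.2 ?_⟩
      have h : ((rep ⟨c n, hcq n⟩)⁻¹ * n) * e' = e' * ((rep ⟨c n, hcq n⟩)⁻¹ * n) := by
        refine mul_inv_eq_iff_eq_mul.1 ?_
        show (g ^ c n)⁻¹ * n * e' * ((g ^ c n)⁻¹ * n)⁻¹ = e'
        rw [show (g ^ c n)⁻¹ * n * e' * ((g ^ c n)⁻¹ * n)⁻¹ = (g ^ c n)⁻¹ * (n * e' * n⁻¹) * g ^ c n by group,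
          hc n, ← hgj (c n)]
        group
      exact congrArg Subtype.val h
    let φ : N → Fin q × H := fun n => (⟨c n, hcq n⟩, ⟨_, hmem n⟩)
    have hφ : Function.Injective φ := by
      intro a b h
      have h1 : (⟨c a, hcq a⟩ : Fin q) = ⟨c b, hcq b⟩ := (Prod.ext_iff.1 h).1
      have h2 : (((rep ⟨c a, hcq a⟩)⁻¹ * a : N) : MulAut V) = (((rep ⟨c b, hcq b⟩)⁻¹ * b : N) : MulAut V) :=
        congrArg (fun z : H => (z : MulAut V)) (Prod.ext_iff.1 h).2
      rw [h1] at h2
      exact mul_left_cancel (Subtype.ext h2)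
    have h := Nat.card_le_card_of_injective φ hφ
    rwa [Nat.card_prod, Nat.card_eq_fintype_card (α := Fin q), Fintype.card_fin] at h
  have hdec : ∀ v, v ^ q = ∏ j : Fin q, T q (e * x ^ (j : ℕ)) v := fun v => by
    rw [pow_eq_prod hq hex hxq hfpf v, Finset.prod_range]
  have hTW : ∀ (j : Fin q) v, T q (e * x ^ (j : ℕ)) v ∈ W j := fun j v =>
    T_mem_fixed (by rw [(hex.pow_right _).mul_pow, heq, ← pow_mul, mul_comm, pow_mul, hxq, one_pow, mul_one]) v
  -- `g ^ j` maps block `0` onto block `j`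
  have hmove : ∀ i j : Fin q, ∀ w, w ∈ W i → W j = ⊥ → w = 1 := by
    intro i j w hw hj
    set n := g ^ (j : ℕ) * (g ^ (i : ℕ))⁻¹ with hn
    have h : n * (e' * x' ^ (i : ℕ)) = (e' * x' ^ (j : ℕ)) * n := by
      rw [← hgj, ← hgj, hn]; group
    have hm : (n : MulAut V) w ∈ W j := fixed_map (congrArg Subtype.val h) hw
    rw [hj, Subgroup.mem_bot] at hm
    exact (MulEquiv.map_eq_one_iff (n : MulAut V)).1 hm
  have hWb : ∀ j, W j ≠ ⊥ := by
    intro j hj
    obtain ⟨v, hv⟩ := exists_ne (1 : V)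
    refine hv (eq_one_of_pow ?_ hqV)
    rw [hdec]
    exact Finset.prod_eq_one fun i _ => hmove i j _ (hTW i v) hj
  -- the blocks are independent
  have hindep : ∀ (w : Fin q → V), (∀ j, w j ∈ W j) → (∏ j, w j) = 1 → ∀ j, w j = 1 := by
    intro w hw hprod j
    have hjk : ∀ l, l ≠ j → T q (e * x ^ (j : ℕ)) (w l) = 1 := by
      intro l hlj
      set y := T q (e * x ^ (j : ℕ)) (w l) with hy
      have hyj : (e * x ^ (j : ℕ)) y = y := hTW j (w l)
      have hcc : Commute (e * x ^ (l : ℕ)) (e * x ^ (j : ℕ)) :=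
        ((Commute.refl e).mul_right (hex.pow_right _)).mul_left
          ((hex.symm.pow_left _).mul_right ((Commute.refl x).pow_pow _ _))
      have hyl : (e * x ^ (l : ℕ)) y = y := by
        show (e * x ^ (l : ℕ)) (∏ i ∈ Finset.range q, ((e * x ^ (j : ℕ)) ^ i) (w l)) = _
        rw [map_prod]
        refine Finset.prod_congr rfl fun i _ => ?_
        rw [← MulAut.mul_apply, (hcc.pow_right i).eq, MulAut.mul_apply, (hw l : (e * x ^ (l : ℕ)) (w l) = w l)]
      have hxy : (x ^ (l : ℕ)) y = (x ^ (j : ℕ)) y := by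
        rw [MulAut.mul_apply] at hyj hyl
        exact e.injective (hyl.trans hyj.symm)
      rcases lt_trichotomy (l : ℕ) (j : ℕ) with hlt | heq' | hgt
      · have h : y ∈ fixed (x ^ ((j : ℕ) - (l : ℕ))) := (x ^ (l : ℕ)).injective (by
          rw [← MulAut.mul_apply, ← pow_add, Nat.add_sub_cancel' hlt.le, hxy])
        rw [hfpf _ (by omega) (by omega), Subgroup.mem_bot] at h
        exact h
      · exact absurd (Fin.ext heq') hlj
      · have h : y ∈ fixed (x ^ ((l : ℕ) - (j : ℕ))) := (x ^ (j : ℕ)).injective (by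
          rw [← MulAut.mul_apply, ← pow_add, Nat.add_sub_cancel' hgt.le, hxy])
        rw [hfpf _ (by omega) (by omega), Subgroup.mem_bot] at h
        exact h
    have h := congrArg (T q (e * x ^ (j : ℕ))) hprod
    rw [map_prod, map_one, Fintype.prod_eq_single j hjk, T_eq_pow (hw j)] at h
    exact eq_one_of_pow h hqV
  have hWt : ∀ j, W j ≠ ⊤ := by
    intro j hj
    have hq1 : 1 < q := hq.one_lt
    obtain ⟨l, hl⟩ : ∃ l : Fin q, l ≠ j := Fintype.exists_ne_of_one_lt_card (by simpa using hq1) j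
    obtain ⟨w, hw, hw1⟩ := (Subgroup.bot_or_exists_ne_one _).resolve_left (hWb l)
    have h := hindep (Function.update (Function.update (fun _ => 1) l w) j w⁻¹) (fun i => ?_) ?_ l
    · rw [Function.update_of_ne hl, Function.update_self] at h
      exact hw1 h
    · by_cases hij : i = j
      · subst hij; rw [Function.update_self, hj]; trivial
      · rw [Function.update_of_ne hij]
        by_cases hil : i = l
        · subst hil; rw [Function.update_self]; exact hw
        · rw [Function.update_of_ne hil]; exact one_mem _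
    · rw [Finset.prod_update_of_mem (Finset.mem_univ j), Finset.prod_eq_single l, Function.update_self, inv_mul_cancel]
      · intro i _ hil; rw [Function.update_of_ne hil]
      · intro h; simp at h; exact absurd h hl
  -- embed `H` in the product of the restrictions
  set ψ : H →* ((j : Fin q) → (res H (W j) (hWinv j)).range) :=
    MonoidHom.mk' (fun n j => (res H (W j) (hWinv j)).rangeRestrict n) (fun a b => funext fun j => map_mul _ a b)
    with hψdef
  have hψ : Function.Injective ψ := by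
    rw [injective_iff_map_eq_one]
    intro n hn
    refine Subtype.ext (MulEquiv.ext fun v => ?_)
    show (n : MulAut V) v = v
    have hq' : ((n : MulAut V) v * v⁻¹) ^ q = 1 := by
      rw [mul_pow, inv_pow, ← map_pow, hdec, map_prod, mul_inv_eq_one]
      refine Finset.prod_congr rfl fun j _ => ?_
      exact apply_eq_of_res_eq_one (congrArg Subtype.val (congrFun hn j)) (hTW j v)
    exact mul_inv_eq_one.1 (eq_one_of_pow hq' hqV)
  have hH' : Nat.card H ≤ ∏ j : Fin q, Nat.card (res H (W j) (hWinv j)).range := by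
    rw [← Nat.card_pi]
    exact Nat.card_le_card_of_injective ψ hψ
  have hWV : (∏ j : Fin q, Nat.card (W j)) ≤ Nat.card V := by
    rw [← Nat.card_pi]
    refine Nat.card_le_card_of_injective (fun w : (j : Fin q) → W j => ∏ j, (w j : V)) ?_
    intro a b hab'
    funext j
    refine Subtype.ext (div_eq_one.1 (hindep (fun j => (a j : V) / b j) (fun j => div_mem (a j).2 (b j).2) ?_ j))
    rw [Finset.prod_div_distrib, div_eq_one]
    exact hab'
  have h2 : 2 ^ q * Nat.card H ≤ Nat.card V := by
    refine (Nat.mul_le_mul_left _ hH').trans (le_trans ?_ hWV)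
    rw [← Fin.prod_const, ← Finset.prod_mul_distrib]
    exact Finset.prod_le_prod' fun j _ => hres H inf_le_left (W j) (hWinv j) (hWb j) (hWt j)
  have h2q : 2 * q ≤ 2 ^ q := by
    obtain ⟨t, rfl⟩ := Nat.exists_eq_succ_of_ne_zero hq.ne_zero
    rw [pow_succ']
    exact Nat.mul_le_mul_left _ t.lt_two_pow_self
  calc 2 * Nat.card N ≤ 2 * (q * Nat.card H) := Nat.mul_le_mul_left _ hNH
    _ = 2 * q * Nat.card H := by ring
    _ ≤ 2 ^ q * Nat.card H := Nat.mul_le_mul_right _ h2q
    _ ≤ Nat.card V := h2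

end BoundAux

/-- A nilpotent group of odd order acting faithfully and coprimely on an abelian group `V ≠ 1` of odd
order has order at most `|V| / 2`. -/
theorem two_mul_card_le {G : Type u} [Group G] [Finite G] {N V : Subgroup G} (hN : Group.IsNilpotent N)
    (hV : IsMulCommutative V) (hVne : V ≠ ⊥) (hNV : N ≤ Subgroup.normalizer (V : Set G))
    (hfaith : N ⊓ Subgroup.centralizer (V : Set G) = ⊥) (hcop : (Nat.card N).Coprime (Nat.card V))
    (hNodd : Odd (Nat.card N)) (hVodd : Odd (Nat.card V)) : 2 * Nat.card N ≤ Nat.card V := by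
  letI : CommGroup V := { (inferInstance : Group V) with mul_comm := hV.is_comm.comm }
  let f : N →* MulAut V :=
    { toFun := fun n =>
        { toFun := fun v => ⟨n * v * (n : G)⁻¹, (Subgroup.mem_normalizer_iff.1 (hNV n.2) v).1 v.2⟩
          invFun := fun v => ⟨(n : G)⁻¹ * v * n, by
            simpa using (Subgroup.mem_normalizer_iff.1 (inv_mem (hNV n.2)) v).1 v.2⟩
          left_inv := fun v => Subtype.ext (by simp [mul_assoc])
          right_inv := fun v => Subtype.ext (by simp [mul_assoc])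
          map_mul' := fun a b => Subtype.ext (by simp [mul_assoc]) }
      map_one' := by ext v; simp
      map_mul' := fun a b => by ext v; simp [mul_assoc] }
  have hf : Function.Injective f := by
    rw [injective_iff_map_eq_one]
    intro n hn
    refine Subtype.ext (Subgroup.mem_bot.1 (hfaith ▸ ⟨n.2, Subgroup.mem_centralizer_iff.2 fun v hv => ?_⟩))
    have h := congrArg (fun φ : MulAut V => ((φ ⟨v, hv⟩ : V) : G)) hn
    exact (mul_inv_eq_iff_eq_mul.1 (h : (n : G) * v * (n : G)⁻¹ = v)).symm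
  have hc : Nat.card f.range = Nat.card N := (Nat.card_congr (MonoidHom.ofInjective hf).toEquiv).symm
  rw [← hc]
  haveI := hN
  refine BoundAux.key _ V rfl ((Subgroup.one_lt_card_iff_ne_bot V).2 hVne) hVodd f.range
    (Group.nilpotent_of_surjective _ f.rangeRestrict_surjective) ?_ ?_
  · rw [hc]; exact hNodd
  · rw [hc]; exact hcop

end CfsgLib.Comp.SFT
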