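import Cfsg.Agent.Lib.Comp.SFT.Quot
import Cfsg.Agent.Lib.Comp.Local
import Cfsg.Agent.Lib.Amalgam.PCoreOf
import Cfsg.Agent.Lib.Solvable.HallHigman

/-!
Cores of subgroups, the Fitting subgroup of a subgroup, and a membership test for `O_s`.
-/

set_option autoImplicit false
set_option linter.style.haveILetI false
set_option linter.unusedSectionVars false

universe u

namespace CfsgLib.Comp.SFT

open Subgroup
open scoped commutatorElement

variable {G : Type u} [Group G]

/-- The Fitting subgroup of `H` as the join of its cores. -/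
def Fit (H : Subgroup G) : Subgroup G := ⨆ q : Nat.Primes, Cfsg.pCoreOf (q : ℕ) H

/-- `O_{s'}(H)` as a subgroup of the ambient group. -/
def Opp (s : ℕ) (H : Subgroup G) : Subgroup G := (Cfsg.pPrimeCore s ↥H).map H.subtype

theorem core_le (s : ℕ) (H : Subgroup G) : Cfsg.pCoreOf s H ≤ H := CfsgLib.Amalgam.pCoreOf_le H

theorem core_norm (s : ℕ) (H : Subgroup G) : H ≤ normalizer (Cfsg.pCoreOf s H : Set G) :=
  CfsgLib.Amalgam.le_normalizer_pCoreOf H

theorem core_pgroup (s : ℕ) (H : Subgroup G) : IsPGroup s (Cfsg.pCoreOf s H) :=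
  CfsgLib.Amalgam.isPGroup_pCoreOf H

theorem le_core {s : ℕ} {N H : Subgroup G} (hNH : N ≤ H) (hn : H ≤ normalizer (N : Set G))
    (hp : IsPGroup s N) : N ≤ Cfsg.pCoreOf s H := CfsgLib.Amalgam.le_pCoreOf hNH hn hp

theorem core_map_conj (s : ℕ) (H : Subgroup G) (g : G) :
    (Cfsg.pCoreOf s H).map (MulAut.conj g).toMonoidHom =
      Cfsg.pCoreOf s (H.map (MulAut.conj g).toMonoidHom) :=
  (CfsgLib.Amalgam.pCoreOf_map _ (MulAut.conj g).injective H).symm

theorem core_inv {s : ℕ} {H X : Subgroup G} (h : X ≤ normalizer (H : Set G)) :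
    X ≤ normalizer (Cfsg.pCoreOf s H : Set G) := by
  intro x hx
  rw [← map_conj_eq_iff, core_map_conj, map_conj_eq_iff.2 (h hx)]

theorem fit_le (H : Subgroup G) : Fit H ≤ H := iSup_le fun q => core_le _ H

theorem core_le_fit {s : ℕ} (hs : s.Prime) (H : Subgroup G) : Cfsg.pCoreOf s H ≤ Fit H :=
  le_iSup (fun q : Nat.Primes => Cfsg.pCoreOf (q : ℕ) H) ⟨s, hs⟩

theorem fit_inv {H X : Subgroup G} (h : X ≤ normalizer (H : Set G)) :
    X ≤ normalizer (Fit H : Set G) :=
  le_normalizer_iSup _ fun _ => core_inv h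

theorem opp_le (s : ℕ) (H : Subgroup G) : Opp s H ≤ H := map_subtype_le _

theorem le_opp {s : ℕ} {N H : Subgroup G} (hNH : N ≤ H) (hn : H ≤ normalizer (N : Set G))
    (hp : (Nat.card N).Coprime s) : N ≤ Opp s H := by
  intro x hx
  refine ⟨⟨x, hNH hx⟩, CfsgLib.Solvable.le_pPrimeCore ((normal_subgroupOf_iff_le_normalizer hNH).2 hn)
    ?_ hx, rfl⟩
  rwa [CfsgLib.Coprime.card_subgroupOf hNH]

theorem opp_norm (s : ℕ) (H : Subgroup G) : H ≤ normalizer (Opp s H : Set G) := by
  haveI := CfsgLib.Solvable.pPrimeCore_normal s ↥H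
  refine (normal_subgroupOf_iff_le_normalizer (opp_le s H)).1 ?_
  show ((Opp s H).subgroupOf H).Normal
  rw [Opp, subgroupOf, comap_map_eq_self_of_injective H.subtype_injective]
  infer_instance

/-- Two subgroups normalizing each other with trivial intersection commute. -/
theorem le_centralizer_of_disjoint {X Y : Subgroup G} (hX : X ≤ normalizer (Y : Set G))
    (hY : Y ≤ normalizer (X : Set G)) (h : X ⊓ Y = ⊥) : X ≤ centralizer (Y : Set G) := by
  rw [← commutator_eq_bot_iff_le_centralizer, eq_bot_iff, ← h]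
  exact commutator_le_inf_of_le_normalizer hY hX

variable [Finite G]

theorem opp_coprime (s : ℕ) (H : Subgroup G) : (Nat.card (Opp s H)).Coprime s := by
  rw [Opp, card_map_of_injective H.subtype_injective]
  exact CfsgLib.Solvable.pPrimeCore_coprime s

theorem pgroup_disjoint {r s : ℕ} (hr : r.Prime) (hs : s.Prime) (hne : r ≠ s) {X Y : Subgroup G}
    (hX : IsPGroup r X) (hY : IsPGroup s Y) : X ⊓ Y = ⊥ := by
  haveI := Fact.mk hr
  haveI := Fact.mk hs
  exact CfsgLib.Coprime.inf_eq_bot_of_coprime (IsPGroup.coprime_card_of_ne r s hne _ _ hX hY)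

theorem coprime_card_pgroup {r s : ℕ} (hr : r.Prime) (hs : s.Prime) (hne : r ≠ s) {X : Subgroup G}
    (hX : IsPGroup r X) : (Nat.card X).Coprime s := by
  haveI := Fact.mk hr
  obtain ⟨n, hn⟩ := IsPGroup.iff_card.1 hX
  rw [hn]
  exact Nat.Coprime.pow_left _ ((Nat.coprime_primes hr hs).2 hne)

theorem core_commute {r s : ℕ} (hr : r.Prime) (hs : s.Prime) (hne : r ≠ s) (H : Subgroup G) :
    Cfsg.pCoreOf r H ≤ centralizer (Cfsg.pCoreOf s H : Set G) :=
  le_centralizer_of_disjoint ((core_le r H).trans (core_norm s H))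
    ((core_le s H).trans (core_norm r H))
    (pgroup_disjoint hr hs hne (core_pgroup r H) (core_pgroup s H))

theorem fit_eq (H : Subgroup G) : Fit H = (Cfsg.fittingSubgroup ↥H).map H.subtype := by
  rw [CfsgLib.Solvable.fittingSubgroup_eq_iSup_pCore, Subgroup.map_iSup]
  rfl

theorem fit_self {H : Subgroup G} (hs : Group.IsSolvable H) :
    H ⊓ centralizer (Fit H : Set G) ≤ Fit H := by
  intro x hx
  rw [fit_eq] at hx ⊢
  refine ⟨⟨x, hx.1⟩, CfsgLib.Solvable.centralizer_fittingSubgroup_le ?_, rfl⟩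
  exact fun y hy => Subtype.ext (hx.2 _ (mem_map_of_mem _ hy))

/-- A subgroup of a solvable `H` centralizing all cores lies in the Fitting subgroup. -/
theorem le_fit_of_centralizes {H X : Subgroup G} (hs : Group.IsSolvable H) (hX : X ≤ H)
    (h : ∀ q : ℕ, q.Prime → X ≤ centralizer (Cfsg.pCoreOf q H : Set G)) : X ≤ Fit H :=
  (le_inf hX (le_centralizer_iff.1 (iSup_le fun q : Nat.Primes => le_centralizer_iff.1 (h q q.2)))).trans (fit_self hs)

/-- The `s`-subgroups of the Fitting subgroup lie in `O_s`. -/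
theorem pgroup_fit_le {s : ℕ} (hs : s.Prime) {H X : Subgroup G} (hX : X ≤ Fit H)
    (hXs : IsPGroup s X) : X ≤ Cfsg.pCoreOf s H := by
  haveI := Fact.mk hs
  set K := ⨆ q : {q : ℕ // q.Prime ∧ q ≠ s}, Cfsg.pCoreOf (q : ℕ) H with hK
  have hKH : H ≤ normalizer (K : Set G) := le_normalizer_iSup _ fun q => core_norm _ H
  have hKs : (Nat.card K).Coprime s := by
    refine (opp_coprime s H).coprime_dvd_left (card_dvd_of_le (iSup_le fun q => ?_))
    exact le_opp (core_le _ H) (core_norm _ H) (coprime_card_pgroup q.2.1 hs q.2.2 (core_pgroup _ H))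
  have hFit : Fit H ≤ K ⊔ Cfsg.pCoreOf s H := iSup_le fun q => by
    by_cases hq : (q : ℕ) = s
    · rw [hq]; exact le_sup_right
    · exact le_sup_of_le_left (le_iSup (fun q : {q : ℕ // q.Prime ∧ q ≠ s} => Cfsg.pCoreOf (q : ℕ) H)
        ⟨q, q.2, hq⟩)
  intro x hx
  have hcore := core_le s H
  obtain ⟨k, hk, a, ha, rfl⟩ := exists_mul_of_mem_sup (hcore.trans hKH) (hFit (hX hx))
  suffices k = 1 by rw [this, one_mul]; exact ha
  have hcomm : Commute k a := by
    have h : K ≤ centralizer (Cfsg.pCoreOf s H : Set G) :=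
      iSup_le fun q => core_commute q.2.1 hs q.2.2 H
    exact (mem_centralizer_iff.1 (h hk) a ha).symm
  obtain ⟨i, hi⟩ := hXs ⟨_, hx⟩
  obtain ⟨j, hj⟩ := core_pgroup s H ⟨_, ha⟩
  have h1 : (k * a) ^ s ^ (i + j) = 1 := by
    rw [pow_add, pow_mul, show (k * a) ^ s ^ i = 1 from congrArg Subtype.val hi, one_pow]
  have h2 : a ^ s ^ (i + j) = 1 := by
    rw [pow_add, mul_comm, pow_mul, show a ^ s ^ j = 1 from congrArg Subtype.val hj, one_pow]
  rw [hcomm.mul_pow, h2, mul_one] at h1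
  have h3 : orderOf k ∣ Nat.card K := by
    have := orderOf_dvd_natCard (⟨k, hk⟩ : K)
    rwa [← orderOf_coe] at this
  have h4 : orderOf k ∣ s ^ (i + j) := orderOf_dvd_of_pow_eq_one h1
  exact orderOf_eq_one_iff.1 (Nat.eq_one_of_dvd_coprimes (hKs.pow_right (i + j)) h3 h4)

theorem core_ne_bot_iff {s : ℕ} {H X : Subgroup G} (hX : X ≠ ⊥) (hle : X ≤ Cfsg.pCoreOf s H) :
    Cfsg.pCoreOf s H ≠ ⊥ := fun e => hX (le_bot_iff.1 (e ▸ hle))

theorem exists_core_ne_bot {H : Subgroup G} (hs : Group.IsSolvable H) (hne : H ≠ ⊥) :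
    ∃ q : ℕ, q.Prime ∧ Cfsg.pCoreOf q H ≠ ⊥ := by
  by_contra hc
  push Not at hc
  have h : Fit H = ⊥ := le_bot_iff.1 (iSup_le fun q => (hc q q.2).le)
  refine hne (le_bot_iff.1 ?_)
  refine (le_fit_of_centralizes hs le_rfl fun q hq => ?_).trans h.le
  rw [hc q hq, le_centralizer_iff]
  exact bot_le

theorem exists_core_pre {V H : Subgroup G} (hVH : V ≤ H)
    (hNV : normalizer (H : Set G) ≤ normalizer (V : Set G)) (q : ℕ) :
    ∃ P : Subgroup G, V ≤ P ∧ P ≤ H ∧ normalizer (H : Set G) ≤ normalizer (P : Set G) ∧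
      qm V P = Cfsg.pCoreOf q (qm V H) := by
  have hHN : H ≤ normalizer (V : Set G) := le_normalizer.trans hNV
  set Hb := qm V H
  obtain ⟨P, hVP, hPN, hP⟩ := exists_qm_eq (Cfsg.pCoreOf q Hb)
  have hPH : P ≤ H := (qm_le_iff hPN hVH).1 (hP.le.trans (core_le q Hb))
  refine ⟨P, hVP, hPH, ?_, hP⟩
  intro x hx
  rw [← map_conj_eq_iff]
  have key : ∀ x ∈ normalizer (H : Set G), P.map (MulAut.conj x).toMonoidHom ≤ P := by
    intro x hx
    rintro _ ⟨y, hy, rfl⟩
    have hyN := hPN hy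
    have hmem : x * y * x⁻¹ ∈ normalizer (V : Set G) :=
      mul_mem (mul_mem (hNV hx) hyN) (inv_mem (hNV hx))
    have hxb : qm V (normalizer (H : Set G)) ≤ normalizer (Hb : Set (QN V)) :=
      qm_le_normalizer hHN hNV le_rfl
    have h1 : qm V (zpowers (x * y * x⁻¹)) ≤ qm V P := by
      rintro _ ⟨⟨w, hw⟩, hwZ, rfl⟩
      obtain ⟨k, rfl⟩ := (mem_zpowers_iff).1 (mem_subgroupOf.1 hwZ)
      have h2 : qx V x (hNV hx) * qx V y hyN * (qx V x (hNV hx))⁻¹ ∈ qm V P := by
        rw [hP]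
        exact (mem_normalizer_iff.1 (core_inv hxb (qx_mem _ hx)) _).1 (hP ▸ qx_mem hyN hy)
      have e : QuotientGroup.mk' (V.subgroupOf (normalizer (V : Set G))) ⟨(x * y * x⁻¹) ^ k, hw⟩ =
          (qx V x (hNV hx) * qx V y hyN * (qx V x (hNV hx))⁻¹) ^ k := by
        rw [qx, qx, ← map_inv, ← map_mul, ← map_mul, ← map_zpow]
        exact congrArg _ (Subtype.ext (by simp))
      rw [e]
      exact zpow_mem h2 k
    exact (qm_le_iff (zpowers_le.2 hmem) hVP).1 h1 (mem_zpowers _)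
  refine le_antisymm (key x hx) fun y hy => ?_
  have h2 := key x⁻¹ (inv_mem hx) (mem_map_of_mem _ hy)
  exact ⟨_, h2, by simp [mul_assoc]⟩

/-- `U ≤ O_s(H)` as soon as `U` acts trivially on every core of `H / O_s(H)`. -/
theorem le_core_test {s : ℕ} (hs : s.Prime) {H U : Subgroup G} (hH : Group.IsSolvable H)
    (hUH : U ≤ H) (hU : IsPGroup s U)
    (h : ∀ t : ℕ, t.Prime → t ≠ s → ∀ P : Subgroup G, P ≤ H →
      normalizer (H : Set G) ≤ normalizer (P : Set G) →
      Cfsg.pCoreOf s H ≤ P → IsPGroup t (qm (Cfsg.pCoreOf s H) P) →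
      qm (Cfsg.pCoreOf s H) U ≤ centralizer (qm (Cfsg.pCoreOf s H) P : Set (QN (Cfsg.pCoreOf s H)))) :
    U ≤ Cfsg.pCoreOf s H := by
  haveI := Fact.mk hs
  set V := Cfsg.pCoreOf s H with hV
  have hVH : V ≤ H := core_le s H
  have hHN : H ≤ normalizer (V : Set G) := core_norm s H
  set Hb := qm V H
  have hpre := fun q => exists_core_pre (V := V) hVH (core_inv le_rfl) q (H := H)
  have hbot : Cfsg.pCoreOf s Hb = ⊥ := by
    obtain ⟨P, hVP, hPH, hPn, hP⟩ := hpre s
    rw [← hP, qm_eq_bot (hPH.trans hHN)]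
    refine le_core hPH (le_normalizer.trans hPn) ?_
    obtain ⟨m, hm⟩ := IsPGroup.iff_card.1 (core_pgroup s Hb)
    obtain ⟨n, hn⟩ := IsPGroup.iff_card.1 (core_pgroup s H)
    exact IsPGroup.of_card (n := m + n) (by rw [← card_qm hVP (hPH.trans hHN), hP, hm, hn, pow_add])
  have hle : qm V U ≤ Fit Hb := by
    refine le_fit_of_centralizes (isSolvable_qm hHN hH) (qm_mono hUH) fun q hq => ?_
    by_cases hqs : q = s
    · rw [hqs, hbot, le_centralizer_iff]; exact bot_le
    · obtain ⟨P, hVP, hPH, hPn, hP⟩ := hpre q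
      rw [← hP]
      exact h q hq hqs P hPH hPn hVP (by rw [hP]; exact core_pgroup q Hb)
  have h2 := (pgroup_fit_le hs hle (isPGroup_qm hU)).trans hbot.le
  exact (qm_eq_bot (hUH.trans hHN)).1 (le_bot_iff.1 h2)

/-- `s`-subgroups of a subgroup that is a `t`-group modulo `O_s(H)` are trivial modulo `O_s(H)`. -/
theorem qm_eq_bot_of_pgroup {s t : ℕ} (hs : s.Prime) (ht : t.Prime) (hne : t ≠ s) {V P K : Subgroup G}
    (hK : K ≤ P) (hKs : IsPGroup s K) (hP : IsPGroup t (qm V P)) : qm V K = ⊥ := by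
  rw [← inf_eq_left.2 (qm_mono (V := V) hK)]
  exact pgroup_disjoint hs ht hne.symm (isPGroup_qm hKs) hP

/-- `W ≤ O_{q'}(H)` for a `q'`-subgroup centralizing a `q`-subgroup `P₁` and normalized by `C_H(P₁)`. -/
theorem le_opp_test {q : ℕ} (hq : q.Prime) {H W P₁ : Subgroup G} (hH : Group.IsSolvable H)
    (hWH : W ≤ H) (hP₁H : P₁ ≤ H) (hP₁ : IsPGroup q P₁) (hW : (Nat.card W).Coprime q)
    (hWP : W ≤ centralizer (P₁ : Set G))
    (hWn : H ⊓ centralizer (P₁ : Set G) ≤ normalizer (W : Set G)) : W ≤ Opp q H := by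
  haveI := Fact.mk hq
  set V := Opp q H with hV
  have hVH : V ≤ H := opp_le q H
  have hNV : normalizer (H : Set G) ≤ normalizer (V : Set G) := by
    intro g hg
    have key : ∀ g ∈ normalizer (H : Set G), V.map (MulAut.conj g).toMonoidHom ≤ V := by
      intro g hg
      have hgH := map_conj_eq_iff.2 hg
      refine le_opp ((map_mono hVH).trans hgH.le) ?_
        (by rw [card_map_of_injective (MulAut.conj g).injective]; exact opp_coprime q H)
      intro y hy
      rw [← hgH] at hy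
      obtain ⟨w, hw, rfl⟩ := hy
      exact le_normalizer_map (MulAut.conj g).toMonoidHom (mem_map_of_mem _ (opp_norm q H hw))
    rw [← map_conj_eq_iff]
    refine le_antisymm (key g hg) fun y hy => ?_
    exact ⟨_, key g⁻¹ (inv_mem hg) (mem_map_of_mem _ hy), by simp [mul_assoc]⟩
  have hHN : H ≤ normalizer (V : Set G) := le_normalizer.trans hNV
  set N := normalizer (V : Set G)
  have hVc : (Nat.card (V.subgroupOf N)).Coprime q := by
    rw [CfsgLib.Coprime.card_subgroupOf le_normalizer]; exact opp_coprime q H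
  -- the only nontrivial core of `H / V` is `O_q`
  have hbot : ∀ r : ℕ, r.Prime → r ≠ q → Cfsg.pCoreOf r (qm V H) = ⊥ := by
    intro r hr hrq
    obtain ⟨P, hVP, hPH, hPn, hP⟩ := exists_core_pre hVH hNV r
    rw [← hP, qm_eq_bot (hPH.trans hHN)]
    refine le_opp hPH (le_normalizer.trans hPn) ?_
    rw [← card_qm hVP (hPH.trans hHN), hP]
    exact (coprime_card_pgroup hr hq hrq (core_pgroup r _)).mul_left (opp_coprime q H)
  obtain ⟨P, hVP, hPH, hPn, hP⟩ := exists_core_pre hVH hNV q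
  have hWb : (Nat.card (qm V W)).Coprime q := hW.coprime_dvd_left (card_qm_dvd W)
  have hcent : qm V W ≤ centralizer (qm V P : Set (QN V)) := by
    rw [hP]
    refine CfsgLib.Comp.le_centralizer_of_centralizes_fixed (p := q) (core_pgroup q _)
      (isPGroup_qm (V := V) hP₁) hWb (le_trans (qm_mono hP₁H) (core_norm q _))
      (le_trans (qm_mono hWH) (core_norm q _)) ?_ ?_
    · rw [← commutator_eq_bot_iff_le_centralizer, ← qm_commutator (hWH.trans hHN) (hP₁H.trans hHN),
        commutator_eq_bot_iff_le_centralizer.2 hWP, qm_eq_bot bot_le]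
      exact bot_le
    rw [le_centralizer_iff]
    rintro yb ⟨hy1, hy2⟩
    have h1 := map_centralizer_eq (p := q) (O := V.subgroupOf N) (P := P₁.subgroupOf N) hVc
      (hP₁.comap_of_injective N.subtype N.subtype_injective)
    have hy3 : yb ∈ (centralizer (P₁.subgroupOf N : Set N)).map (QuotientGroup.mk' (V.subgroupOf N)) := by
      rw [h1]; exact hy2
    obtain ⟨⟨c, hcN⟩, hc, rfl⟩ := hy3
    have hcP : c ∈ P := (qm_le_iff (zpowers_le.2 hcN) hVP).1 (by
      rw [qm_zpowers hcN, zpowers_le, hP]; exact hy1) (mem_zpowers c)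
    have hcc : c ∈ centralizer (P₁ : Set G) := fun a ha =>
      congrArg Subtype.val (hc ⟨a, hHN (hP₁H ha)⟩ ha)
    have hcW : c ∈ normalizer (W : Set G) := hWn ⟨hPH hcP, hcc⟩
    refine mem_centralizer_iff.2 ?_
    rintro _ ⟨⟨w, hwN⟩, hw, rfl⟩
    rw [← commutatorElement_eq_one_iff_mul_comm]
    have e : ⁅QuotientGroup.mk' (V.subgroupOf N) ⟨w, hwN⟩, QuotientGroup.mk' (V.subgroupOf N) ⟨c, hcN⟩⁆ =
        QuotientGroup.mk' (V.subgroupOf N) ⟨⁅w, c⁆,
          commutator_le_self N (commutator_mem_commutator hwN hcN)⟩ := by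
      rw [← map_commutatorElement]; rfl
    rw [e, ← mem_bot, ← CfsgLib.Coprime.inf_eq_bot_of_coprime
      (coprime_card_of_isPGroup (core_pgroup q (qm V H)) hWb)]
    refine ⟨hP ▸ qx_mem _ ?_, qx_mem _ ?_⟩
    · have h2 := commutator_le_of_le_normalizer ((hWH.trans le_normalizer).trans hPn)
        (commutator_mem_commutator hcP hw)
      rw [← commutatorElement_inv]
      exact inv_mem h2
    · rw [commutatorElement_def, show w * c * w⁻¹ * c⁻¹ = w * (c * w⁻¹ * c⁻¹) by group]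
      exact mul_mem hw ((mem_normalizer_iff.1 hcW _).1 (inv_mem hw))
  have hle : qm V W ≤ Fit (qm V H) := by
    refine le_fit_of_centralizes (isSolvable_qm hHN hH) (qm_mono hWH) fun r hr => ?_
    by_cases hrq : r = q
    · rw [hrq, ← hP]; exact hcent
    · rw [hbot r hr hrq, le_centralizer_iff]; exact bot_le
  have hfit : Fit (qm V H) ≤ Cfsg.pCoreOf q (qm V H) := iSup_le fun r => by
    by_cases hrq : (r : ℕ) = q
    · rw [hrq]
    · rw [hbot r r.2 hrq]; exact bot_le
  refine (qm_eq_bot (hWH.trans hHN)).1 (le_bot_iff.1 ?_)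
  rw [← CfsgLib.Coprime.inf_eq_bot_of_coprime (coprime_card_of_isPGroup (core_pgroup q (qm V H)) hWb)]
  exact le_inf (hle.trans hfit) le_rfl

/-- Commutators of a join land in a subgroup normalized by the factors. -/
theorem commutator_iSup_le {ι : Sort*} {f : ι → Subgroup G} {K R : Subgroup G}
    (hn : ∀ i, f i ≤ normalizer (R : Set G)) (hc : ∀ i, ⁅f i, K⁆ ≤ R) : ⁅⨆ i, f i, K⁆ ≤ R := by
  refine commutator_le.2 fun a ha k hk => ?_
  let S : Subgroup G :=
    { carrier := {g | g ∈ normalizer (R : Set G) ∧ ⁅g, k⁆ ∈ R}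
      one_mem' := ⟨one_mem _, by rw [commutatorElement_one_left]; exact one_mem _⟩
      mul_mem' := by
        rintro a b ⟨ha, ha'⟩ ⟨hb, hb'⟩
        refine ⟨mul_mem ha hb, ?_⟩
        have e : ⁅a * b, k⁆ = a * ⁅b, k⁆ * a⁻¹ * ⁅a, k⁆ := by simp only [commutatorElement_def]; group
        rw [e]
        exact mul_mem ((mem_normalizer_iff.1 ha _).1 hb') ha'
      inv_mem' := by
        rintro a ⟨ha, ha'⟩
        refine ⟨inv_mem ha, ?_⟩
        have e : ⁅a⁻¹, k⁆ = a⁻¹ * ⁅a, k⁆⁻¹ * a⁻¹⁻¹ := by simp only [commutatorElement_def]; group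
        rw [e]
        exact (mem_normalizer_iff.1 (inv_mem ha) _).1 (inv_mem ha') }
  have hle : (⨆ i, f i) ≤ S :=
    iSup_le fun i g hg => ⟨hn i hg, hc i (commutator_mem_commutator hg hk)⟩
  exact (hle ha).2

end CfsgLib.Comp.SFT
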