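import Cfsg.Agent.Lib.Comp.SFT.Maximal

/-!
No `θ b` is a maximal member.
-/

set_option autoImplicit false
set_option linter.style.haveILetI false
set_option linter.unusedSectionVars false

universe u

namespace CfsgLib.Comp.SFT

open Subgroup
open scoped commutatorElement

variable {G : Type u} [Group G] [Finite G] {p : ℕ} [hp : Fact p.Prime]
  {A : Subgroup G} {θ : G → Subgroup G}

theorem norm_commutator {X S N : Subgroup G} (hX : N ≤ normalizer (X : Set G))
    (hS : N ≤ normalizer (S : Set G)) : N ≤ normalizer ((⁅X, S⁆ : Subgroup G) : Set G) := by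
  intro g hg
  rw [← map_conj_eq_iff, Subgroup.map_commutator, map_conj_eq_iff.2 (hX hg),
    map_conj_eq_iff.2 (hS hg)]

/-- `N(H)` normalizes `O_{s'}(H)`. -/
theorem normalizer_le_normalizer_opp (s : ℕ) (H : Subgroup G) :
    normalizer (H : Set G) ≤ normalizer (Opp s H : Set G) := by
  intro g hg
  have key : ∀ g ∈ normalizer (H : Set G), (Opp s H).map (MulAut.conj g).toMonoidHom ≤ Opp s H := by
    intro g hg
    have hgH := map_conj_eq_iff.2 hg
    refine le_opp ((map_mono (opp_le s H)).trans hgH.le) ?_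
      (by rw [card_map_of_injective (MulAut.conj g).injective]; exact opp_coprime s H)
    intro y hy
    rw [← hgH] at hy
    obtain ⟨w, hw, rfl⟩ := hy
    exact le_normalizer_map (MulAut.conj g).toMonoidHom (mem_map_of_mem _ (opp_norm s H hw))
  rw [← map_conj_eq_iff]
  refine le_antisymm (key g hg) fun y hy => ?_
  exact ⟨_, key g⁻¹ (inv_mem hg) (mem_map_of_mem _ hy), by simp [mul_assoc]⟩

/-- The cores for primes other than `s` of `H / O_{s'}(H)` are trivial. -/
theorem core_qm_opp {s r : ℕ} (hs : s.Prime) (hr : r.Prime) (hrs : r ≠ s) (H : Subgroup G) :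
    Cfsg.pCoreOf r (qm (Opp s H) H) = ⊥ := by
  have hNV := normalizer_le_normalizer_opp s H
  obtain ⟨P, hVP, hPH, hPn, hP⟩ := exists_core_pre (opp_le s H) hNV r
  have hPN : P ≤ normalizer (Opp s H : Set G) := hPH.trans (opp_norm s H)
  rw [← hP, qm_eq_bot hPN]
  refine le_opp hPH (le_normalizer.trans hPn) ?_
  rw [← card_qm hVP hPN, hP]
  exact (coprime_card_pgroup hr hs hrs (core_pgroup r _)).mul_left (opp_coprime s H)

theorem fit_qm_opp {s : ℕ} (hs : s.Prime) (H : Subgroup G) :
    Fit (qm (Opp s H) H) = Cfsg.pCoreOf s (qm (Opp s H) H) := by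
  refine le_antisymm (iSup_le fun r => ?_) (core_le_fit hs _)
  by_cases h : (r : ℕ) = s
  · rw [h]
  · rw [core_qm_opp hs r.2 h]; exact bot_le

namespace Min

variable (h : Min p A θ)

include h

/-- An `r`-section of a member is covered by an `A`-invariant `r`-member. -/
theorem exists_cover {r : ℕ} (hr : r.Prime) {V P : Subgroup G}
    (hP : P ∈ Cfsg.signalizerFamily p A θ) (hVP : V ≤ P) (hPN : P ≤ normalizer (V : Set G))
    (hPr : IsPGroup r (qm V P)) :
    ∃ S ∈ Cfsg.signalizerFamily p A θ, IsPGroup r S ∧ S ≤ P ∧ P ≤ V ⊔ S := by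
  haveI := Fact.mk hr
  obtain ⟨S0, hS0⟩ := CfsgLib.Coprime.exists_invariant_sylow (h.mem_inv hP)
    (h.coprimeA hP) (Or.inl (isSolvable_elemAb h.hA)) r
  refine ⟨(S0 : Subgroup P).map P.subtype, family_mono hP (map_subtype_le _) hS0,
    S0.isPGroup'.map _, map_subtype_le _, ?_⟩
  rw [← relIndex_eq_one]
  refine Nat.eq_one_of_dvd_coprimes (a := Nat.card (qm V P))
    (b := ((S0 : Subgroup P).map P.subtype).relIndex P) ?_ ?_ (relIndex_dvd_of_le_left P le_sup_right)
  · obtain ⟨n, hn⟩ := IsPGroup.iff_card.1 hPr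
    rw [hn]
    refine Nat.Coprime.pow_left _ (hr.coprime_iff_not_dvd.2 ?_)
    show ¬ r ∣ (((S0 : Subgroup P).map P.subtype).subgroupOf P).index
    rw [subgroupOf, comap_map_eq_self_of_injective P.subtype_injective]
    exact S0.not_dvd_index
  · refine (relIndex_dvd_of_le_left P (le_sup_left : V ≤ V ⊔ _)).trans (dvd_of_eq ?_)
    have h1 := relIndex_mul_relIndex ⊥ V P bot_le hVP
    rw [relIndex_bot_left, relIndex_bot_left, ← card_qm hVP hPN, mul_comm] at h1
    exact Nat.eq_of_mul_eq_mul_right Nat.card_pos h1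

/-- If every `r`-member is centralized by `b`, then `⁅θ c, b⁆` is an `r'`-group. -/
theorem comm_le_opp {r : ℕ} (hr : r.Prime) {b : G} (hb : b ∈ A)
    (hall : ∀ X ∈ Cfsg.signalizerFamily p A θ, IsPGroup r X → X ≤ centralizer ({b} : Set G))
    {X : Subgroup G} (hX : X ∈ Cfsg.signalizerFamily p A θ) :
    ⁅X, zpowers b⁆ ≤ Opp r X := by
  set V := Opp r X
  have hNV := normalizer_le_normalizer_opp r X
  have hXN : X ≤ normalizer (V : Set G) := opp_norm r X
  have hZA : zpowers b ≤ A := zpowers_le.2 hb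
  have hZX : zpowers b ≤ normalizer (X : Set G) := hZA.trans (h.mem_inv hX)
  have hZN : zpowers b ≤ normalizer (V : Set G) := hZX.trans hNV
  obtain ⟨P, hVP, hPX, hPn, hP⟩ := exists_core_pre (opp_le r X) hNV r
  have hPm : P ∈ Cfsg.signalizerFamily p A θ := family_mono hX hPX ((h.mem_inv hX).trans hPn)
  have hPN : P ≤ normalizer (V : Set G) := hPX.trans hXN
  obtain ⟨S, hS, hSr, hSP, hPS⟩ := h.exists_cover hr hPm hVP hPN (by rw [hP]; exact core_pgroup r _)
  have hbP : ⁅qm V P, qm V (zpowers b)⁆ = ⊥ := by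
    rw [commutator_eq_bot_iff_le_centralizer]
    refine (qm_mono hPS).trans ?_
    rw [qm_sup le_normalizer (hSP.trans hPN), sup_le_iff]
    refine ⟨?_, ?_⟩
    · rw [(qm_eq_bot le_normalizer).2 le_rfl]; exact bot_le
    · rw [← commutator_eq_bot_iff_le_centralizer, ← qm_commutator (hSP.trans hPN) hZN,
        qm_eq_bot ((commutator_mono (hSP.trans hPN) hZN).trans (commutator_le_self _))]
      refine le_trans (le_of_eq ?_) bot_le
      rw [commutator_eq_bot_iff_le_centralizer, centralizer_zpowers]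
      exact hall S hS hSr
  have hXb : qm V X ≤ normalizer (qm V P : Set (QN V)) :=
    qm_le_normalizer hPN hXN (le_normalizer.trans hPn)
  have h1 : ⁅qm V X, qm V (zpowers b)⁆ ≤ qm V P := by
    rw [hP, ← fit_qm_opp hr X]
    refine le_trans (le_inf (commutator_le_of_le_normalizer (qm_le_normalizer hXN hZN hZX)) ?_)
      (fit_self (isSolvable_qm hXN hX.1))
    rw [fit_qm_opp hr X, ← hP, ← commutator_eq_bot_iff_le_centralizer]
    refine commutator_commutator_eq_bot_of_rotate ?_ ?_
    · rw [commutator_comm (qm V (zpowers b)), hbP, commutator_bot_left]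
    · exact le_bot_iff.1 ((commutator_mono (commutator_le_of_le_normalizer hXb) le_rfl).trans hbP.le)
  have h2 : ⁅⁅X, zpowers b⁆, zpowers b⁆ ≤ V := by
    have hN1 : ⁅X, zpowers b⁆ ≤ normalizer (V : Set G) := (h.comm_le hX hZA).trans hXN
    rw [← qm_eq_bot ((commutator_mono hN1 hZN).trans (commutator_le_self _)),
      qm_commutator hN1 hZN, qm_commutator hXN hZN]
    exact le_bot_iff.1 ((commutator_mono h1 le_rfl).trans hbP.le)
  rwa [h.comm_comm hX hZA] at h2

/-- No `θ b` is a maximal member. -/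
theorem not_max_theta {b : G} (hb : b ∈ A) (hb1 : b ≠ 1) : ¬ MaxMem p A θ (θ b) := by
  intro hmax
  obtain ⟨r, hr, hr0⟩ := exists_core_ne_bot hmax.1.1 (h.max_ne_bot hmax)
  obtain ⟨Y, hY, hYr, -, hYall, hYmax⟩ := h.exists_prime_member hr
  have hall : ∀ X ∈ Cfsg.signalizerFamily p A θ, IsPGroup r X → X ≤ centralizer ({b} : Set G) := by
    intro X hX hXr
    obtain ⟨Q, hQ, hQr, hXQ, hQm⟩ := exists_maximal_member hX hXr
    exact hXQ.trans (h.cent_prime_member hb hb1 hmax hr hr0 hQ hQr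
      ((hYall _ (h.core_mem hmax.1 r) (core_pgroup r _) (h.theta_norm_core hb hb1 le_rfl r)).trans
        (hYmax Q hQ hQr hQm)))
  obtain ⟨a₀, ha₀, ha₀1, hqd⟩ :=
    h.exists_prime_dvd_theta hr (h.core_mem hmax.1 r) (core_pgroup r _) hr0
  obtain ⟨Z, hZ, -, -, hZall⟩ := h.exists_sigma_member {q | q ≠ r} hr (by simp) ha₀ ha₀1 hqd
  refine h.psi_comm hZ hb hb1 fun B hB _ => ?_
  obtain ⟨c, hc, hc1⟩ := exists_mem_ne_one (h.line_ne_bot hB)
  refine (commutator_mono (signalizerInf_le hc hc1) le_rfl).trans ?_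
  have hcm := h.theta_mem (hB.1 hc) hc1
  refine hZall _ (h.comm_mem hcm (zpowers_le.2 hb)) (fun q hq hqd' => ?_) ?_
  · rintro rfl
    exact hq.coprime_iff_not_dvd.1 ((opp_coprime q (θ c)).symm)
      (hqd'.trans (card_dvd_of_le (h.comm_le_opp hq hb hall hcm)))
  · exact norm_commutator (h.D_norm_theta (hB.1 hc) hc1)
      ((h.D_cent.trans (centralizer_le (zpowers_le.2 hb))).trans (centralizer_le_normalizer _))

theorem max_ne_theta {M : Subgroup G} (hM : MaxMem p A θ M) {e : G} (he : e ∈ A) (he1 : e ≠ 1) :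
    M ≠ θ e := fun h' => h.not_max_theta he he1 (h' ▸ hM)

end Min

end CfsgLib.Comp.SFT
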