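import Cfsg.Agent.Lib.Comp.FFOrbit
import Cfsg.Agent.Lib.Comp.SFT.Cores
import Cfsg.Agent.Lib.PLength.DerivedBound

/-!
Failure of factorization under a coprime elementary abelian group: an `s`-group normalized by the
fixed points and by the elements centralizing the Thompson subgroup modulo `C(V)` centralizes `V`.
-/

set_option autoImplicit false
set_option linter.style.haveILetI false
set_option linter.unusedSectionVars false

universe u

namespace CfsgLib.Comp.SFT

open Subgroup
open scoped commutatorElement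

section Index

variable {G : Type u} [Group G]

/-- If the elements of `K` are those of `L` times those of `K ∩ C`, the indices of `C` agree. -/
theorem relIndex_eq_of_factor [Finite G] {L K C : Subgroup G} (hLK : L ≤ K)
    (h : ∀ k ∈ K, ∃ l ∈ L, l⁻¹ * k ∈ C) : C.relIndex K = C.relIndex L := by
  have e : (C.subgroupOf K).subgroupOf (L.subgroupOf K) =
      (C.subgroupOf K).subgroupOf (L.subgroupOf K) := rfl
  rw [← relIndex_subgroupOf hLK (H := C)]
  show (C.subgroupOf K).index = _
  rw [index_eq_card, relIndex, index_eq_card]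
  let f : (L.subgroupOf K) ⧸ (C.subgroupOf K).subgroupOf (L.subgroupOf K) → K ⧸ C.subgroupOf K :=
    Quotient.map' Subtype.val fun a b hab => by
      rw [QuotientGroup.leftRel_apply] at hab ⊢
      exact hab
  refine (Nat.card_eq_of_bijective f ⟨?_, ?_⟩).symm
  · exact fun a b => Quotient.inductionOn₂' a b fun u v huv =>
      Quotient.sound' (QuotientGroup.leftRel_apply.2
        ((QuotientGroup.eq (s := C.subgroupOf K) (a := (u : K)) (b := (v : K))).1 huv))
  · intro q
    induction q using Quotient.inductionOn' with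
    | h k =>
      obtain ⟨l, hl, hlk⟩ := h k k.2
      exact ⟨Quotient.mk'' ⟨⟨l, hLK hl⟩, hl⟩,
        Quotient.sound' (QuotientGroup.leftRel_apply.2 hlk)⟩

/-- For `T` normal in `T'`, `|T : T ∩ C|` divides `|T' : T' ∩ C|`. -/
theorem relIndex_dvd_of_normalized [Finite G] {T T' : Subgroup G} (C : Subgroup G)
    (hle : T ≤ T') (hn : T' ≤ normalizer (T : Set G)) : C.relIndex T ∣ C.relIndex T' := by
  haveI := normal_subgroupOf_of_le_normalizer hn
  rw [← relIndex_subgroupOf hle (H := C)]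
  set N := T.subgroupOf T'
  set D := C.subgroupOf T'
  have h1 : D.relIndex (N ⊔ D) = D.relIndex N := by
    have e1 : ∀ {a b : Subgroup T'}, a ≤ b → Nat.card a * a.relIndex b = Nat.card b := fun {a b} hab => by
      rw [← relIndex_bot_left, ← relIndex_bot_left, relIndex_mul_relIndex _ _ _ bot_le hab]
    have a1 := e1 (le_sup_right : D ≤ N ⊔ D)
    have a2 := e1 (le_sup_left : N ≤ N ⊔ D)
    rw [relIndex_sup_left] at a2
    have a3 := e1 (inf_le_right : N ⊓ D ≤ D)
    rw [inf_relIndex_right] at a3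
    have a4 := e1 (inf_le_right : D ⊓ N ≤ N)
    rw [inf_relIndex_right, inf_comm] at a4
    apply Nat.eq_of_mul_eq_mul_left (Nat.card_pos : 0 < Nat.card D)
    rw [a1, ← a2, ← a3, ← a4]
    ring
  show D.relIndex N ∣ D.index
  exact ⟨(N ⊔ D).index, by rw [← h1]; exact (relIndex_mul_index le_sup_right).symm⟩

end Index

open CfsgLib.Comp.FF

theorem psolvable_of_solvable {G : Type u} [Group G] [Finite G] {s : ℕ} [Fact s.Prime]
    (h : Group.IsSolvable G) : Cfsg.IsPSolvable s G := by
  obtain ⟨k, hk⟩ := CfsgLib.PLength.isPSolvable_of_isSolvable (p := s) _ G le_rfl h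
  exact hk.isPSolvable

theorem core_selfcent {G : Type u} [Group G] [Finite G] {s : ℕ} [Fact s.Prime] {V J E : Subgroup G}
    (S : Setup s V J) (hJ : Group.IsSolvable J) (hEJ : E ≤ J) (hn : J ≤ normalizer (E : Set G)) :
    E ⊓ centralizer ((E ⊓ PH s J : Subgroup G) : Set G) ≤ E ⊓ PH s J := by
  have hsepE : Cfsg.IsPSolvable s E := psolvable_of_solvable (CfsgLib.Coprime.isSolvable_of_le hJ hEJ)
  have hO : Cfsg.pCore s E = ⊥ := by
    refine (map_eq_bot_iff_of_injective _ E.subtype_injective).1 ?_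
    have h1 : IsPGroup s ((Cfsg.pCore s E).map E.subtype) := (CfsgLib.Comp.isPGroup_pCore s E).map _
    have h2 : (Cfsg.pCore s E).map E.subtype ≤ Cfsg.pCoreOf s E := le_rfl
    have h3 : Cfsg.pCoreOf s E ≤ J := (core_le s E).trans hEJ
    refine le_bot_iff.1 (h2.trans (le_of_eq (eq_bot_of_centralizes_PH S (core_pgroup s E) h3 ?_)))
    exact le_centralizer_of_disjoint (h3.trans FF.le_normalizer_PH) (PH_le.trans (core_inv hn))
      (isPGroup_inf_PH (core_pgroup s E))
  have hJP : ∀ g ∈ J, g ∈ normalizer (PH s E : Set G) := fun g hg =>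
    map_conj_eq_iff.1 (PH_map (map_conj_eq_iff.2 (hn hg)))
  have hP : PH s E ≤ E ⊓ PH s J :=
    le_inf PH_le (le_opp (PH_le.trans hEJ) hJP (opp_coprime s E))
  intro z hz
  have hzP : z ∈ PH s E := by
    refine ⟨⟨z, hz.1⟩, CfsgLib.BlockB.centralizer_pPrimeCore_le_of_isPSolvable hsepE hO ?_, rfl⟩
    intro y hy
    exact Subtype.ext (mem_centralizer_iff.1 hz.2 _ (hP (mem_map_of_mem E.subtype hy)))
  exact hP hzP

variable {Γ : Type u} [Group Γ] [Finite Γ] {s p : ℕ} [hs : Fact s.Prime] [hp : Fact p.Prime]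

/-- The key lemma for pushing. -/
theorem ff_key (hsp : s ≠ p) (hsol : Group.IsSolvable Γ) {H0 A0 V X : Subgroup Γ} [H0.Normal]
    [V.Normal] (hA0 : Cfsg.IsElementaryAbelian p A0) (hgen : H0 ⊔ A0 = ⊤)
    (hpH : ¬ p ∣ Nat.card H0) (hV : Cfsg.IsElementaryAbelian s V)
    (hcore : ∀ N ≤ H0, H0 ≤ normalizer (N : Set Γ) →
      (∀ x ∈ N, ∃ k : ℕ, x ^ s ^ k ∈ centralizer (V : Set Γ)) → N ≤ centralizer (V : Set Γ))
    (hXH : X ≤ H0) (hXs : IsPGroup s X) (hXA : A0 ≤ normalizer (X : Set Γ))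
    (hXC : H0 ⊓ centralizer (A0 : Set Γ) ≤ normalizer (X : Set Γ))
    (hXL : ∀ l ∈ H0, (∀ g ∈ Cfsg.thompsonSubgroup s Γ, ⁅l, g⁆ ∈ centralizer (V : Set Γ)) →
      l ∈ normalizer (X : Set Γ)) :
    X ≤ centralizer (V : Set Γ) := by
  classical
  have hpp : p.Prime := hp.out
  have hss : s.Prime := hs.out
  set C := centralizer (V : Set Γ) with hC
  have hA0p : IsPGroup p A0 := fun a => ⟨1, Subtype.ext (by simpa using hA0.2 (a : Γ) a.2)⟩
  have hcopAH : (Nat.card A0).Coprime (Nat.card H0) := by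
    obtain ⟨n, hn⟩ := IsPGroup.iff_card.1 hA0p
    rw [hn]
    exact Nat.Coprime.pow_left _ (hpp.coprime_iff_not_dvd.2 hpH)
  have hA0n : A0 ≤ normalizer (H0 : Set Γ) := by rw [normalizer_eq_top_iff.2 inferInstance]; exact le_top
  -- everything of order prime to `p` lies in `H0`
  have hpow : ∀ x : Γ, x ^ p ∈ H0 := by
    intro x
    obtain ⟨h0, hh0, a, ha, rfl⟩ := (CfsgLib.Coprime.mem_sup_of_le_normalizer hA0n).1
      (show x ∈ H0 ⊔ A0 by rw [hgen]; exact mem_top x)
    rw [← QuotientGroup.eq_one_iff, QuotientGroup.mk_pow, QuotientGroup.mk_mul,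
      (QuotientGroup.eq_one_iff h0).2 hh0, one_mul, ← QuotientGroup.mk_pow, QuotientGroup.eq_one_iff,
      hA0.2 a ha]
    exact one_mem _
  have hsmem : ∀ (N : Subgroup Γ) (x : Γ) (k : ℕ), x ^ p ∈ N → x ^ s ^ k ∈ N → x ∈ N := by
    intro N x k h1 h2
    have hcop : Nat.gcd p (s ^ k) = 1 :=
      Nat.Coprime.pow_right k ((Nat.coprime_primes hpp hss).2 (Ne.symm hsp))
    have h3 : x ^ (1 : ℤ) ∈ N := by
      rw [show (1 : ℤ) = ((Nat.gcd p (s ^ k) : ℕ) : ℤ) by rw [hcop]; rfl, Nat.gcd_eq_gcd_ab,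
        zpow_add, zpow_mul, zpow_mul, zpow_natCast, zpow_natCast]
      exact mul_mem (zpow_mem h1 _) (zpow_mem h2 _)
    rwa [zpow_one] at h3
  have hTH : Cfsg.thompsonSubgroup s Γ ≤ H0 := by
    refine sSup_le fun E hE x hx => hsmem H0 x 1 (hpow x) ?_
    rw [pow_one, hE.1.2 x hx]
    exact one_mem _
  have hsep : Cfsg.IsPSolvable s Γ := psolvable_of_solvable hsol
  have hO : Cfsg.pCore s (Γ ⧸ C) = ⊥ := by
    haveI : (Cfsg.pCore s (Γ ⧸ C)).Normal := CfsgLib.Solvable.pCore_normal s (Γ ⧸ C)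
    set N := (Cfsg.pCore s (Γ ⧸ C)).comap (QuotientGroup.mk' C) with hN
    have hNk : ∀ x ∈ N, ∃ k : ℕ, x ^ s ^ k ∈ C := by
      intro x hx
      obtain ⟨k, hk⟩ := (CfsgLib.Comp.isPGroup_pCore s (Γ ⧸ C)) ⟨_, hx⟩
      exact ⟨k, (QuotientGroup.eq_one_iff _).1 (congrArg Subtype.val hk)⟩
    have h1 : N ⊓ H0 ≤ C := hcore _ inf_le_right
      (by rw [normalizer_eq_top_iff.2 inferInstance]; exact le_top) fun x hx => hNk x hx.1
    rw [Subgroup.eq_bot_iff_forall]
    intro y hy
    obtain ⟨x, rfl⟩ := QuotientGroup.mk'_surjective C y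
    obtain ⟨k, hk⟩ := hNk x hy
    exact (QuotientGroup.eq_one_iff x).2 (hsmem C x k (h1 ⟨pow_mem hy p, hpow x⟩) hk)
  have S := setup_amb V hV hsep hO
  have hS3 := JH_eq_iSup (p := s) V hV
  set W := Vb V with hWdef
  set J := JH V s with hJdef
  set Hb := H0.map (rho V) with hHb
  have hJH : J ≤ Hb := map_mono hTH
  haveI hTn : (Cfsg.thompsonSubgroup s Γ).Characteristic := CfsgLib.PLocal.thompson_characteristic
  have hJn : (rho V).range ≤ normalizer (J : Set (Amb V)) := by
    rintro _ ⟨g, rfl⟩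
    exact le_normalizer_map (rho V) (mem_map_of_mem _ (by
      rw [normalizer_eq_top_iff.2 inferInstance]; exact mem_top g))
  have hHn : (rho V).range ≤ normalizer (Hb : Set (Amb V)) := by
    rintro _ ⟨g, rfl⟩
    exact le_normalizer_map (rho V) (mem_map_of_mem _ (by
      rw [normalizer_eq_top_iff.2 inferInstance]; exact mem_top g))
  have hWn : (rho V).range ≤ normalizer (W : Set (Amb V)) := range_le_normalizer V
  set Ab := A0.map (rho V) with hAb
  set Ub := X.map (rho V) with hUb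
  have hUs : IsPGroup s Ub := hXs.map _
  have hUH : Ub ≤ Hb := map_mono hXH
  have hAU : Ab ≤ normalizer (Ub : Set (Amb V)) := (map_mono hXA).trans (le_normalizer_map _)
  have hAr : Ab ≤ (rho V).range := map_le_range _ _
  have hUr : Ub ≤ (rho V).range := map_le_range _ _
  have hHp : ¬ p ∣ Nat.card Hb := fun hd => hpH (hd.trans (card_map_dvd _ _))
  let Φ : A0 →* MulAut (Amb V) := MulAut.conj.comp ((rho V).comp A0.subtype)
  have hΦ : ∀ (a : A0) (z : Amb V), Φ a z = rho V (a : Γ) * z * (rho V (a : Γ))⁻¹ := fun _ _ => rfl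
  have hcW : ∀ y ∈ (rho V).range, W.map (MulAut.conj y).toMonoidHom = W := fun y hy =>
    map_conj_eq_iff.2 (hWn hy)
  have hJsol : Group.IsSolvable J := by
    haveI := hsol
    exact Group.isSolvable_of_surjective ((rho V).subgroupMap_surjective _)
  have hcJ : ∀ y ∈ (rho V).range, J.map (MulAut.conj y).toMonoidHom = J := fun y hy =>
    map_conj_eq_iff.2 (hJn hy)
  have hrA : ∀ a : A0, rho V (a : Γ) ∈ (rho V).range := fun a => ⟨_, rfl⟩
  have hWJ : J ≤ normalizer (W : Set (Amb V)) := S.norm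
  have hAtom : ∀ {At : Subgroup (Amb V)}, Atom s W J At → ∀ y ∈ (rho V).range,
      Atom s W J (At.map (MulAut.conj y).toMonoidHom) :=
    fun h y hy => atom_map S (hcW y hy) (hcJ y hy) h
  -- the structure attached to one atom
  have main : ∀ At : Subgroup (Amb V), Atom s W J At →
      (∀ x ∈ Ub, ∀ g ∈ Ec s J At ⊓ PH s J, x * g * x⁻¹ = g) ∧
        ∀ x ∈ Ub, x ∈ normalizer (Ec s J At : Set (Amb V)) := by
    -- the prime `p` is at least `5`
    have hp5 : ∀ At : Subgroup (Amb V), Atom s W J At → p ≠ 2 ∧ p ≠ 3 := by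
      intro At h
      have d := ecData S h
      obtain ⟨eiso⟩ := d.iso
      have hdvd : s * (s ^ 2 - 1) ∣ Nat.card Hb := by
        rw [← card_sl_two, ← Nat.card_congr eiso.toEquiv]
        exact card_dvd_of_le (d.le.trans hJH)
      have h6 : 6 ∣ Nat.card Hb := by
        rcases prime_of_atom S h with rfl | rfl
        · exact dvd_trans (by norm_num) hdvd
        · exact dvd_trans (by norm_num) hdvd
      exact ⟨fun e => hHp (dvd_trans (by rw [e]; norm_num) h6),
        fun e => hHp (dvd_trans (by rw [e]; norm_num) h6)⟩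
    -- the orbit of the factor of an atom is stable
    have step1 : ∀ At : Subgroup (Amb V), Atom s W J At → ∀ x ∈ Ub, ∃ a ∈ Ab,
        (Ec s J At).map (MulAut.conj x).toMonoidHom = (Ec s J At).map (MulAut.conj a).toMonoidHom ∧
        (x ∈ normalizer (Ec s J At : Set (Amb V)) →
            ∀ g ∈ Ec s J At ⊓ PH s J, x * g * x⁻¹ = g) := by
      intro At h x hx
      set E := Ec s J At with hE
      set Q := E ⊓ PH s J with hQ
      set U := ⁅W, E⁆ with hU
      have d := ecData S h
      have hEimg : ∀ a : A0, E.map (Φ a).toMonoidHom =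
          Ec s J (At.map (MulAut.conj (rho V (a : Γ))).toMonoidHom) :=
        fun a => Ec_map (hcJ _ (hrA a)) At
      have hQimg : ∀ a : A0, OrbitProd.img Φ Q a = OrbitProd.img Φ E a ⊓ PH s J := fun a => by
        show (E ⊓ PH s J).map (Φ a).toMonoidHom = _
        rw [Subgroup.map_inf _ _ _ (Φ a).injective]
        congr 1
        exact PH_map (hcJ _ (hrA a))
      have hUV : U ≤ W := le_normalizer_iff_commutator_le_left.1 (d.le.trans S.norm)
      have hfixE : ∀ a : A0, OrbitProd.img Φ Q a = Q → OrbitProd.img Φ E a = E := by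
        intro a ha
        show E.map (Φ a).toMonoidHom = E
        rw [hEimg]
        refine Ec_eq_of_plane_eq S (hAtom h _ (hrA a)) h ?_
        rw [← (ecData S (hAtom h _ (hrA a))).core, ← d.core, ← hEimg, ← hQimg, ha]
      have hfixU : ∀ a : A0, OrbitProd.img Φ E a = E → ∀ g ∈ E, Φ a g = g := by
        intro a ha g hg
        have hUmap : U.map (Φ a).toMonoidHom = U := by
          show (⁅W, E⁆).map _ = _
          rw [map_commutator]
          exact congrArg₂ _ (hcW _ (hrA a)) ha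
        let r : MulAut U := ((Φ a).subgroupMap U).trans (MulEquiv.subgroupCongr hUmap)
        have hrv : ∀ (n : ℕ) (v : U), (((r ^ n) v : U) : Amb V) = (Φ a ^ n) v := by
          intro n
          induction n with
          | zero => intro v; rfl
          | succ n ih =>
            intro v
            rw [pow_succ', pow_succ']
            show Φ a (((r ^ n) v : U) : Amb V) = Φ a ((Φ a ^ n) v)
            rw [ih]
        have hr : r ^ p = 1 := MulEquiv.ext fun v => Subtype.ext (by
          rw [hrv, ← map_pow, show a ^ p = 1 from Subtype.ext (by simpa using hA0.2 (a : Γ) a.2),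
            map_one]
          rfl)
        have hUfix : ∀ u ∈ U, Φ a u = u := fun u hu => congrArg Subtype.val
          (aut_eq_one_of_small (prime_of_atom S h) d.card (hp5 At h).1 (hp5 At h).2 hr ⟨u, hu⟩)
        have hge : Φ a g ∈ E := ha.le (mem_map_of_mem (Φ a).toMonoidHom hg)
        have h1 : g⁻¹ * Φ a g ∈ E ⊓ centralizer (U : Set (Amb V)) := by
          refine ⟨(mul_mem (inv_mem hg) hge : g⁻¹ * Φ a g ∈ E), fun u hu => ?_⟩
          have hgu : g * u * g⁻¹ ∈ U := (mem_normalizer_iff.1 (d.triv hg).2.1 u).1 hu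
          have h2 := hUfix _ hgu
          rw [map_mul, map_mul, map_inv, hUfix u hu] at h2
          calc u * (g⁻¹ * Φ a g) = g⁻¹ * (g * u * g⁻¹) * Φ a g := by group
            _ = g⁻¹ * (Φ a g * u * (Φ a g)⁻¹) * Φ a g := by rw [h2]
            _ = g⁻¹ * Φ a g * u := by group
        rw [d.faith, mem_bot, inv_mul_eq_one] at h1
        exact h1.symm
      have hcommQ : ∀ a a', OrbitProd.img Φ Q a ≠ OrbitProd.img Φ Q a' →
          ∀ u ∈ OrbitProd.img Φ Q a, ∀ v ∈ OrbitProd.img Φ Q a', Commute u v := by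
        intro a a' hne u hu v hv
        have hne' : Ec s J (At.map (MulAut.conj (rho V (a : Γ))).toMonoidHom) ≠
            Ec s J (At.map (MulAut.conj (rho V (a' : Γ))).toMonoidHom) := fun e => hne (by
          rw [hQimg, hQimg]
          exact congrArg (· ⊓ PH s J) ((hEimg a).trans (e.trans (hEimg a').symm)))
        rw [hQimg] at hu hv
        have hu' := (hEimg a).le hu.1
        have h2 := other_le_Fc S hS3 (hAtom h _ (hrA a)) (hAtom h _ (hrA a')) (fun e => hne' e.symm)
          ((hEimg a').le hv.1)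
        exact commutatorElement_eq_one_iff_mul_comm.1 (mem_bot.1
          ((factorData S hS3 (hAtom h _ (hrA a))).comm.le (commutator_mem_commutator hu' h2)))
      obtain ⟨θ, hθ1, hθ2, hθ3, -⟩ := OrbitProd.exists_orbitHom
        (fun a ha g hg => hfixU a (hfixE a ha) g hg.1) hcommQ
      have hθP : ∀ g : Q, θ g ∈ PH s J := hθ3 _ fun a => (hQimg a).trans_le inf_le_right
      have hrest : ∀ g : Q, (g : Amb V)⁻¹ * θ g ∈ Fc s W J At := fun g => by
        refine (iSup₂_le fun a ha => ?_ :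
          (⨆ (a : A0) (_ : OrbitProd.img Φ Q a ≠ Q), OrbitProd.img Φ Q a) ≤ _) (hθ2 g)
        rw [hQimg]
        refine inf_le_left.trans ((hEimg a).le.trans ?_)
        refine other_le_Fc S hS3 h (hAtom h _ (hrA a)) fun e => ha ?_
        rw [hQimg]
        exact congrArg (· ⊓ PH s J) ((hEimg a).trans e)
      -- the fixed lifts commute with `x`
      have hθx : ∀ g : Q, x * θ g * x⁻¹ = θ g := by
        intro g
        have h1 : θ g ∈ (H0 ⊓ centralizer (A0 : Set Γ)).map (rho V) := by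
          rw [CfsgLib.Coprime.map_inf_centralizer (rho V) hA0n hcopAH
            (Or.inl (CfsgLib.Comp.isSolvable_elemAb hA0))]
          refine ⟨hJH (PH_le (hθP g)), ?_⟩
          rintro _ ⟨a, ha, rfl⟩
          exact mul_inv_eq_iff_eq_mul.1 (hθ1 ⟨a, ha⟩ g)
        obtain ⟨c, hc, hcg⟩ := h1
        have h2 : θ g ∈ normalizer (Ub : Set (Amb V)) := by
          rw [← hcg]; exact le_normalizer_map _ (mem_map_of_mem _ (hXC hc))
        have h3 : x ∈ normalizer (PH s J : Set (Amb V)) :=
          map_conj_eq_iff.1 (PH_map (hcJ _ (hUr hx)))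
        have h4 : ⁅x, θ g⁆ ∈ Ub ⊓ PH s J := by
          refine ⟨?_, ?_⟩
          · have h5 : x * (θ g * x⁻¹ * (θ g)⁻¹) ∈ Ub :=
              Subgroup.mul_mem Ub hx ((mem_normalizer_iff.1 h2 x⁻¹).1 (Subgroup.inv_mem Ub hx))
            rw [commutatorElement_def]
            rwa [← mul_assoc, ← mul_assoc] at h5
          · rw [commutatorElement_def]
            exact Subgroup.mul_mem _ ((mem_normalizer_iff.1 h3 _).1 (hθP g)) (Subgroup.inv_mem _ (hθP g))
        rw [isPGroup_inf_PH hUs, mem_bot, commutatorElement_def, mul_inv_eq_one] at h4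
        exact h4
      set e : MulAut (Amb V) := MulAut.conj x with he
      have heW : W.map e.toMonoidHom = W := hcW _ (hUr hx)
      have heJ : J.map e.toMonoidHom = J := hcJ _ (hUr hx)
      have h' : Atom s W J (At.map e.toMonoidHom) := atom_map S heW heJ h
      by_cases hcase : ∃ a : A0, Ec s J (At.map (MulAut.conj (rho V (a : Γ))).toMonoidHom) =
          Ec s J (At.map e.toMonoidHom)
      · obtain ⟨a, ha⟩ := hcase
        refine ⟨rho V (a : Γ), mem_map_of_mem _ a.2,
          (Ec_map heJ At).trans (ha.symm.trans (hEimg a).symm), fun hxE g hg => ?_⟩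
        -- uniqueness of the decomposition
        set r := g⁻¹ * θ ⟨g, hg⟩ with hr
        have hxr : x * r * x⁻¹ ∈ Fc s W J At := by
          have hnF : x ∈ normalizer (Fc s W J At : Set (Amb V)) := by
            refine FF.le_normalizer_inf (X := zpowers x)
              (zpowers_le.2 (map_conj_eq_iff.1 heJ)) (FF.le_normalizer_centralizer
                (FF.le_normalizer_commutator (zpowers_le.2 (map_conj_eq_iff.1 heW))
                  (zpowers_le.2 hxE))) (mem_zpowers x)
          exact (mem_normalizer_iff.1 hnF r).1 (hrest ⟨g, hg⟩)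
        have h5 : (g⁻¹ * (x * g * x⁻¹)) * (x * r * x⁻¹) = r := by
          calc (g⁻¹ * (x * g * x⁻¹)) * (x * r * x⁻¹) = g⁻¹ * (x * (g * r) * x⁻¹) := by group
            _ = r := by rw [hr, mul_inv_cancel_left, hθx ⟨g, hg⟩]
        have hgE : g⁻¹ * (x * g * x⁻¹) ∈ Ec s J At ⊓ Fc s W J At := by
          refine ⟨Subgroup.mul_mem _ (Subgroup.inv_mem _ hg.1) ((mem_normalizer_iff.1 hxE g).1 hg.1), ?_⟩
          rw [eq_mul_inv_iff_mul_eq.2 h5]
          exact Subgroup.mul_mem _ (hrest ⟨g, hg⟩) (Subgroup.inv_mem _ hxr)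
        rw [Ec_inf_Fc S h, mem_bot, inv_mul_eq_one] at hgE
        exact hgE.symm
      · exfalso
        push Not at hcase
        obtain ⟨g, hg, hg1⟩ : ∃ g ∈ Q, g ≠ 1 := exists_mem_ne_one fun e0 => by
          have := d.big
          rw [show Ec s J At ⊓ PH s J = ⊥ from e0, card_bot] at this
          omega
        have h1 : θ ⟨g, hg⟩ ∈ Fc s W J (At.map e.toMonoidHom) := hθ3 _ (fun a => by
          rw [hQimg]
          exact inf_le_left.trans ((hEimg a).le.trans
            (other_le_Fc S hS3 h' (hAtom h _ (hrA a)) (hcase a)))) _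
        have h2 : θ ⟨g, hg⟩ ∈ Fc s W J At := by
          refine ⟨PH_le (hθP _), fun v hv => ?_⟩
          have hv' : e v ∈ ⁅W, Ec s J (At.map e.toMonoidHom)⁆ := by
            rw [← plane_map heW heJ At]; exact mem_map_of_mem _ hv
          have h6 := mem_centralizer_iff.1 h1.2 _ hv'
          have heθ : e (θ ⟨g, hg⟩) = θ ⟨g, hg⟩ := hθx _
          apply e.injective
          rw [map_mul, map_mul, heθ]
          exact h6
        have h3 : g ∈ Ec s J At ⊓ Fc s W J At := by
          refine ⟨hg.1, ?_⟩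
          have h4 := mul_mem h2 (inv_mem (hrest ⟨g, hg⟩))
          rwa [mul_inv_rev, inv_inv, mul_inv_cancel_left] at h4
        rw [Ec_inf_Fc S h, mem_bot] at h3
        exact hg1 h3
    intro At h
    set E := Ec s J At with hE
    have hnorm : ∀ x ∈ Ub, x ∈ normalizer (E : Set (Amb V)) := by
      set K0 := Ub ⊔ Ab with hK0
      have hAK : Ab ≤ K0 := le_sup_right
      have hfac : ∀ k ∈ K0, ∃ a ∈ Ab, a⁻¹ * k ∈ normalizer (E : Set (Amb V)) := by
        intro k hk
        obtain ⟨x, hx, a, ha, rfl⟩ := (CfsgLib.Coprime.mem_sup_of_le_normalizer hAU).1 hk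
        obtain ⟨a', ha', he', -⟩ := step1 _ (hAtom h a (hAr ha)) x hx
        refine ⟨a' * a, mul_mem ha' ha, map_conj_eq_iff.1 ?_⟩
        rw [← Ec_map (hcJ _ (hAr ha)) At] at he'
        rw [map_conj_mul, map_conj_mul E x a, he', ← map_conj_mul, ← map_conj_mul,
          mul_assoc, inv_mul_cancel, map_conj_one]
      have hidx := relIndex_eq_of_factor hAK hfac
      intro x hx
      have hd : (normalizer (E : Set (Amb V))).relIndex Ub ∣
          (normalizer (E : Set (Amb V))).relIndex Ab :=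
        hidx ▸ relIndex_dvd_of_normalized _ le_sup_left (sup_le le_normalizer hAU)
      obtain ⟨n, hn⟩ := IsPGroup.iff_card.1 hUs
      obtain ⟨m, hm⟩ := IsPGroup.iff_card.1 (hA0p.map (rho V))
      have h1 : (normalizer (E : Set (Amb V))).relIndex Ub = 1 :=
        Nat.eq_one_of_dvd_coprimes (Nat.Coprime.pow n m ((Nat.coprime_primes hss hpp).2 hsp))
          (hn ▸ relIndex_dvd_card _ _) (hm ▸ hd.trans (relIndex_dvd_card _ _))
      exact relIndex_eq_one.1 h1 hx
    refine ⟨fun x hx g hg => ?_, hnorm⟩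
    obtain ⟨a, -, -, hfix⟩ := step1 At h x hx
    exact hfix (hnorm x hx) g hg
  -- `X` centralizes the atoms
  have hcentJ : Ub ≤ centralizer (J : Set (Amb V)) := by
    rw [le_centralizer_iff]
    refine le_of_atoms S hS3 fun At h => ?_
    obtain ⟨hQ, hn⟩ := main At h
    have d := ecData S h
    set E := Ec s J At with hE
    intro g hg
    refine mem_centralizer_iff.2 fun x hx => ?_
    have hgE : g ∈ E := mem_sup_right hg
    have hxg : x * g * x⁻¹ ∈ E := (mem_normalizer_iff.1 (hn x hx) g).1 hgE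
    set z := g⁻¹ * (x * g * x⁻¹) with hz
    have hzE : z ∈ E := mul_mem (inv_mem hgE) hxg
    have hQn : E ≤ normalizer ((E ⊓ PH s J : Subgroup (Amb V)) : Set (Amb V)) :=
      FF.le_normalizer_inf le_normalizer (d.le.trans FF.le_normalizer_PH)
    have hzQ : ∀ q ∈ E ⊓ PH s J, z * q * z⁻¹ = q := by
      intro q hq
      have h1 : x⁻¹ * q * x = q := by
        conv_lhs => rw [← hQ x hx q hq]
        group
      have h2 : x * (g * q * g⁻¹) * x⁻¹ = g * q * g⁻¹ :=
        hQ x hx _ ((mem_normalizer_iff.1 (hQn hgE) q).1 hq)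
      calc z * q * z⁻¹ = g⁻¹ * (x * (g * (x⁻¹ * q * x) * g⁻¹) * x⁻¹) * g := by rw [hz]; group
        _ = g⁻¹ * (g * q * g⁻¹) * g := by rw [h1, h2]
        _ = q := by group
    have hzP : z ∈ E ⊓ PH s J := core_selfcent S hJsol d.le (factorData S hS3 h).norm ⟨hzE, fun q hq => by
      have := hzQ q hq
      exact (mul_inv_eq_iff_eq_mul.1 this).symm⟩
    have hxz : Commute x z := mul_inv_eq_iff_eq_mul.1 (hQ x hx z hzP)
    obtain ⟨k, hk⟩ := hUs ⟨x, hx⟩
    have hxk : x ^ s ^ k = 1 := congrArg Subtype.val hk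
    have hiter : ∀ n : ℕ, x ^ n * g * (x ^ n)⁻¹ = g * z ^ n := by
      intro n
      induction n with
      | zero => simp
      | succ n ih =>
        calc x ^ (n + 1) * g * (x ^ (n + 1))⁻¹ = x * (x ^ n * g * (x ^ n)⁻¹) * x⁻¹ := by
              rw [pow_succ']; group
          _ = x * g * x⁻¹ * (x * z ^ n * x⁻¹) := by rw [ih]; group
          _ = g * z * z ^ n := by
              rw [(hxz.pow_right n).eq, mul_inv_cancel_right, show x * g * x⁻¹ = g * z by rw [hz, mul_inv_cancel_left]]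
          _ = g * z ^ (n + 1) := by rw [pow_succ' z, mul_assoc]
    have hz1 : z ^ s ^ k = 1 := by
      have := hiter (s ^ k)
      rw [hxk, one_mul, inv_one, mul_one] at this
      exact mul_eq_left.1 this.symm
    have hzz : z = 1 := by
      have h1 : zpowers z ⊓ PH s J = ⊥ := isPGroup_inf_PH (fun w => by
        obtain ⟨i, hi⟩ := mem_zpowers_iff.1 w.2
        refine ⟨k, Subtype.ext ?_⟩
        show (w : Amb V) ^ s ^ k = 1
        rw [← hi, ← zpow_natCast (z ^ i), ← zpow_mul, mul_comm, zpow_mul, zpow_natCast, hz1, one_zpow])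
      exact mem_bot.1 (h1 ▸ (⟨mem_zpowers z, hzP.2⟩ : z ∈ zpowers z ⊓ PH s J))
    rw [hz, inv_mul_eq_one] at hzz
    exact mul_inv_eq_iff_eq_mul.1 hzz.symm
  -- so it lies in a normal `s`-subgroup of the quotient
  set L := Hb ⊓ centralizer (J : Set (Amb V)) with hL
  have hUL : Ub ≤ L := le_inf hUH hcentJ
  have hLU : L ≤ normalizer (Ub : Set (Amb V)) := by
    rintro _ ⟨⟨l, hl, rfl⟩, hlc⟩
    refine le_normalizer_map _ (mem_map_of_mem _ (hXL l hl fun g hg => ?_))
    rw [hC, ← rho_ker, MonoidHom.mem_ker, map_commutatorElement]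
    exact commutatorElement_eq_one_iff_mul_comm.2
      (mem_centralizer_iff.1 hlc _ (mem_map_of_mem _ hg)).symm
  have hLn : Hb ≤ normalizer (L : Set (Amb V)) :=
    FF.le_normalizer_inf le_normalizer
      (FF.le_normalizer_centralizer ((map_le_range _ _).trans hJn))
  set N := (Cfsg.pCoreOf s L).comap (rho V) ⊓ H0 with hN
  have hXN : X ≤ N := le_inf (fun x hx => le_core hUL hLU hUs (mem_map_of_mem _ hx)) hXH
  refine hXN.trans (hcore N inf_le_right ?_ fun x hx => ?_)
  · refine FF.le_normalizer_inf (fun g hg => ?_) le_normalizer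
    have h1 := core_inv (s := s) hLn (mem_map_of_mem (rho V) hg)
    rw [mem_normalizer_iff]
    intro y
    simp only [mem_comap, map_mul, map_inv]
    exact mem_normalizer_iff.1 h1 _
  · obtain ⟨k, hk⟩ := core_pgroup s L ⟨_, hx.1⟩
    refine ⟨k, ?_⟩
    rw [hC, ← rho_ker, MonoidHom.mem_ker, map_pow]
    exact congrArg Subtype.val hk

omit hs hp in
/-- Elementary abelian `s`-subgroups of `K` lie in the normal subgroup `H` of `p`-power index. -/
theorem mem_of_pow_eq {G : Type u} [Group G] {H A : Subgroup G} {s p : ℕ} (hs : s.Prime)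
    (hp : p.Prime) (hsp : s ≠ p) (hAH : A ≤ normalizer (H : Set G)) (hA : ∀ a ∈ A, a ^ p = 1) {x : G}
    (hx : x ∈ H ⊔ A) (hxs : x ^ s = 1) : x ∈ H := by
  set K := H ⊔ A
  haveI : (H.subgroupOf K).Normal := normal_subgroupOf_of_le_normalizer (sup_le le_normalizer hAH)
  obtain ⟨h0, hh0, a, ha, rfl⟩ := (CfsgLib.Coprime.mem_sup_of_le_normalizer hAH).1 hx
  set h' : K := ⟨h0, mem_sup_left hh0⟩
  set a' : K := ⟨a, mem_sup_right ha⟩
  have e : (⟨h0 * a, hx⟩ : K) = h' * a' := rfl
  have h1 : (h' * a') ^ p ∈ H.subgroupOf K := by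
    rw [← QuotientGroup.eq_one_iff, QuotientGroup.mk_pow, QuotientGroup.mk_mul,
      (QuotientGroup.eq_one_iff h').2 hh0, one_mul, ← QuotientGroup.mk_pow, QuotientGroup.eq_one_iff,
      show a' ^ p = 1 from Subtype.ext (hA a ha)]
    exact one_mem _
  rw [mem_subgroupOf, coe_pow] at h1
  have hcop : Nat.gcd p s = 1 := (Nat.coprime_primes hp hs).2 (Ne.symm hsp)
  have h3 : (h0 * a) ^ (1 : ℤ) ∈ H := by
    rw [show (1 : ℤ) = ((Nat.gcd p s : ℕ) : ℤ) by rw [hcop]; rfl, Nat.gcd_eq_gcd_ab,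
      zpow_add, zpow_mul, zpow_mul, zpow_natCast, zpow_natCast, hxs, one_zpow, mul_one]
    exact zpow_mem h1 _
  rwa [zpow_one] at h3

/-- `ff_key` for subgroups. -/
theorem key {G : Type u} [Group G] [Finite G] {s p : ℕ} [Fact s.Prime] [Fact p.Prime] (hsp : s ≠ p)
    {H A V X : Subgroup G} (hH : Group.IsSolvable H) (hA : Cfsg.IsElementaryAbelian p A)
    (hAH : A ≤ normalizer (H : Set G)) (hpH : ¬ p ∣ Nat.card H)
    (hV : Cfsg.IsElementaryAbelian s V) (hVH : V ≤ H) (hHV : H ≤ normalizer (V : Set G))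
    (hAV : A ≤ normalizer (V : Set G))
    (hcore : ∀ N ≤ H, H ≤ normalizer (N : Set G) →
      (∀ x ∈ N, ∃ k : ℕ, x ^ s ^ k ∈ centralizer (V : Set G)) → N ≤ centralizer (V : Set G))
    (hXH : X ≤ H) (hXs : IsPGroup s X) (hXA : A ≤ normalizer (X : Set G))
    (hXC : H ⊓ centralizer (A : Set G) ≤ normalizer (X : Set G))
    (hXL : ∀ l ∈ H, (∀ g ∈ Cfsg.thompsonSubgroupOf s H, ⁅l, g⁆ ∈ centralizer (V : Set G)) →
      l ∈ normalizer (X : Set G)) :
    X ≤ centralizer (V : Set G) := by
  set K := H ⊔ A with hK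
  have hHK : H ≤ K := le_sup_left
  have hAK : A ≤ K := le_sup_right
  haveI : (H.subgroupOf K).Normal := normal_subgroupOf_of_le_normalizer (sup_le le_normalizer hAH)
  haveI : (V.subgroupOf K).Normal := normal_subgroupOf_of_le_normalizer (sup_le hHV hAV)
  have hgen : H.subgroupOf K ⊔ A.subgroupOf K = ⊤ := by rw [← subgroupOf_sup hHK hAK, subgroupOf_self]
  have hsol : Group.IsSolvable K := CfsgLib.Comp.isSolvable_sup hAH hH (CfsgLib.Comp.isSolvable_elemAb hA)
  have hcmem : ∀ {W : Subgroup G}, W ≤ K → ∀ y : K,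
      y ∈ centralizer (W.subgroupOf K : Set K) ↔ (y : G) ∈ centralizer (W : Set G) := by
    intro W hW y
    refine ⟨fun hy w hw => ?_, fun hy w hw => Subtype.ext (hy (w : G) hw)⟩
    exact congrArg Subtype.val (hy ⟨w, hW hw⟩ hw)
  have hnmem : ∀ {W : Subgroup G}, W ≤ K → ∀ y : K,
      (y : G) ∈ normalizer (W : Set G) → y ∈ normalizer (W.subgroupOf K : Set K) := fun hW y hy => by
    rw [← subgroupOf_normalizer_eq hW]; exact hy
  have hTh : (Cfsg.thompsonSubgroup s ↥K).map K.subtype = Cfsg.thompsonSubgroupOf s H := by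
    show Cfsg.thompsonSubgroupOf s K = _
    refine (CfsgLib.PLocal.thompsonOf_eq_of_le ?_ hHK).symm
    rw [CfsgLib.PLocal.thompsonOf_eq]
    exact sSup_le fun E hE x hx => mem_of_pow_eq (Fact.out : s.Prime) (Fact.out : p.Prime) hsp hAH hA.2
      (hE.1 hx) (hE.2.1.2 x hx)
  have hres := ff_key (V := V.subgroupOf K) (X := X.subgroupOf K) hsp hsol
    (CfsgLib.PLocal.elemAb_comap_of_injective K.subtype_injective hA) hgen
    (by rwa [CfsgLib.Coprime.card_subgroupOf hHK])
    (CfsgLib.PLocal.elemAb_comap_of_injective K.subtype_injective hV)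
    (fun N hN hNn hNk y hy => ?_) (comap_mono hXH) (hXs.comap_of_injective K.subtype K.subtype_injective)
    (fun y hy => hnmem (hXH.trans hHK) y (hXA hy))
    (fun y hy => hnmem (hXH.trans hHK) y (hXC ⟨hy.1, (hcmem hAK y).1 hy.2⟩))
    (fun l hl hlg => hnmem (hXH.trans hHK) l (hXL _ hl fun g hg => ?_))
  · exact fun x hx => (hcmem (hVH.trans hHK) ⟨x, hHK (hXH hx)⟩).1 (hres hx)
  · refine (hcmem (hVH.trans hHK) y).2 (hcore (N.map K.subtype) ?_ ?_ ?_ (mem_map_of_mem _ hy))
    · rintro _ ⟨z, hz, rfl⟩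
      exact hN hz
    · intro g hg
      exact le_normalizer_map K.subtype (mem_map_of_mem _ (hNn (show (⟨g, hHK hg⟩ : K) ∈ H.subgroupOf K from hg)))
    · rintro _ ⟨z, hz, rfl⟩
      obtain ⟨k, hk⟩ := hNk z hz
      exact ⟨k, (hcmem (hVH.trans hHK) _).1 hk⟩
  · rw [← hTh] at hg
    obtain ⟨g', hg', rfl⟩ := hg
    exact (hcmem (hVH.trans hHK) _).1 (hlg g' hg')

end CfsgLib.Comp.SFT
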