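import Cfsg.Agent.Lib.Comp.SFT.Quot
import Cfsg.Agent.Lib.Comp.SolvableClosure

/-!
Commutators with a fixed-point element are generated inside the centralizers of hyperplanes.
-/

set_option autoImplicit false
set_option linter.style.haveILetI false
set_option linter.unusedSectionVars false

universe u

namespace CfsgLib.Comp.SFT

open Subgroup
open scoped commutatorElement

/-- A nontrivial solvable subgroup has a nontrivial abelian subgroup normalized by all that normalizes it. -/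
theorem exists_abelian_invariant {G : Type u} [Group G] [Finite G] {X : Subgroup G}
    (hX : Group.IsSolvable X) (hne : X ≠ ⊥) :
    ∃ V : Subgroup G, V ≤ X ∧ V ≠ ⊥ ∧ IsMulCommutative V ∧
      normalizer (X : Set G) ≤ normalizer (V : Set G) := by
  induction hm : Nat.card X using Nat.strong_induction_on generalizing X with
  | _ m ih =>
  subst hm
  by_cases hab : ⁅X, X⁆ = ⊥
  · refine ⟨X, le_rfl, hne, ⟨⟨fun a b => Subtype.ext ?_⟩⟩, le_rfl⟩
    exact (mem_centralizer_iff.1 (commutator_eq_bot_iff_le_centralizer.1 hab b.2) (a : G) a.2)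
  have hlt : ⁅X, X⁆ < X := lt_of_le_of_ne (commutator_le_self X) fun e =>
    hne (eq_bot_of_perfect_of_isSolvable' e hX)
  have hcard : Nat.card ↥⁅X, X⁆ < Nat.card X := lt_of_le_of_ne (card_le_of_le hlt.le) fun e =>
    hlt.ne (eq_of_le_of_card_ge hlt.le e.ge)
  obtain ⟨V, hV, h1, h2, h3⟩ :=
    ih _ hcard (CfsgLib.Coprime.isSolvable_of_le hX hlt.le) hab rfl
  refine ⟨V, hV.trans hlt.le, h1, h2, le_trans (fun g hg => ?_) h3⟩
  rw [← map_conj_eq_iff, Subgroup.map_commutator, map_conj_eq_iff.2 hg]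

theorem centralizer_le_normalizer_fix {G : Type u} [Group G] {X B : Subgroup G} {z : G}
    (hzX : z ∈ normalizer (X : Set G)) (hzB : z ∈ centralizer (B : Set G)) :
    z ∈ normalizer ((X ⊓ centralizer (B : Set G) : Subgroup G) : Set G) := by
  have h := le_normalizer_inf (M := zpowers z) (zpowers_le.2 hzX)
    (zpowers_le.2 (le_normalizer hzB) : zpowers z ≤ normalizer ((centralizer (B : Set G) : Subgroup G) : Set G))
  exact h (mem_zpowers z)

/-- The pieces `⁅C_X(B), z⁆`, `B` a hyperplane, generate `⁅X, z⁆`. -/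
theorem commutator_le_pieces {p : ℕ} [hp : Fact p.Prime] : ∀ (n : ℕ) {G : Type u} [Group G] [Finite G]
    {A X : Subgroup G} (z : G), Nat.card X = n → Cfsg.IsElementaryAbelian p A → A ≠ ⊥ →
    Group.IsSolvable X → ¬ p ∣ Nat.card X → A ≤ normalizer (X : Set G) →
    z ∈ normalizer (X : Set G) → z ∈ centralizer (A : Set G) → (orderOf z).Coprime (Nat.card X) →
    ⁅X, zpowers z⁆ ≤ ⨆ B : {B : Subgroup G // B ≤ A ∧ B.relIndex A = p},
      ⁅X ⊓ centralizer ((B : Subgroup G) : Set G), zpowers z⁆ := by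
  intro n
  induction n using Nat.strong_induction_on with
  | _ n ih =>
  intro G _ _ A X z hn hA hAne hX hXp hAX hzX hzA hcop
  subst hn
  by_cases hXb : X = ⊥
  · rw [hXb, commutator_bot_left]; exact bot_le
  obtain ⟨V, hVX, hVne, hVab, hVN⟩ := exists_abelian_invariant hX hXb
  set Z := zpowers z with hZ
  set R : Subgroup G := ⨆ B : {B : Subgroup G // B ≤ A ∧ B.relIndex A = p},
      ⁅X ⊓ centralizer ((B : Subgroup G) : Set G), Z⁆ with hR
  have hXN : X ≤ normalizer (V : Set G) := le_normalizer.trans hVN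
  have hAN : A ≤ normalizer (V : Set G) := hAX.trans hVN
  have hZX : Z ≤ normalizer (X : Set G) := zpowers_le.2 hzX
  have hZN : Z ≤ normalizer (V : Set G) := hZX.trans hVN
  have hRX : R ≤ X := iSup_le fun B =>
    (commutator_mono inf_le_left le_rfl).trans (commutator_le_of_le_normalizer hZX)
  have hZR : Z ≤ normalizer (R : Set G) :=
    le_normalizer_iSup _ fun B => normalizer_commutator_ge_right _ Z
  have hcopZ : ∀ {U : Subgroup G}, U ≤ X → (Nat.card Z).Coprime (Nat.card U) := fun hU => by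
    rw [hZ, Nat.card_zpowers]; exact hcop.coprime_dvd_right (card_dvd_of_le hU)
  have hcopA : (Nat.card A).Coprime (Nat.card V) :=
    coprime_card_elemAb hA fun h => hXp (h.trans (card_dvd_of_le hVX))
  have hAV : A ⊓ V = ⊥ := CfsgLib.Coprime.inf_eq_bot_of_coprime hcopA
  -- the pieces inside `V`
  have hVR : ∀ v ∈ V, ⁅v, z⁆ ∈ R := by
    let S : Subgroup G :=
      { carrier := {v | v ∈ V ∧ ⁅v, z⁆ ∈ R}
        one_mem' := ⟨one_mem _, by rw [commutatorElement_one_left]; exact one_mem _⟩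
        mul_mem' := by
          rintro a b ⟨ha, ha'⟩ ⟨hb, hb'⟩
          refine ⟨mul_mem ha hb, ?_⟩
          have h1 : ⁅b, z⁆ ∈ V :=
            commutator_le_of_le_normalizer hZN (commutator_mem_commutator hb (mem_zpowers z))
          have h2 : a * ⁅b, z⁆ = ⁅b, z⁆ * a :=
            congrArg Subtype.val (mul_comm' (⟨a, ha⟩ : V) ⟨_, h1⟩)
          have e : ⁅a * b, z⁆ = a * ⁅b, z⁆ * a⁻¹ * ⁅a, z⁆ := by
            simp only [commutatorElement_def]; group
          rw [e, h2, mul_inv_cancel_right]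
          exact mul_mem hb' ha'
        inv_mem' := by
          rintro a ⟨ha, ha'⟩
          refine ⟨inv_mem ha, ?_⟩
          have h1 : ⁅a, z⁆⁻¹ ∈ V :=
            inv_mem (commutator_le_of_le_normalizer hZN (commutator_mem_commutator ha (mem_zpowers z)))
          have h2 : a⁻¹ * ⁅a, z⁆⁻¹ = ⁅a, z⁆⁻¹ * a⁻¹ :=
            congrArg Subtype.val (mul_comm' (⟨a⁻¹, inv_mem ha⟩ : V) ⟨_, h1⟩)
          have e : ⁅a⁻¹, z⁆ = a⁻¹ * ⁅a, z⁆⁻¹ * a := by
            simp only [commutatorElement_def]; group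
          rw [e, h2, inv_mul_cancel_right]
          exact inv_mem ha' }
    have hVS : V ≤ S := by
      rw [eq_iSup_centralizer_hyperplane hA hAne (fun h => hXp (h.trans (card_dvd_of_le hVX))) hAN]
      exact iSup_le fun B v hv => ⟨hv.1, le_iSup (fun B : {B : Subgroup G // B ≤ A ∧ B.relIndex A = p} =>
        ⁅X ⊓ centralizer ((B : Subgroup G) : Set G), Z⁆) B
          (commutator_mem_commutator ⟨hVX hv.1, hv.2⟩ (mem_zpowers z))⟩
    exact fun v hv => (hVS hv).2
  -- the quotient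
  set Ab := qm V A
  set zb := qx V z (hZN (mem_zpowers z))
  have hzb : zpowers zb = qm V Z := by
    refine le_antisymm (zpowers_le.2 (qx_mem _ (mem_zpowers z))) ?_
    rintro _ ⟨⟨w, hw⟩, hwZ, rfl⟩
    obtain ⟨k, rfl⟩ := (mem_zpowers_iff).1 (mem_subgroupOf.1 hwZ)
    exact ⟨k, (map_zpow (QuotientGroup.mk' (V.subgroupOf (normalizer (V : Set G))))
      (⟨z, hZN (mem_zpowers z)⟩ : ↥(normalizer (V : Set G))) k).symm.trans
      (congrArg _ (Subtype.ext (by simp)))⟩
  have hcardAle : ∀ B : Subgroup G, B ≤ A → Nat.card (qm V B) = Nat.card B := by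
    intro B hB
    have hBV : B ⊓ V = ⊥ := le_bot_iff.1 ((inf_le_inf_right V hB).trans hAV.le)
    rw [qm, ← CfsgLib.Coprime.card_subgroupOf (hB.trans hAN)]
    set N := normalizer (V : Set G)
    let f := (QuotientGroup.mk' (V.subgroupOf N)).comp (B.subgroupOf N).subtype
    have hinj : Function.Injective f := by
      rw [injective_iff_map_eq_one]
      rintro ⟨⟨x, hx⟩, hxB⟩ h
      have h3 : (⟨x, hx⟩ : N) ∈ V.subgroupOf N := (QuotientGroup.eq_one_iff _).1 h
      have h2 : x ∈ B ⊓ V := ⟨hxB, h3⟩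
      rw [hBV, mem_bot] at h2
      exact Subtype.ext (Subtype.ext h2)
    have hr : f.range = (B.subgroupOf N).map (QuotientGroup.mk' (V.subgroupOf N)) := by
      rw [MonoidHom.range_comp, range_subtype]
    rw [← hr]
    exact (Nat.card_congr (MonoidHom.ofInjective hinj).toEquiv).symm
  have hXb' : ⁅qm V X, zpowers zb⁆ ≤ qm V R := by
    refine (ih _ ?_ zb rfl ⟨⟨⟨?_⟩⟩, ?_⟩ ?_ (isSolvable_qm hXN hX)
      (fun h => hXp (h.trans (card_qm_dvd X))) (qm_le_normalizer hXN hAN hAX) ?_ ?_ ?_).trans ?_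
    · rw [← card_qm hVX hXN]
      exact lt_mul_of_one_lt_right Nat.card_pos (one_lt_card_iff_ne_bot V |>.2 hVne)
    · rintro ⟨_, x, hx, rfl⟩ ⟨_, y, hy, rfl⟩
      refine Subtype.ext ?_
      show QuotientGroup.mk' _ x * QuotientGroup.mk' _ y = QuotientGroup.mk' _ y * QuotientGroup.mk' _ x
      rw [← map_mul, ← map_mul]
      exact congrArg _ (Subtype.ext (congrArg (fun w : ↥A => (w : G))
        (hA.1.is_comm.comm ⟨(x : G), hx⟩ ⟨(y : G), hy⟩)))
    · rintro _ ⟨x, hx, rfl⟩
      rw [← map_pow, show x ^ p = 1 from Subtype.ext (by simpa using hA.2 _ hx), map_one]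
    · intro h
      rw [← card_eq_one, hcardAle A le_rfl, card_eq_one] at h
      exact hAne h
    · exact qm_le_normalizer hXN hZN hZX (qx_mem _ (mem_zpowers z))
    · rintro _ ⟨⟨a, ha'⟩, ha, rfl⟩
      show QuotientGroup.mk' _ _ * QuotientGroup.mk' _ _ = QuotientGroup.mk' _ _ * QuotientGroup.mk' _ _
      rw [← map_mul, ← map_mul]
      exact congrArg _ (Subtype.ext (mem_centralizer_iff.1 hzA a ha))
    · exact (hcop.coprime_dvd_right (card_qm_dvd X)).coprime_dvd_left (orderOf_map_dvd _ _ |>.trans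
        (by rw [Subgroup.orderOf_mk]))
    · refine iSup_le fun B' => ?_
      obtain ⟨H, hVH, hHN, hH⟩ := exists_qm_eq (B' : Subgroup (QN V))
      have hB : qm V (A ⊓ H) = B' := by
        refine le_antisymm ((qm_mono inf_le_right).trans hH.le) fun y hy => ?_
        obtain ⟨⟨a, ha⟩, haA, rfl⟩ := B'.2.1 hy
        refine qx_mem ha ⟨haA, ?_⟩
        have h1 : qm V (zpowers a) ≤ qm V H := by
          rw [hH]
          rintro _ ⟨⟨w, hw⟩, hwZ, rfl⟩
          obtain ⟨k, rfl⟩ := (mem_zpowers_iff).1 (mem_subgroupOf.1 hwZ)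
          have e : QuotientGroup.mk' (V.subgroupOf (normalizer (V : Set G))) ⟨a ^ k, hw⟩ =
              (QuotientGroup.mk' (V.subgroupOf (normalizer (V : Set G))) ⟨a, ha⟩) ^ k :=
            (congrArg _ (Subtype.ext (by simp))).trans (map_zpow _ _ k)
          rw [e]
          exact zpow_mem hy k
        exact (qm_le_iff (zpowers_le.2 ha) hVH).1 h1 (mem_zpowers a)
      have hBi : (A ⊓ H).relIndex A = p := by
        have h1 := relIndex_mul_relIndex ⊥ (A ⊓ H) A bot_le inf_le_left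
        have h2 := relIndex_mul_relIndex ⊥ (B' : Subgroup (QN V)) Ab bot_le B'.2.1
        rw [relIndex_bot_left, relIndex_bot_left] at h1 h2
        rw [B'.2.2, hcardAle A le_rfl, ← hB, hcardAle _ inf_le_left, ← h1] at h2
        exact (Nat.eq_of_mul_eq_mul_left Nat.card_pos h2).symm
      rw [← hB, ← qm_fix hXN (inf_le_left.trans hAN) (inf_le_left.trans hAX)
        ((coprime_card_elemAb hA hXp).coprime_dvd_left (card_dvd_of_le inf_le_left))
        (isSolvable_elemAb (elemAb_mono hA inf_le_left)), hzb,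
        ← qm_commutator (inf_le_left.trans hXN) hZN]
      exact qm_mono (le_iSup (fun B : {B : Subgroup G // B ≤ A ∧ B.relIndex A = p} =>
        ⁅X ⊓ centralizer ((B : Subgroup G) : Set G), Z⁆) ⟨A ⊓ H, inf_le_left, hBi⟩)
  rw [hzb, ← qm_commutator hXN hZN] at hXb'
  have hYN : ⁅X, Z⁆ ≤ normalizer (V : Set G) := (commutator_le_of_le_normalizer hZX).trans hXN
  have h1 : ⁅X, Z⁆ ≤ V ⊔ R :=
    (qm_le_iff hYN le_sup_left).1 (hXb'.trans (qm_mono le_sup_right))
  rw [← CfsgLib.Coprime.commutator_commutator_eq hZX (hcopZ le_rfl)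
    (Or.inr hX)]
  refine (commutator_mono h1 le_rfl).trans (commutator_le.2 fun y hy w hw => ?_)
  obtain ⟨v, hv, r, hr, rfl⟩ := exists_mul_of_mem_sup (hRX.trans hXN) hy
  have hS : ∀ x : G, ⁅x, z⁆ ∈ R → ∀ w ∈ Z, ⁅x, w⁆ ∈ R := by
    intro x hx w hw
    let T : Subgroup G :=
      { carrier := {w | w ∈ normalizer (R : Set G) ∧ ⁅x, w⁆ ∈ R}
        one_mem' := ⟨one_mem _, by rw [commutatorElement_one_right]; exact one_mem _⟩
        mul_mem' := by
          rintro a b ⟨ha, ha'⟩ ⟨hb, hb'⟩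
          refine ⟨mul_mem ha hb, ?_⟩
          have e : ⁅x, a * b⁆ = ⁅x, a⁆ * (a * ⁅x, b⁆ * a⁻¹) := by
            simp only [commutatorElement_def]; group
          rw [e]
          exact mul_mem ha' ((mem_normalizer_iff.1 ha _).1 hb')
        inv_mem' := by
          rintro a ⟨ha, ha'⟩
          refine ⟨inv_mem ha, ?_⟩
          have e : ⁅x, a⁻¹⁆ = a⁻¹ * ⁅x, a⁆⁻¹ * a⁻¹⁻¹ := by simp only [commutatorElement_def]; group
          rw [e]
          exact (mem_normalizer_iff.1 (inv_mem ha) _).1 (inv_mem ha') }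
    have hle : Z ≤ T := zpowers_le.2 ⟨hZR (mem_zpowers z), hx⟩
    exact (hle hw).2
  refine hS _ ?_ w hw
  have hrv : r⁻¹ * v * r ∈ V := (mem_normalizer_iff''.1 (hXN (hRX hr)) v).1 hv
  have e : ⁅v * r, z⁆ = r * ⁅r⁻¹ * v * r, z⁆ * r⁻¹ * ⁅r, z⁆ := by
    simp only [commutatorElement_def]; group
  rw [e]
  refine mul_mem (mul_mem (mul_mem hr (hVR _ hrv)) (inv_mem hr)) ?_
  have h2 := (mem_normalizer_iff.1 (hZR (mem_zpowers z)) r⁻¹).1 (inv_mem hr)
  rw [commutatorElement_def, show r * z * r⁻¹ * z⁻¹ = r * (z * r⁻¹ * z⁻¹) by group]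
  exact mul_mem hr h2

end CfsgLib.Comp.SFT
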