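import Cfsg.Agent.Lib.Comp.SFT.Quot
import Cfsg.Agent.Lib.Comp.SFT.Gen

/-!
Sums over orbits: an element `e` of order `p` acting fixed-point-freely on a group that centralizes
the fixed points of `e` on a coprime group.
-/

set_option autoImplicit false
set_option linter.style.haveILetI false
set_option linter.unusedSectionVars false

universe u

namespace CfsgLib.Comp.SFT

open Subgroup
open scoped commutatorElement

section Endo

variable {H : Type*} [Group H] [Finite H] {W : Type*} [AddCommGroup W] [Finite W]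
  (ρ : H →* AddMonoid.End W)

theorem end_mul_apply (f g : AddMonoid.End W) (w : W) : (f * g) w = f (g w) := rfl

theorem rho_one (w : W) : ρ 1 w = w := by rw [map_one]; rfl

theorem rho_mul (g h : H) (w : W) : ρ (g * h) w = ρ g (ρ h w) := by rw [map_mul]; rfl

theorem eq_of_coprime_nsmul {n : ℕ} (hn : n.Coprime (Nat.card W)) {v w : W} (h : n • v = n • w) :
    v = w := by
  have h1 : addOrderOf (v - w) ∣ n := by
    rw [addOrderOf_dvd_iff_nsmul_eq_zero, nsmul_sub, h, sub_self]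
  exact sub_eq_zero.1 (AddMonoid.addOrderOf_eq_one_iff.1
    (Nat.eq_one_of_dvd_coprimes hn h1 (addOrderOf_dvd_natCard _)))

/-- An element fixing all `n • w` fixes every `w`. -/
theorem eq_one_of_fix_smul {n : ℕ} (hn : n.Coprime (Nat.card W)) {f : AddMonoid.End W}
    (h : f * (n : AddMonoid.End W) = (n : AddMonoid.End W)) : f = 1 := by
  refine AddMonoidHom.ext fun w => eq_of_coprime_nsmul hn ?_
  have h1 := DFunLike.congr_fun h w
  rw [end_mul_apply, AddMonoid.End.natCast_apply, map_nsmul] at h1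
  exact h1

/-- The sum of the powers `e ^ i`, `i < p`. -/
def psum (e : H) (p : ℕ) : AddMonoid.End W := ∑ i ∈ Finset.range p, ρ (e ^ i)

theorem psum_eq {p : ℕ} (hp : 0 < p) (e : H) :
    psum ρ e p = 1 + ∑ i ∈ Finset.Ico 1 p, ρ (e ^ i) := by
  rw [psum, Finset.range_eq_Ico, Finset.sum_eq_sum_Ico_succ_bot hp, pow_zero, map_one]

theorem psum_fix {p : ℕ} {e : H} (he : e ^ p = 1) : ρ e * psum ρ e p = psum ρ e p := by
  have h1 := Finset.sum_range_succ' (fun i => ρ (e ^ i)) p
  rw [Finset.sum_range_succ, he, pow_zero] at h1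
  rw [psum, Finset.mul_sum]
  conv_lhs => arg 2; ext i; rw [← map_mul, ← pow_succ']
  exact (add_right_cancel h1).symm

/-- What fixes the fixed points of `e` fixes `psum`. -/
theorem mul_psum {p : ℕ} {e : H} (he : e ^ p = 1) {f : AddMonoid.End W}
    (hf : ∀ w, ρ e w = w → f w = w) : f * psum ρ e p = psum ρ e p :=
  AddMonoidHom.ext fun w => hf (psum ρ e p w) (DFunLike.congr_fun (psum_fix ρ he) w)

/-- The twisted conjugation `x ↦ x c x⁻¹ c⁻¹` of `F`. -/
def twist (F : Subgroup H) (c : H) (hc : c ∈ normalizer (F : Set H)) (x : F) : F :=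
  ⟨(x : H) * (c * (x : H)⁻¹ * c⁻¹), mul_mem x.2 ((mem_normalizer_iff.1 hc _).1 (inv_mem x.2))⟩

variable {F : Subgroup H} [Fintype F]

theorem sum_conj (c : H) (hc : c ∈ normalizer (F : Set H)) :
    ∑ x : F, ρ (x : H) * ρ c * ρ (x : H)⁻¹ = (∑ x : F, ρ ((twist F c hc x : F) : H)) * ρ c := by
  rw [Finset.sum_mul]
  refine Finset.sum_congr rfl fun x _ => ?_
  rw [← map_mul, ← map_mul, ← map_mul]
  congr 1
  show (x : H) * c * (x : H)⁻¹ = (x : H) * (c * (x : H)⁻¹ * c⁻¹) * c
  group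

theorem twist_bijective {c : H} (hc : c ∈ normalizer (F : Set H))
    (hfix : ∀ x ∈ F, Commute x c → x = 1) : Function.Bijective (twist F c hc) := by
  refine Finite.injective_iff_bijective.1 fun a b h => ?_
  have h1 : (a : H) * (c * (a : H)⁻¹ * c⁻¹) = (b : H) * (c * (b : H)⁻¹ * c⁻¹) :=
    congrArg Subtype.val h
  have h2 : (a : H) * c * (a : H)⁻¹ = (b : H) * c * (b : H)⁻¹ :=
    mul_right_cancel (b := c⁻¹) (by simpa only [mul_assoc] using h1)
  have h3 : Commute ((b : H)⁻¹ * a) c := by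
    show (b : H)⁻¹ * a * c = c * ((b : H)⁻¹ * a)
    calc (b : H)⁻¹ * a * c = (b : H)⁻¹ * ((a : H) * c * (a : H)⁻¹) * a := by group
      _ = (b : H)⁻¹ * ((b : H) * c * (b : H)⁻¹) * a := by rw [h2]
      _ = c * ((b : H)⁻¹ * a) := by group
  exact Subtype.ext (inv_mul_eq_one.1 (hfix _ (mul_mem (inv_mem b.2) a.2) h3)).symm

theorem rho_mul_sum (y : F) : ρ (y : H) * (∑ x : F, ρ (x : H)) = ∑ x : F, ρ (x : H) := by
  rw [Finset.mul_sum]
  conv_lhs => arg 2; ext x; rw [← map_mul]
  exact Function.Bijective.sum_comp (Group.mulLeft_bijective y) fun x : F => ρ (x : H)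

theorem pow_commute_imp {p : ℕ} (hp : p.Prime) {e x : H} (he : e ^ p = 1) {i : ℕ} (hi : 0 < i)
    (hip : i < p) (h : Commute x (e ^ i)) : Commute x e := by
  obtain ⟨m, hm⟩ := exists_pow_eq_self_of_coprime (n := i) (x := e)
    (((hp.coprime_iff_not_dvd.2 fun hd => absurd (Nat.le_of_dvd hi hd) (not_le.2 hip)).coprime_dvd_left
      (orderOf_dvd_of_pow_eq_one he)).symm)
  rw [← hm]
  exact h.pow_right m

theorem card_coprime {n : ℕ} (h : (Nat.card F).Coprime n) : (Fintype.card F).Coprime n :=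
  (Nat.card_eq_fintype_card (α := F)) ▸ h

omit [Fintype F] in
/-- A group with a fixed-point-free `e` and centralizing the fixed points of `e` acts trivially. -/
theorem trivial_of_fpf {p : ℕ} (hp : p.Prime) {e : H} (he : e ^ p = 1)
    (heF : e ∈ normalizer (F : Set H)) (hfpf : ∀ x ∈ F, Commute x e → x = 1)
    (hcop : (Nat.card F).Coprime (Nat.card W))
    (hfix : ∀ w, ρ e w = w → ∀ x ∈ F, ρ x w = w) : ∀ x ∈ F, ρ x = 1 := by
  classical
  haveI := Fintype.ofFinite F
  intro y hy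
  refine eq_one_of_fix_smul (card_coprime hcop) ?_
  have hP : ∀ x ∈ F, ρ x * psum ρ e p = psum ρ e p := fun x hx =>
    mul_psum ρ he fun w hw => hfix w hw x hx
  have hcj : ∀ i ∈ Finset.Ico 1 p, ∑ x : F, ρ (x : H) * ρ (e ^ i) * ρ (x : H)⁻¹ =
      (∑ x : F, ρ (x : H)) * ρ (e ^ i) := fun i hi => by
    rw [sum_conj ρ _ (pow_mem heF i)]
    congr 1
    exact Function.Bijective.sum_comp (twist_bijective (pow_mem heF i) fun x hx hxc =>
      hfpf x hx (pow_commute_imp hp he (Finset.mem_Ico.1 hi).1 (Finset.mem_Ico.1 hi).2 hxc))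
      fun x : F => ρ (x : H)
  have key : (Fintype.card F : AddMonoid.End W) =
      psum ρ e p * (∑ x : F, ρ (x : H)⁻¹) -
        (∑ x : F, ρ (x : H)) * ∑ i ∈ Finset.Ico 1 p, ρ (e ^ i) := by
    rw [eq_sub_iff_add_eq, Finset.mul_sum (Finset.Ico 1 p), ← Finset.sum_congr rfl hcj,
      Finset.sum_comm, show (Fintype.card F : AddMonoid.End W) = ∑ _x : F, (1 : AddMonoid.End W) by
        rw [Finset.sum_const, Finset.card_univ, nsmul_one], ← Finset.sum_add_distrib, Finset.mul_sum]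
    refine Finset.sum_congr rfl fun x _ => ?_
    rw [← Finset.sum_mul, ← Finset.mul_sum]
    conv_rhs => rw [← hP x x.2, psum_eq ρ hp.pos, mul_add, add_mul, mul_one, ← map_mul,
      mul_inv_cancel, map_one]
  rw [key, mul_sub, ← mul_assoc, hP y hy, ← mul_assoc, rho_mul_sum ρ ⟨y, hy⟩]

/-- The elements acting as the identity on the image of every `T`. -/
def stab {ι : Type*} (T : ι → AddMonoid.End W) : Subgroup H where
  carrier := {g | ∀ i, ρ g * T i = T i}
  one_mem' i := by rw [map_one, one_mul]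
  mul_mem' ha hb i := by rw [map_mul, mul_assoc, hb i, ha i]
  inv_mem' {a} ha i := by
    conv_lhs => rw [← ha i, ← mul_assoc, ← map_mul, inv_mul_cancel, map_one, one_mul]

omit [Fintype F] in
/-- `⁅X, z⁆` acts trivially, when `z` commutes with `e`, `e` is fixed-point-free on `X`, and `X`
fixes what `z` moves the fixed points of `e` by. -/
theorem fix_good_end {p : ℕ} (hp : p.Prime) {e z : H} (he : e ^ p = 1) (hze : Commute z e)
    (hzp : (orderOf z).Coprime p) {X : Subgroup H} (hX : Group.IsSolvable X)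
    (heX : e ∈ normalizer (X : Set H)) (hzX : z ∈ normalizer (X : Set H))
    (hfpf : ∀ x ∈ X, Commute x e → x = 1)
    (hzc : (orderOf z).Coprime (Nat.card X)) (hcop : (Nat.card X).Coprime (Nat.card W))
    (hfix : ∀ w, ρ e w = w → ∀ x ∈ X, ρ x (ρ z w - w) = ρ z w - w) :
    ∀ x ∈ ⁅X, zpowers z⁆, ρ x = 1 := by
  classical
  induction hm : Nat.card X using Nat.strong_induction_on generalizing X with
  | _ m ih =>
  subst hm
  have hle : ⁅X, zpowers z⁆ ≤ X := commutator_le_of_le_normalizer (zpowers_le.2 hzX)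
  have hcz : (Nat.card (zpowers z)).Coprime (Nat.card X) := by rw [Nat.card_zpowers]; exact hzc
  have hsub : ∀ Y < X, e ∈ normalizer (Y : Set H) → z ∈ normalizer (Y : Set H) →
      ∀ y ∈ ⁅Y, zpowers z⁆, ρ y = 1 := fun Y hY heY hzY =>
    ih _ (lt_of_le_of_ne (card_le_of_le hY.le) fun e => hY.ne (eq_of_le_of_card_ge hY.le e.ge))
      (CfsgLib.Coprime.isSolvable_of_le hX hY.le) heY hzY (fun x hx => hfpf x (hY.le hx))
      (hzc.coprime_dvd_right (card_dvd_of_le hY.le))
      (hcop.coprime_dvd_left (card_dvd_of_le hY.le))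
      (fun w hw x hx => hfix w hw x (hY.le hx)) rfl
  have hnorm : ∀ g ∈ normalizer (X : Set H), Commute z g →
      g ∈ normalizer ((⁅X, zpowers z⁆ : Subgroup H) : Set H) := fun g hg hc => by
    rw [← map_conj_eq_iff, Subgroup.map_commutator, map_conj_eq_iff.2 hg, MonoidHom.map_zpowers]
    congr 2
    show g * z * g⁻¹ = z
    rw [← hc.eq, mul_inv_cancel_right]
  by_cases hlt : ⁅X, zpowers z⁆ < X
  · intro x hx
    refine hsub _ hlt (hnorm e heX hze) (hnorm z hzX (Commute.refl z)) x ?_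
    rwa [CfsgLib.Coprime.commutator_commutator_eq (zpowers_le.2 hzX) hcz (Or.inr hX)]
  have hXz : ⁅X, zpowers z⁆ = X := eq_of_le_of_not_lt hle hlt
  intro y hy
  rw [hXz] at hy
  by_cases hb : X = ⊥
  · rw [hb, mem_bot] at hy
    rw [hy, map_one]
  set Φ := ⁅X, X⁆ with hΦ
  have hΦX : Φ < X := lt_of_le_of_ne (commutator_le_self X) fun e =>
    hb (eq_bot_of_perfect_of_isSolvable' e hX)
  have hNΦ : ∀ g ∈ normalizer (X : Set H), g ∈ normalizer (Φ : Set H) := fun g hg => by
    rw [← map_conj_eq_iff, hΦ, Subgroup.map_commutator, map_conj_eq_iff.2 hg]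
  set Z := ρ z with hZ
  set P := psum ρ e p with hPdef
  have hZΦ : ∀ w ∈ Φ, ρ w * Z = Z * ρ w := by
    intro w hw
    have h1 := hsub Φ hΦX (hNΦ e heX) (hNΦ z hzX) ⁅w, z⁆
      (commutator_mem_commutator hw (mem_zpowers z))
    rw [hZ, ← map_mul, ← map_mul, show w * z = ⁅w, z⁆ * (z * w) by
      rw [commutatorElement_def]; group, map_mul ρ ⁅w, z⁆, h1, one_mul]
  have hP : ∀ x ∈ X, ρ x * ((Z - 1) * P) = (Z - 1) * P := fun x hx => AddMonoidHom.ext fun w =>
    hfix (P w) (DFunLike.congr_fun (psum_fix ρ he) w) x hx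
  -- the first step: `Φ` fixes `⁅W, z⁆`
  have h1 : ∀ w ∈ Φ, ρ w * (Z - 1) = Z - 1 := by
    haveI := Fintype.ofFinite Φ
    intro w hw
    have hcj : ∀ i ∈ Finset.Ico 1 p, ∑ x : Φ, ρ (x : H) * ρ (e ^ i) * ρ (x : H)⁻¹ =
        (∑ x : Φ, ρ (x : H)) * ρ (e ^ i) := fun i hi => by
      rw [sum_conj ρ _ (pow_mem (hNΦ e heX) i)]
      congr 1
      exact Function.Bijective.sum_comp (twist_bijective (pow_mem (hNΦ e heX) i) fun x hx hxc =>
        hfpf x (hΦX.le hx) (pow_commute_imp hp he (Finset.mem_Ico.1 hi).1 (Finset.mem_Ico.1 hi).2 hxc))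
        fun x : Φ => ρ (x : H)
    have hZw : ∀ x : Φ, ρ (x : H) * (Z - 1) = (Z - 1) * ρ (x : H) := fun x => by
      rw [mul_sub, sub_mul, hZΦ x x.2, mul_one, one_mul]
    have key : (Z - 1) * (Fintype.card Φ : AddMonoid.End W) = (Z - 1) * P * (∑ x : Φ, ρ (x : H)⁻¹) -
        (Z - 1) * ((∑ x : Φ, ρ (x : H)) * ∑ i ∈ Finset.Ico 1 p, ρ (e ^ i)) := by
      rw [eq_sub_iff_add_eq, ← mul_add, Finset.mul_sum (Finset.Ico 1 p),
        ← Finset.sum_congr rfl hcj,
        Finset.sum_comm, show (Fintype.card Φ : AddMonoid.End W) = ∑ _x : Φ, (1 : AddMonoid.End W) by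
          rw [Finset.sum_const, Finset.card_univ, nsmul_one], ← Finset.sum_add_distrib, Finset.mul_sum,
        Finset.mul_sum]
      refine Finset.sum_congr rfl fun x _ => ?_
      rw [← Finset.sum_mul, ← Finset.mul_sum]
      conv_rhs => rw [← hP x (hΦX.le x.2), ← mul_assoc (ρ (x : H)), hZw x, hPdef, psum_eq ρ hp.pos,
        mul_assoc (Z - 1) (ρ (x : H)), mul_assoc (Z - 1), mul_add (ρ (x : H)), add_mul, mul_one,
        ← map_mul, mul_inv_cancel, map_one]
    have h2 : ρ w * (Fintype.card Φ • (Z - 1)) = Fintype.card Φ • (Z - 1) := by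
      rw [nsmul_eq_mul, (Nat.cast_commute _ _).eq, key, mul_sub, ← mul_assoc, hP w (hΦX.le hw),
        ← mul_assoc (ρ w) (Z - 1), hZw ⟨w, hw⟩, mul_assoc (Z - 1) (ρ w), ← mul_assoc (ρ w),
        rho_mul_sum ρ ⟨w, hw⟩]
    refine AddMonoidHom.ext fun v => eq_of_coprime_nsmul
      (card_coprime (hcop.coprime_dvd_left (card_dvd_of_le hΦX.le))) ?_
    show Fintype.card Φ • (ρ w ((Z - 1) v)) = Fintype.card Φ • ((Z - 1) v)
    rw [← map_nsmul (ρ w : W →+ W)]
    exact DFunLike.congr_fun h2 v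
  -- the second step: the image of `X` is abelian
  have h2 : ∀ w ∈ Φ, ρ w = 1 := by
    let T : Φ → AddMonoid.End W := fun w => ρ (w : H) - 1
    have hzst : zpowers z ≤ stab ρ T := zpowers_le.2 fun w => by
      have h3 : (ρ (w : H) - 1) * (Z - 1) = 0 := by rw [sub_mul, h1 w w.2, one_mul, sub_self]
      have h4 : (Z - 1) * (ρ (w : H) - 1) = 0 := by
        rw [← h3]
        simp only [mul_sub, sub_mul, hZΦ w w.2, mul_one, one_mul]
        abel
      rw [sub_mul, one_mul, sub_eq_zero] at h4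
      exact h4
    have hXT : X ≤ stab ρ T := by
      rw [← hXz, commutator_le]
      intro x hx g hg w
      have hxw : x⁻¹ * (w : H) * x ∈ Φ :=
        (mem_normalizer_iff''.1 (hNΦ x (le_normalizer hx)) w).1 w.2
      have h5 : ρ x * T ⟨_, hxw⟩ * ρ x⁻¹ = T w := by
        simp only [T, mul_sub, sub_mul, mul_one, ← map_mul]
        rw [mul_inv_cancel, map_one]
        congr 2
        group
      set Tx := T ⟨_, hxw⟩ with hTx
      calc ρ ⁅x, g⁆ * T w = ρ x * ρ g * ρ x⁻¹ * (ρ g⁻¹ * T w) := by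
              rw [commutatorElement_def, map_mul, map_mul, map_mul]; simp only [mul_assoc]
        _ = ρ x * ρ g * ρ x⁻¹ * T w := by rw [hzst (inv_mem hg) w]
        _ = ρ x * ρ g * (Tx * ρ x⁻¹) := by
              conv_lhs => rw [← h5]
              simp only [mul_assoc]; rw [← mul_assoc (ρ x⁻¹) (ρ x), ← map_mul,
                inv_mul_cancel, map_one, one_mul]
        _ = ρ x * Tx * ρ x⁻¹ := by
              rw [mul_assoc (ρ x), ← mul_assoc (ρ g), hTx, hzst hg ⟨_, hxw⟩]
              exact (mul_assoc _ _ _).symm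
        _ = T w := h5
    intro w hw
    refine eq_one_of_fix_smul (hcop.coprime_dvd_left (card_dvd_of_le hΦX.le)) ?_
    have h3 : ρ w * (ρ w - 1) = ρ w - 1 := hXT (hΦX.le hw) ⟨w, hw⟩
    have h4 : ∀ n : ℕ, ρ w ^ n = 1 + n • (ρ w - 1) := by
      intro n
      induction n with
      | zero => simp
      | succ n ihn =>
        rw [pow_succ', ihn, mul_add, mul_one, mul_smul_comm, h3, succ_nsmul]
        abel
    have h5 := h4 (Nat.card Φ)
    rw [← map_pow, show w ^ Nat.card Φ = 1 from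
      congrArg Subtype.val (pow_card_eq_one' (x := (⟨w, hw⟩ : Φ))), map_one, left_eq_add,
      nsmul_eq_mul, mul_sub, mul_one, sub_eq_zero] at h5
    rw [← (Nat.cast_commute _ _).eq]
    exact h5
  have hab : ∀ a ∈ X, ∀ b ∈ X, ρ a * ρ b = ρ b * ρ a := fun a ha b hb => by
    rw [← map_mul, ← map_mul, show a * b = ⁅a, b⁆ * (b * a) by rw [commutatorElement_def]; group,
      map_mul ρ ⁅a, b⁆, h2 _ (commutator_mem_commutator ha hb), one_mul]
  -- the last step
  haveI := Fintype.ofFinite X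
  refine eq_one_of_fix_smul (card_coprime hcop) ?_
  obtain ⟨n, hnz, hne⟩ : ∃ n : ℕ, z ^ n = z ∧ p ∣ n := by
    obtain ⟨m, hm⟩ := exists_pow_eq_self_of_coprime (n := p) (x := z) hzp.symm
    exact ⟨p * m, by rw [pow_mul]; exact hm, dvd_mul_right p m⟩
  -- `X` fixes the sum over the twists by `z * e ^ i`
  have hsum : ∀ (i : ℕ) (hc : z * e ^ i ∈ normalizer (X : Set H)),
      ρ y * (∑ x : X, ρ ((twist X (z * e ^ i) hc x : X) : H)) =
        ∑ x : X, ρ ((twist X (z * e ^ i) hc x : X) : H) := by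
    intro i hc
    set c := z * e ^ i
    let ψ : X → H := fun x => (twist X c hc x : X)
    have hψX : ∀ x, ψ x ∈ X := fun x => (twist X c hc x).2
    have hψmul : ∀ a b : X, ρ (ψ (a * b)) = ρ (ψ a) * ρ (ψ b) := by
      intro a b
      have hb' : c * (b : H)⁻¹ * c⁻¹ ∈ X := (mem_normalizer_iff.1 hc _).1 (inv_mem b.2)
      have ha' : c * (a : H)⁻¹ * c⁻¹ ∈ X := (mem_normalizer_iff.1 hc _).1 (inv_mem a.2)
      have e1 : ψ (a * b) = (a : H) * ((b : H) * (c * (b : H)⁻¹ * c⁻¹) * (c * (a : H)⁻¹ * c⁻¹)) := by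
        show ((a * b : X) : H) * (c * ((a * b : X) : H)⁻¹ * c⁻¹) = _
        rw [Subgroup.coe_mul]; group
      rw [e1, map_mul, map_mul _ ((b : H) * _), hab _ (mul_mem b.2 hb') _ ha', ← mul_assoc,
        ← map_mul]
      rfl
    let K : Subgroup H :=
      { carrier := {g | g ∈ X ∧ ∃ x : X, ρ (ψ x) = ρ g}
        one_mem' := ⟨one_mem X, 1, by simp [ψ, twist]⟩
        mul_mem' := by
          rintro a b ⟨ha, x, hx⟩ ⟨hb, x', hx'⟩
          exact ⟨mul_mem ha hb, x * x', by rw [hψmul, hx, hx', map_mul]⟩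
        inv_mem' := by
          rintro a ⟨ha, x, hx⟩
          refine ⟨inv_mem ha, x⁻¹, ?_⟩
          have h3 : ρ (ψ x⁻¹) * ρ (ψ x) = 1 := by
            rw [← hψmul, inv_mul_cancel]; simp [ψ, twist]
          rw [hx] at h3
          calc ρ (ψ x⁻¹) = ρ (ψ x⁻¹) * (ρ a * ρ a⁻¹) := by
                rw [← map_mul, mul_inv_cancel, map_one, mul_one]
            _ = ρ a⁻¹ := by rw [← mul_assoc, h3, one_mul] }
    have hK : ∀ (k : ℕ) (x : X), (x : H) * (c ^ k * (x : H)⁻¹ * (c ^ k)⁻¹) ∈ K := by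
      intro k
      induction k with
      | zero => intro x; simp
      | succ k ihk =>
        intro x
        have hx' : c ^ k * (x : H) * (c ^ k)⁻¹ ∈ X := (mem_normalizer_iff.1 (pow_mem hc k) _).1 x.2
        have e1 : (x : H) * (c ^ (k + 1) * (x : H)⁻¹ * (c ^ (k + 1))⁻¹) =
            (x : H) * (c ^ k * (x : H)⁻¹ * (c ^ k)⁻¹) * ψ ⟨_, hx'⟩ := by
          show _ = _ * (c ^ k * (x : H) * (c ^ k)⁻¹ * (c * (c ^ k * (x : H) * (c ^ k)⁻¹)⁻¹ * c⁻¹))
          rw [pow_succ']; group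
        rw [e1]
        exact mul_mem (ihk x) ⟨hψX _, _, rfl⟩
    have hXK : X ≤ K := by
      rw [← hXz, commutator_le]
      intro x hx g hg
      obtain ⟨j, rfl⟩ := (isOfFinOrder_of_finite z).mem_powers_iff_mem_zpowers.2 hg
      have hej : e ^ (i * (n * j)) = 1 := by
        obtain ⟨q, rfl⟩ := hne
        rw [show i * (p * q * j) = p * (i * q * j) by ring, pow_mul, he, one_pow]
      have h3 := hK (n * j) ⟨x, hx⟩
      rw [(hze.pow_right i).mul_pow, ← pow_mul, hej, mul_one, pow_mul, hnz] at h3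
      show ⁅x, z ^ j⁆ ∈ K
      rw [commutatorElement_def]
      simpa only [mul_assoc] using h3
    obtain ⟨-, x₀, hx₀⟩ := hXK hy
    rw [Finset.mul_sum]
    conv_lhs => arg 2; ext x; rw [← hx₀, show ρ ((twist X c hc x : X) : H) = ρ (ψ x) from rfl, ← hψmul]
    exact Function.Bijective.sum_comp (Group.mulLeft_bijective x₀) fun x : X => ρ (ψ x)
  have hzi : ∀ i : ℕ, z * e ^ i ∈ normalizer (X : Set H) := fun i => mul_mem hzX (pow_mem heX i)
  have key : (Fintype.card X : AddMonoid.End W) =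
      ∑ i ∈ Finset.range p, (∑ x : X, ρ ((twist X (z * e ^ i) (hzi i) x : X) : H)) * ρ (z * e ^ i) -
        (∑ x : X, ρ (x : H)) * (∑ i ∈ Finset.Ico 1 p, ρ (e ^ i)) -
          (Z - 1) * P * ∑ x : X, ρ (x : H)⁻¹ := by
    have hcj : ∀ i ∈ Finset.Ico 1 p, ∑ x : X, ρ (x : H) * ρ (e ^ i) * ρ (x : H)⁻¹ =
        (∑ x : X, ρ (x : H)) * ρ (e ^ i) := fun i hi => by
      rw [sum_conj ρ _ (pow_mem heX i)]
      congr 1
      exact Function.Bijective.sum_comp (twist_bijective (pow_mem heX i) fun x hx hxc =>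
        hfpf x hx (pow_commute_imp hp he (Finset.mem_Ico.1 hi).1 (Finset.mem_Ico.1 hi).2 hxc))
        fun x : X => ρ (x : H)
    have e1 : ∀ x : X, ρ (x : H) * (Z * P) * ρ (x : H)⁻¹ - ρ (x : H) * P * ρ (x : H)⁻¹ =
        (Z - 1) * P * ρ (x : H)⁻¹ := fun x => by
      rw [← sub_mul, ← mul_sub, ← hP x x.2, sub_mul, one_mul]
    have e2 : ∑ i ∈ Finset.range p,
        (∑ x : X, ρ ((twist X (z * e ^ i) (hzi i) x : X) : H)) * ρ (z * e ^ i) =
          ∑ x : X, ρ (x : H) * (Z * P) * ρ (x : H)⁻¹ := by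
      rw [Finset.sum_congr rfl fun i _ => (sum_conj ρ (z * e ^ i) (hzi i)).symm, Finset.sum_comm]
      refine Finset.sum_congr rfl fun x _ => ?_
      rw [hPdef, psum, Finset.mul_sum, Finset.mul_sum, Finset.sum_mul]
      exact Finset.sum_congr rfl fun i _ => by rw [hZ, ← map_mul ρ z]
    have e3 : (Fintype.card X : AddMonoid.End W) +
        (∑ x : X, ρ (x : H)) * (∑ i ∈ Finset.Ico 1 p, ρ (e ^ i)) =
          ∑ x : X, ρ (x : H) * P * ρ (x : H)⁻¹ := by
      rw [Finset.mul_sum (Finset.Ico 1 p), ← Finset.sum_congr rfl hcj,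
        Finset.sum_comm, show (Fintype.card X : AddMonoid.End W) = ∑ _x : X, (1 : AddMonoid.End W) by
          rw [Finset.sum_const, Finset.card_univ, nsmul_one], ← Finset.sum_add_distrib]
      refine Finset.sum_congr rfl fun x _ => ?_
      rw [hPdef, psum_eq ρ hp.pos, mul_add, add_mul, mul_one, ← map_mul, mul_inv_cancel, map_one,
        Finset.mul_sum, Finset.sum_mul]
    rw [e2, Finset.mul_sum (a := (Z - 1) * P), ← Finset.sum_congr rfl fun x _ => e1 x,
      Finset.sum_sub_distrib, ← e3]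
    abel
  have hZi : ∀ i, ρ y * ((∑ x : X, ρ ((twist X (z * e ^ i) (hzi i) x : X) : H)) * ρ (z * e ^ i)) =
      (∑ x : X, ρ ((twist X (z * e ^ i) (hzi i) x : X) : H)) * ρ (z * e ^ i) := fun i => by
    rw [← mul_assoc, hsum]
  rw [key, mul_sub, mul_sub, Finset.mul_sum, Finset.sum_congr rfl fun i _ => hZi i,
    ← mul_assoc (ρ y), rho_mul_sum ρ ⟨y, hy⟩, ← mul_assoc (ρ y), hP y hy]

end Endo

/-! ### Abelian sections -/

variable {Y : Type u} [Group Y]

/-- The action of `N(V)` on the abelianization of `V`, written additively. -/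
noncomputable def abEnd (V : Subgroup Y) :
    ↥(normalizer (V : Set Y)) →* AddMonoid.End (Additive (Abelianization V)) where
  toFun g := MonoidHom.toAdditive (Abelianization.map (V.normalizerMonoidHom g).toMonoidHom)
  map_one' := by
    refine AddMonoidHom.ext fun w => ?_
    obtain ⟨v, rfl⟩ := QuotientGroup.mk_surjective (Additive.toMul w)
    show Additive.ofMul (Abelianization.of ((V.normalizerMonoidHom 1) v)) = _
    rw [map_one]; rfl
  map_mul' g h := by
    refine AddMonoidHom.ext fun w => ?_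
    obtain ⟨v, rfl⟩ := QuotientGroup.mk_surjective (Additive.toMul w)
    show Additive.ofMul (Abelianization.of ((V.normalizerMonoidHom (g * h)) v)) =
      Additive.ofMul (Abelianization.of (V.normalizerMonoidHom g (V.normalizerMonoidHom h v)))
    rw [map_mul]; rfl

theorem abEnd_of (V : Subgroup Y) (g : ↥(normalizer (V : Set Y))) (v : V) :
    abEnd V g (Additive.ofMul (Abelianization.of v)) =
      Additive.ofMul (Abelianization.of
        (⟨(g : Y) * v * (g : Y)⁻¹, (mem_normalizer_iff.1 g.2 _).1 v.2⟩ : V)) := rfl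

theorem ab_surjective (V : Subgroup Y) (w : Additive (Abelianization V)) :
    ∃ v : V, Additive.ofMul (Abelianization.of v) = w := by
  obtain ⟨v, hv⟩ := QuotientGroup.mk_surjective (Additive.toMul w)
  exact ⟨v, congrArg Additive.ofMul hv⟩

theorem ab_of_eq {V : Subgroup Y} {a b : V} :
    Additive.ofMul (Abelianization.of a) = Additive.ofMul (Abelianization.of b) ↔
      (a : Y)⁻¹ * b ∈ ⁅V, V⁆ := by
  rw [Additive.ofMul.injective.eq_iff, ← map_subtype_commutator]
  exact QuotientGroup.eq.trans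
    ⟨fun h => ⟨_, h, rfl⟩, fun ⟨c, hc, he⟩ => by rwa [show c = a⁻¹ * b from Subtype.ext he] at hc⟩

variable [Finite Y]

theorem card_ab_dvd (V : Subgroup Y) : Nat.card (Additive (Abelianization V)) ∣ Nat.card V :=
  card_quotient_dvd_card _

theorem derived_norm' (W : Subgroup Y) :
    normalizer (W : Set Y) ≤ normalizer ((⁅W, W⁆ : Subgroup Y) : Set Y) := fun g hg => by
  rw [← map_conj_eq_iff, Subgroup.map_commutator, map_conj_eq_iff.2 hg]

/-- A coprime group trivial on the abelian sections of the derived series centralizes `V`. -/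
theorem le_centralizer_of_abEnd {X V : Subgroup Y} (hV : Group.IsSolvable V)
    (hXV : X ≤ normalizer (V : Set Y)) (hcop : (Nat.card X).Coprime (Nat.card V))
    (h : ∀ W : Subgroup Y, W ≤ V → normalizer (V : Set Y) ≤ normalizer (W : Set Y) →
      ∀ (x : Y) (hx : x ∈ normalizer (W : Set Y)), x ∈ X → abEnd W ⟨x, hx⟩ = 1) :
    X ≤ centralizer (V : Set Y) := by
  induction hm : Nat.card V using Nat.strong_induction_on generalizing V with
  | _ m ih =>
  subst hm
  by_cases hb : V = ⊥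
  · subst hb
    rw [le_centralizer_iff]; exact bot_le
  set V' := ⁅V, V⁆ with hV'
  have hlt : V' < V := lt_of_le_of_ne (commutator_le_self V) fun e =>
    hb (eq_bot_of_perfect_of_isSolvable' e hV)
  have h1 : X ≤ centralizer (V' : Set Y) := ih _
    (lt_of_le_of_ne (card_le_of_le hlt.le) fun e => hlt.ne (eq_of_le_of_card_ge hlt.le e.ge))
    (CfsgLib.Coprime.isSolvable_of_le hV hlt.le) (hXV.trans (derived_norm' V))
    (hcop.coprime_dvd_right (card_dvd_of_le hlt.le))
    (fun W hW hN => h W (hW.trans hlt.le) ((derived_norm' V).trans hN)) rfl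
  have h2 : ⁅V, X⁆ ≤ V' := by
    rw [commutator_le]
    intro v hv x hx
    have h3 := DFunLike.congr_fun (h V le_rfl le_rfl x (hXV hx) hx)
      (Additive.ofMul (Abelianization.of (⟨v⁻¹, inv_mem hv⟩ : V)))
    rw [abEnd_of, show (1 : AddMonoid.End (Additive (Abelianization V)))
      (Additive.ofMul (Abelianization.of (⟨v⁻¹, inv_mem hv⟩ : V))) =
        Additive.ofMul (Abelianization.of (⟨v⁻¹, inv_mem hv⟩ : V)) from rfl, eq_comm, ab_of_eq] at h3
    rw [commutatorElement_def]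
    simpa [mul_assoc] using h3
  have h4 : ⁅⁅V, X⁆, X⁆ = ⊥ := by
    rw [eq_bot_iff]
    refine (commutator_mono h2 le_rfl).trans ?_
    rw [commutator_comm, le_bot_iff, commutator_eq_bot_iff_le_centralizer]
    exact h1
  have h5 := CfsgLib.Coprime.commutator_eq_bot_of_commutator_commutator hXV hcop (Or.inr hV) h4
  rwa [commutator_comm, commutator_eq_bot_iff_le_centralizer] at h5

/-- Fixed points of `e` on an abelian section lift. -/
theorem exists_fixed_lift {p : ℕ} {e : Y} {W : Subgroup Y} (hep : e ^ p = 1)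
    (heW : e ∈ normalizer (W : Set Y)) (hWp : (Nat.card W).Coprime p) {w : Additive (Abelianization W)}
    (hw : abEnd W ⟨e, heW⟩ w = w) :
    ∃ (c : Y) (hc : c ∈ W), e * c = c * e ∧ Additive.ofMul (Abelianization.of (⟨c, hc⟩ : W)) = w := by
  obtain ⟨⟨v, hv⟩, rfl⟩ := ab_surjective W w
  rw [abEnd_of, ab_of_eq] at hw
  set V := ⁅W, W⁆ with hVdef
  have heV : e ∈ normalizer (V : Set Y) := derived_norm' W heW
  have hWN : W ≤ normalizer (V : Set Y) := le_normalizer.trans (derived_norm' W)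
  have h1 : qx V v (hWN hv) ∈ qm V W ⊓ centralizer (qm V (zpowers e) : Set (QN V)) := by
    refine ⟨qx_mem _ hv, ?_⟩
    show qx V v (hWN hv) ∈ centralizer ((qm V (zpowers e) : Subgroup (QN V)) : Set (QN V))
    rw [qm_zpowers heV, centralizer_zpowers, mem_centralizer_singleton_iff]
    refine (QuotientGroup.mk'_eq_mk' _).2 ⟨⟨e⁻¹ * ((v : Y)⁻¹ * e * v), ?_⟩, ?_, Subtype.ext ?_⟩
    · exact mul_mem (inv_mem heV) (mul_mem (mul_mem (inv_mem (hWN hv)) heV) (hWN hv))
    · rw [mem_subgroupOf]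
      have h2 := (mem_normalizer_iff''.1 heV _).1 (inv_mem hw)
      simp only [mul_inv_rev, inv_inv] at h2
      convert h2 using 1
      simp only [mul_assoc]
      group
    · show (v : Y) * e * (e⁻¹ * (v⁻¹ * e * v)) = e * v
      group
  rw [← qm_fix hWN (zpowers_le.2 heV) (zpowers_le.2 heW) (by
    rw [Nat.card_zpowers]
    exact (hWp.coprime_dvd_right (orderOf_dvd_of_pow_eq_one hep)).symm)
    (Group.isSolvable_of_comm fun a b => mul_comm' a b), centralizer_zpowers] at h1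
  obtain ⟨⟨c, hcN⟩, ⟨hcW, hce⟩, hc⟩ := h1
  refine ⟨c, hcW, (mem_centralizer_singleton_iff.1 hce).symm, ab_of_eq.2 ?_⟩
  exact mem_subgroupOf.1 (QuotientGroup.eq.1 hc)

theorem map_subgroupOf_mem {N A B : Subgroup Y} (hA : A ≤ N) (hB : B ≤ N) {x : N}
    (hx : (x : Y) ∈ ⁅A, B⁆) : x ∈ ⁅A.subgroupOf N, B.subgroupOf N⁆ := by
  rw [← map_subgroupOf_eq_of_le hA, ← map_subgroupOf_eq_of_le hB, ← Subgroup.map_commutator] at hx
  exact (mem_map_iff_mem N.subtype_injective).1 hx

theorem zpowers_subgroupOf {N : Subgroup Y} {z : Y} (hz : z ∈ N) :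
    (zpowers z).subgroupOf N = zpowers ⟨z, hz⟩ := by
  apply map_injective N.subtype_injective
  rw [map_subgroupOf_eq_of_le (zpowers_le.2 hz), MonoidHom.map_zpowers]
  rfl

theorem coe_mem_normalizer_subgroupOf {N X : Subgroup Y} (hX : X ≤ N) {g : Y} (hg : g ∈ N)
    (hgX : g ∈ normalizer (X : Set Y)) :
    (⟨g, hg⟩ : N) ∈ normalizer (X.subgroupOf N : Set N) := by
  rw [← subgroupOf_normalizer_eq hX]
  exact hgX

/-- A group with fixed-point-free `e`, centralizing the fixed points of `e` on `V`, centralizes `V`. -/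
theorem centralizes_of_fpf {p : ℕ} (hp : p.Prime) {e : Y} {X V : Subgroup Y} (hep : e ^ p = 1)
    (heX : e ∈ normalizer (X : Set Y)) (heV : e ∈ normalizer (V : Set Y))
    (hXV : X ≤ normalizer (V : Set Y)) (hV : Group.IsSolvable V)
    (hcop : (Nat.card X).Coprime (Nat.card V)) (hVp : (Nat.card V).Coprime p)
    (hfpf : X ⊓ centralizer ({e} : Set Y) = ⊥)
    (hfix : X ≤ centralizer ((V ⊓ centralizer ({e} : Set Y) : Subgroup Y) : Set Y)) :
    X ≤ centralizer (V : Set Y) := by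
  refine le_centralizer_of_abEnd hV hXV hcop fun W hWV hN x hx hxX => ?_
  set N := normalizer (W : Set Y)
  have hXN : X ≤ N := hXV.trans hN
  refine trivial_of_fpf (abEnd W) (F := X.subgroupOf N) hp (e := ⟨e, hN heV⟩)
    (Subtype.ext (by simpa using hep)) (coe_mem_normalizer_subgroupOf hXN _ heX) (fun y hy hye => ?_)
    ?_ (fun w hw y hy => ?_) ⟨x, hx⟩ hxX
  · have h1 : (y : Y) ∈ X ⊓ centralizer ({e} : Set Y) :=
      ⟨hy, mem_centralizer_singleton_iff.2 (congrArg Subtype.val hye.eq)⟩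
    rw [hfpf, mem_bot] at h1
    exact Subtype.ext h1
  · rw [CfsgLib.Coprime.card_subgroupOf hXN]
    exact hcop.coprime_dvd_right ((card_ab_dvd W).trans (card_dvd_of_le hWV))
  · obtain ⟨c, hc, hce, rfl⟩ :=
      exists_fixed_lift hep (hN heV) (hVp.coprime_dvd_left (card_dvd_of_le hWV)) hw
    rw [abEnd_of]
    congr 2
    refine Subtype.ext ?_
    show (y : Y) * c * (y : Y)⁻¹ = c
    have h1 : c * (y : Y) = (y : Y) * c :=
      mem_centralizer_iff.1 (hfix hy) c ⟨hWV hc, mem_centralizer_singleton_iff.2 hce.symm⟩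
    rw [← h1, mul_inv_cancel_right]

/-- `⁅X, z⁆` centralizes `V`, when `z` commutes with `e`, `e` is fixed-point-free on `X`, and the
commutators of the fixed points of `e` on `V` with `z` normalize `X`. -/
theorem fix_good {p : ℕ} (hp : p.Prime) {e z : Y} {X V : Subgroup Y} (hep : e ^ p = 1)
    (hze : Commute z e) (hzp : (orderOf z).Coprime p) (hzc : (orderOf z).Coprime (Nat.card X))
    (hX : Group.IsSolvable X) (hV : Group.IsSolvable V)
    (heX : e ∈ normalizer (X : Set Y)) (heV : e ∈ normalizer (V : Set Y))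
    (hXV : X ≤ normalizer (V : Set Y)) (hzX : z ∈ normalizer (X : Set Y))
    (hzV : z ∈ normalizer (V : Set Y))
    (hcop : (Nat.card X).Coprime (Nat.card V)) (hVp : (Nat.card V).Coprime p)
    (hfpf : X ⊓ centralizer ({e} : Set Y) = ⊥)
    (hfix : ∀ c ∈ V ⊓ centralizer ({e} : Set Y), ⁅c, z⁆ ∈ normalizer (X : Set Y)) :
    ⁅X, zpowers z⁆ ≤ centralizer (V : Set Y) := by
  have hle : ⁅X, zpowers z⁆ ≤ X := commutator_le_of_le_normalizer (zpowers_le.2 hzX)
  refine le_centralizer_of_abEnd hV (hle.trans hXV) (hcop.coprime_dvd_left (card_dvd_of_le hle))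
    fun W hWV hN x hx hxX => ?_
  set N := normalizer (W : Set Y)
  have hXN : X ≤ N := hXV.trans hN
  have hzN : z ∈ N := hN hzV
  refine fix_good_end (abEnd W) (X := X.subgroupOf N) hp (e := ⟨e, hN heV⟩) (z := ⟨z, hzN⟩)
    (Subtype.ext (by simpa using hep)) (Subtype.ext hze.eq)
    (by rwa [Subgroup.orderOf_mk]) (CfsgLib.Coprime.isSolvable_subgroupOf hXN hX)
    (coe_mem_normalizer_subgroupOf hXN _ heX) (coe_mem_normalizer_subgroupOf hXN _ hzX)
    (fun y hy hye => ?_) ?_ ?_ (fun w hw y hy => ?_) ⟨x, hx⟩ ?_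
  · have h1 : (y : Y) ∈ X ⊓ centralizer ({e} : Set Y) :=
      ⟨hy, mem_centralizer_singleton_iff.2 (congrArg Subtype.val hye.eq)⟩
    rw [hfpf, mem_bot] at h1
    exact Subtype.ext h1
  · rw [Subgroup.orderOf_mk, CfsgLib.Coprime.card_subgroupOf hXN]
    exact hzc
  · rw [CfsgLib.Coprime.card_subgroupOf hXN]
    exact hcop.coprime_dvd_right ((card_ab_dvd W).trans (card_dvd_of_le hWV))
  · obtain ⟨c, hc, hce, rfl⟩ :=
      exists_fixed_lift hep (hN heV) (hVp.coprime_dvd_left (card_dvd_of_le hWV)) hw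
    set d : W := ⟨z * c * z⁻¹ * c⁻¹, mul_mem ((mem_normalizer_iff.1 hzN _).1 hc) (inv_mem hc)⟩
    have hd : abEnd W ⟨z, hzN⟩ (Additive.ofMul (Abelianization.of (⟨c, hc⟩ : W))) -
        Additive.ofMul (Abelianization.of (⟨c, hc⟩ : W)) = Additive.ofMul (Abelianization.of d) := by
      rw [abEnd_of, sub_eq_iff_eq_add, ← ofMul_mul, ← map_mul]
      congr 2
      exact Subtype.ext (by simp [d, mul_assoc])
    rw [hd, abEnd_of]
    congr 2
    refine Subtype.ext ?_
    show (y : Y) * (d : Y) * (y : Y)⁻¹ = d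
    have hdX : (d : Y) ∈ normalizer (X : Set Y) := by
      have h1 := Subgroup.inv_mem (normalizer (X : Set Y)) (hfix c ⟨hWV hc, mem_centralizer_singleton_iff.2 hce.symm⟩)
      simpa [commutatorElement_def, d, mul_assoc] using h1
    have h2 : ⁅(y : Y), (d : Y)⁆ ∈ X ⊓ V := by
      rw [commutatorElement_def]
      refine ⟨?_, ?_⟩
      · rw [show (y : Y) * d * (y : Y)⁻¹ * (d : Y)⁻¹ = y * (d * (y : Y)⁻¹ * (d : Y)⁻¹) by group]
        exact mul_mem hy ((mem_normalizer_iff.1 hdX _).1 (inv_mem hy))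
      · exact mul_mem ((mem_normalizer_iff.1 (hXV hy) _).1 (hWV d.2)) (V.inv_mem (hWV d.2))
    rw [CfsgLib.Coprime.inf_eq_bot_of_coprime hcop, mem_bot, commutatorElement_eq_one_iff_mul_comm] at h2
    rw [h2, mul_inv_cancel_right]
  · rw [← zpowers_subgroupOf hzN]
    exact map_subgroupOf_mem hXN (zpowers_le.2 hzN) hxX

end CfsgLib.Comp.SFT
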