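import Cfsg.Agent.Lib.Comp.SFT.Bender
import Cfsg.Agent.Lib.FixedSpace.Cover

/-!
Maximal members containing some `θ e`: foreign members normalized by the Fitting subgroup are
trivial, and a maximal member with two primes in its Fitting subgroup is the only maximal member
containing the parts of it.
-/

set_option autoImplicit false
set_option linter.style.haveILetI false
set_option linter.unusedSectionVars false

universe u

namespace CfsgLib.Comp.SFT

open Subgroup
open scoped commutatorElement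

variable {G : Type u} [Group G] [Finite G] {p : ℕ} [hp : Fact p.Prime]
  {A : Subgroup G} {θ : G → Subgroup G}

theorem cenCore_comm (r : ℕ) (M : Subgroup G) : IsMulCommutative (CenCore r M) :=
  ⟨⟨fun a b => Subtype.ext (mem_centralizer_iff.1 b.2.2 (a : G) a.2.1)⟩⟩

namespace Min

variable (h : Min p A θ)

include h

theorem pow_point {e : G} (he : e ∈ A) : e ^ p = 1 := by simpa using h.hA.2 e he

theorem comm_mem {X : Subgroup G} (hX : X ∈ Cfsg.signalizerFamily p A θ) {S : Subgroup G}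
    (hS : S ≤ A) : ⁅X, S⁆ ∈ Cfsg.signalizerFamily p A θ :=
  family_mono hX (h.comm_le hX hS) (h.inv_comm (h.mem_inv hX) hS)

theorem inf_cent_mem {X : Subgroup G} (hX : X ∈ Cfsg.signalizerFamily p A θ) {b : G} (hb : b ∈ A) :
    X ⊓ centralizer ({b} : Set G) ∈ Cfsg.signalizerFamily p A θ :=
  family_mono hX inf_le_left (CfsgLib.Comp.le_normalizer_inf (h.mem_inv hX) (h.inv_cent_point hb))

/-- A member whose Fitting subgroup is centralized by `S ≤ A` is centralized by `S`. -/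
theorem cent_of_fit {M : Subgroup G} (hM : M ∈ Cfsg.signalizerFamily p A θ) {S : Subgroup G}
    (hS : S ≤ A) (hF : Fit M ≤ centralizer (S : Set G)) : M ≤ centralizer (S : Set G) := by
  have hFS : ⁅Fit M, S⁆ = ⊥ := commutator_eq_bot_iff_le_centralizer.2 hF
  have h1 : ⁅M, S⁆ ≤ Fit M := by
    refine le_trans (le_inf (h.comm_le hM hS) ?_) (fit_self hM.1)
    rw [← commutator_eq_bot_iff_le_centralizer]
    refine commutator_commutator_eq_bot_of_rotate ?_ ?_
    · rw [commutator_comm S, hFS, commutator_bot_left]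
    · exact le_bot_iff.1 ((commutator_mono
        (commutator_le_of_le_normalizer (fit_inv le_normalizer)) le_rfl).trans hFS.le)
  rw [← commutator_eq_bot_iff_le_centralizer, ← h.comm_comm hM hS]
  exact le_bot_iff.1 ((commutator_mono h1 le_rfl).trans hFS.le)

theorem le_theta_of_fit {M : Subgroup G} (hM : M ∈ Cfsg.signalizerFamily p A θ) {e : G} (he : e ∈ A)
    (he1 : e ≠ 1) (hF : Fit M ≤ centralizer ({e} : Set G)) : M ≤ θ e := by
  refine h.le_theta hM he he1 ?_
  rw [← centralizer_zpowers e] at hF ⊢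
  exact h.cent_of_fit hM (zpowers_le.2 he) hF

/-- A maximal member properly containing `θ e` has some core moved by `e`. -/
theorem exists_core_moved {M : Subgroup G} (hM : MaxMem p A θ M) {e : G} (he : e ∈ A) (he1 : e ≠ 1)
    (hne : M ≠ θ e) : ∃ s : ℕ, s.Prime ∧ ⁅Cfsg.pCoreOf s M, zpowers e⁆ ≠ ⊥ := by
  by_contra hc
  push Not at hc
  refine hne (hM.2 _ (h.theta_mem he he1) (h.le_theta_of_fit hM.1 he he1 ?_)).symm
  refine iSup_le fun q => ?_
  rw [← centralizer_zpowers e, ← commutator_eq_bot_iff_le_centralizer]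
  exact hc q q.2

theorem theta_norm_core {a : G} (ha : a ∈ A) (ha1 : a ≠ 1) {L : Subgroup G} (hL : θ a ≤ L) (q : ℕ) :
    Cfsg.signalizerInf A θ ≤ normalizer (Cfsg.pCoreOf q L : Set G) :=
  ((h.D_le ha ha1).trans hL).trans (core_norm q L)

theorem exists_prime_dvd_theta {q : ℕ} (hq : q.Prime) {X : Subgroup G}
    (hX : X ∈ Cfsg.signalizerFamily p A θ) (hXq : IsPGroup q X) (hX0 : X ≠ ⊥) :
    ∃ a ∈ A, a ≠ 1 ∧ q ∣ Nat.card (θ a) := by
  by_contra hc
  push Not at hc
  refine hX0 (le_bot_iff.1 ((h.mem_gen hX).le.trans (iSup_le fun B => ?_)))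
  obtain ⟨b, hb, hb1⟩ := exists_mem_ne_one (h.line_ne_bot B.2)
  have hle : X ⊓ centralizer ((B : Subgroup G) : Set G) ≤ θ b := h.piece_le_theta hX B.2.1 hb hb1
  haveI := Fact.mk hq
  obtain ⟨n, hn⟩ := IsPGroup.iff_card.1 (hXq.to_le
    (inf_le_left : X ⊓ centralizer ((B : Subgroup G) : Set G) ≤ X))
  rcases n with _ | n
  · rw [pow_zero, card_eq_one] at hn; exact hn.le
  · exact absurd ((dvd_pow_self q (Nat.succ_ne_zero n)).trans (hn ▸ card_dvd_of_le hle))
      (hc b (B.2.1 hb) hb1)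

theorem cenFix_mem {M : Subgroup G} (hM : M ∈ Cfsg.signalizerFamily p A θ) (r : ℕ) {e : G}
    (he : e ∈ A) :
    CenCore r M ⊓ centralizer ({e} : Set G) ∈ Cfsg.signalizerFamily p A θ :=
  h.inf_cent_mem (h.cenCore_mem hM r) he

theorem cenFix_D_norm {M : Subgroup G} {e : G} (he : e ∈ A) (he1 : e ≠ 1) (heM : θ e ≤ M) (r : ℕ) :
    Cfsg.signalizerInf A θ ≤
      normalizer ((CenCore r M ⊓ centralizer ({e} : Set G) : Subgroup G) : Set G) := by
  refine CfsgLib.Comp.le_normalizer_inf (((h.D_le he he1).trans heM).trans (cenCore_norm r M)) ?_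
  rw [← centralizer_zpowers e]
  exact h.D_norm_cent (zpowers_le.2 he)

/-- `e` is fixed-point-free on the foreign `X`, so `C(e) ∩ Z(O_r(M))` is as well. -/
theorem cenFix_fpf {M : Subgroup G} (hM : MaxMem p A θ M) {s : ℕ} (hs : s.Prime)
    (hs0 : Cfsg.pCoreOf s M ≠ ⊥) {W : Subgroup G} (hWP : W ≤ Cfsg.pCoreOf s M) {t : ℕ} (ht : t.Prime)
    (ht0 : Cfsg.pCoreOf t M = ⊥) {X : Subgroup G} (hX : X ∈ Cfsg.signalizerFamily p A θ)
    (hXt : IsPGroup t X) (hn : NormBy s W M X) {e : G} (he : e ∈ A) (he1 : e ≠ 1) (heM : θ e ≤ M)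
    {r : ℕ} (hr : r.Prime) (hr0 : Cfsg.pCoreOf r M ≠ ⊥) :
    X ⊓ centralizer ((CenCore r M ⊓ centralizer ({e} : Set G) : Subgroup G) : Set G) = ⊥ := by
  haveI := Fact.mk ht
  haveI := Fact.mk hr
  have hfix := h.foreign_fpf hM.1 hs hs0 hWP ht ht0 hX hXt hn he he1 heM
  have hZ := h.cenCore_mem hM.1 r
  have hZe := h.cenFix_mem hM.1 r he
  have hrt : r ≠ t := fun e => hr0 (e ▸ ht0)
  have hcop : (Nat.card (CenCore r M)).Coprime (Nat.card X) :=
    IsPGroup.coprime_card_of_ne r t hrt _ _ ((core_pgroup r M).to_le inf_le_left) hXt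
  have hZn := h.cenCore_norm_in hr hWP hn
  have hrp : r ≠ p := fun e => by
    subst e
    obtain ⟨n, hn'⟩ := IsPGroup.iff_card.1 (core_pgroup r M)
    have hne : n ≠ 0 := fun e => hr0 (card_eq_one.1 (by rw [hn', e, pow_zero]))
    exact hM.1.2.1 ((dvd_pow_self r hne).trans (hn' ▸ card_dvd_of_le (core_le r M)))
  have h1 : ⁅CenCore r M, zpowers e⁆ ≤ centralizer (X : Set G) :=
    comm_centralizes hp.out hr hrp (Or.inr (Or.inl (cenCore_comm r M))) (h.pow_point he)
      ((core_pgroup r M).to_le inf_le_left) (h.mem_inv hZ he) (h.mem_inv hX he) hZn hX.1 hcop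
      (h.coprime_p hX) (by rw [hfix, le_centralizer_iff]; exact bot_le)
  rw [← le_bot_iff, ← h.foreign_center_fpf hM hs hs0 hWP ht ht0 hX hXt hn hr hr0]
  refine le_inf inf_le_left ?_
  rw [le_centralizer_iff]
  refine (h.comm_sup_cent hZ (zpowers_le.2 he)).ge.trans ?_
  rw [centralizer_zpowers]
  refine sup_le (h1.trans (centralizer_le inf_le_left)) ?_
  rw [le_centralizer_iff]
  exact inf_le_right

/-- `r`-elements fixed by `e` push fixed-point-free `t`-groups into `O_t`. -/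
theorem comm_fix_le_core {e : G} (he : e ∈ A) {r t : ℕ} (hr : r.Prime) (hrp : r ≠ p) (ht : t.Prime)
    (hrt : r ≠ t) {L U Zs : Subgroup G} (hL : L ∈ Cfsg.signalizerFamily p A θ) (hUL : U ≤ L)
    (hUt : IsPGroup t U) (hUA : A ≤ normalizer (U : Set G))
    (hfix : U ⊓ centralizer ({e} : Set G) = ⊥) (hZr : IsPGroup r Zs)
    (hZe : Zs ≤ centralizer ({e} : Set G)) (hZL : Zs ≤ L) (hZn : Zs ≤ normalizer (U : Set G))
    (hst : L ⊓ centralizer ({e} : Set G) ≤ normalizer (Zs : Set G)) :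
    ⁅U, Zs⁆ ≤ Cfsg.pCoreOf t L := by
  haveI := Fact.mk hr
  haveI := Fact.mk ht
  rw [commutator_le]
  intro u hu z hz
  suffices hsuf : ⁅U, zpowers z⁆ ≤ Cfsg.pCoreOf t L from
    hsuf (commutator_mem_commutator hu (mem_zpowers z))
  have hzn : zpowers z ≤ normalizer (U : Set G) := zpowers_le.2 (hZn hz)
  have hle : ⁅U, zpowers z⁆ ≤ U := commutator_le_of_le_normalizer hzn
  refine le_core_test ht hL.1 (hle.trans hUL) (hUt.to_le hle) fun v hv hvt P hPL hPn hVP hPv => ?_
  set V := Cfsg.pCoreOf t L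
  haveI := Fact.mk hv
  have hLN : L ≤ normalizer (V : Set G) := core_norm t L
  have hUN : U ≤ normalizer (V : Set G) := hUL.trans hLN
  have hPN : P ≤ normalizer (V : Set G) := hPL.trans hLN
  have hAV : A ≤ normalizer (V : Set G) := core_inv (h.mem_inv hL)
  have heN : zpowers e ≤ normalizer (V : Set G) := zpowers_le.2 (hAV he)
  have hzN : zpowers z ≤ normalizer (V : Set G) := zpowers_le.2 (hLN (hZL hz))
  have hPA : A ≤ normalizer (P : Set G) := (h.mem_inv hL).trans hPn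
  have hPm : P ∈ Cfsg.signalizerFamily p A θ := family_mono hL hPL hPA
  have hUm : U ∈ Cfsg.signalizerFamily p A θ := family_mono hL hUL hUA
  have hzr : orderOf z ∣ Nat.card Zs := by
    have := _root_.orderOf_dvd_natCard (⟨z, hz⟩ : Zs)
    rwa [← orderOf_coe] at this
  have hzp : (orderOf z).Coprime p :=
    (coprime_card_pgroup hr hp.out hrp hZr).coprime_dvd_left hzr
  have hzqd : orderOf (qx V z (hLN (hZL hz))) ∣ orderOf z :=
    (orderOf_map_dvd _ _).trans (by rw [Subgroup.orderOf_mk])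
  rw [qm_commutator hUN hzN, qm_zpowers (hLN (hZL hz))]
  refine fix_good hp.out (e := qx V e (hAV he)) (z := qx V z (hLN (hZL hz))) (X := qm V U)
    (V := qm V P) ?_ ?_ (hzp.coprime_dvd_left hzqd) ?_
    (isSolvable_qm hUN hUm.1) (isSolvable_qm hPN hPm.1)
    (qm_le_normalizer hUN heN (zpowers_le.2 (hUA he)) (qx_mem _ (mem_zpowers e)))
    (qm_le_normalizer hPN heN (zpowers_le.2 (hPA he)) (qx_mem _ (mem_zpowers e)))
    (qm_le_normalizer hPN hUN ((hUL.trans le_normalizer).trans hPn))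
    (qm_le_normalizer hUN hzN hzn (qx_mem _ (mem_zpowers z)))
    (qm_le_normalizer hPN hzN (((zpowers_le.2 (hZL hz)).trans le_normalizer).trans hPn)
      (qx_mem _ (mem_zpowers z)))
    (IsPGroup.coprime_card_of_ne t v hvt.symm _ _ (isPGroup_qm hUt) hPv)
    ((h.coprime_p hPm).coprime_dvd_left (card_qm_dvd P)) ?_ ?_
  · show (QuotientGroup.mk' (V.subgroupOf (normalizer (V : Set G))) ⟨e, hAV he⟩) ^ p = 1
    rw [← map_pow, show (⟨e, hAV he⟩ : ↥(normalizer (V : Set G))) ^ p = 1 from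
      Subtype.ext (by simpa using h.pow_point he), map_one]
  · show QuotientGroup.mk' _ _ * QuotientGroup.mk' _ _ = QuotientGroup.mk' _ _ * QuotientGroup.mk' _ _
    rw [← map_mul, ← map_mul]
    exact congrArg _ (Subtype.ext (mem_centralizer_singleton_iff.1 (hZe hz)))
  · exact ((IsPGroup.coprime_card_of_ne r t hrt _ _ hZr hUt).coprime_dvd_left
      (hzqd.trans hzr)).coprime_dvd_right (card_qm_dvd U)
  · rw [← centralizer_zpowers (qx V e (hAV he)), ← qm_zpowers (hAV he),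
      ← qm_fix hUN heN (zpowers_le.2 (hUA he)) (h.cop_sub hUm (zpowers_le.2 he))
        (h.solvable_sub (zpowers_le.2 he)), centralizer_zpowers, hfix, qm_eq_bot bot_le]
    exact bot_le
  · rw [← centralizer_zpowers (qx V e (hAV he)), ← qm_zpowers (hAV he),
      ← qm_fix hPN heN (zpowers_le.2 (hPA he)) (h.cop_sub hPm (zpowers_le.2 he))
        (h.solvable_sub (zpowers_le.2 he)), centralizer_zpowers]
    rintro _ ⟨y, hy, rfl⟩
    have hyn : (y : G) ∈ normalizer (Zs : Set G) := hst ⟨hPL hy.1, hy.2⟩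
    have hc : ⁅(y : G), z⁆ ∈ Zs := by
      rw [commutatorElement_def]
      exact mul_mem ((mem_normalizer_iff.1 hyn _).1 hz) (inv_mem hz)
    have h1 := qm_le_normalizer hUN (hZL.trans hLN) hZn (qx_mem (V := V) (hLN (hZL hc)) hc)
    have e1 : ⁅QuotientGroup.mk' (V.subgroupOf (normalizer (V : Set G))) y, qx V z (hLN (hZL hz))⁆ =
        qx V ⁅(y : G), z⁆ (hLN (hZL hc)) := by
      rw [qx, ← map_commutatorElement]; rfl
    rwa [e1]

/-- A foreign member lies in `O_t` of the members containing it and `C(e) ∩ Z(O_r(M))`. -/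
theorem foreign_le_core {M : Subgroup G} (hM : MaxMem p A θ M) {s : ℕ}
    (hs : s.Prime) (hs0 : Cfsg.pCoreOf s M ≠ ⊥) {W : Subgroup G} (hWP : W ≤ Cfsg.pCoreOf s M) {t : ℕ}
    (ht : t.Prime) (ht0 : Cfsg.pCoreOf t M = ⊥) {X : Subgroup G}
    (hX : X ∈ Cfsg.signalizerFamily p A θ) (hXt : IsPGroup t X) (hn : NormBy s W M X) {e : G}
    (he : e ∈ A) (he1 : e ≠ 1) (heM : θ e ≤ M) {r : ℕ} (hr : r.Prime)
    (hr0 : Cfsg.pCoreOf r M ≠ ⊥) {L : Subgroup G} (hL : L ∈ Cfsg.signalizerFamily p A θ)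
    (hXL : X ≤ L) (hZL : CenCore r M ⊓ centralizer ({e} : Set G) ≤ L) :
    X ≤ Cfsg.pCoreOf t L := by
  haveI := Fact.mk ht
  haveI := Fact.mk hr
  have hrt : r ≠ t := fun e => hr0 (e ▸ ht0)
  have hrp : r ≠ p := fun e => by
    subst e
    obtain ⟨n, hn'⟩ := IsPGroup.iff_card.1 (core_pgroup r M)
    have hne : n ≠ 0 := fun e => hr0 (card_eq_one.1 (by rw [hn', e, pow_zero]))
    exact hM.1.2.1 ((dvd_pow_self r hne).trans (hn' ▸ card_dvd_of_le (core_le r M)))
  set Z' := CenCore r M ⊓ centralizer ({e} : Set G)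
  have hZn : Z' ≤ normalizer (X : Set G) := inf_le_left.trans (h.cenCore_norm_in hr hWP hn)
  have h1 := h.comm_fix_le_core he hr hrp ht hrt hL hXL hXt (h.mem_inv hX)
    (h.foreign_fpf hM.1 hs hs0 hWP ht ht0 hX hXt hn he he1 heM)
    ((core_pgroup r M).to_le (inf_le_left.trans inf_le_left)) inf_le_right hZL hZn ?_
  swap
  · refine CfsgLib.Comp.le_normalizer_inf ?_ (inf_le_right.trans le_normalizer)
    exact ((h.point_le_theta hL he he1).trans heM).trans (cenCore_norm r M)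
  have h2 : ⁅X, Z'⁆ ⊔ (X ⊓ centralizer (Z' : Set G)) = X :=
    CfsgLib.Coprime.commutator_sup_centralizer hZn (IsPGroup.coprime_card_of_ne r t hrt _ _
      ((core_pgroup r M).to_le (inf_le_left.trans inf_le_left)) hXt) (Or.inr hX.1)
  rw [h.cenFix_fpf hM hs hs0 hWP ht ht0 hX hXt hn he he1 heM hr hr0, sup_bot_eq] at h2
  exact h2 ▸ h1

/-- Foreign members lie in every `θ(A)`-invariant largest `t`-member. -/
theorem foreign_le_prime {M : Subgroup G} (hM : MaxMem p A θ M) {s : ℕ}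
    (hs : s.Prime) (hs0 : Cfsg.pCoreOf s M ≠ ⊥) {W : Subgroup G} (hWP : W ≤ Cfsg.pCoreOf s M) {t : ℕ}
    (ht : t.Prime) (ht0 : Cfsg.pCoreOf t M = ⊥) {X : Subgroup G}
    (hX : X ∈ Cfsg.signalizerFamily p A θ) (hXt : IsPGroup t X) (hn : NormBy s W M X) {e : G}
    (he : e ∈ A) (he1 : e ≠ 1) (heM : θ e ≤ M) {Y : Subgroup G}
    (hall : ∀ U ∈ Cfsg.signalizerFamily p A θ, IsPGroup t U →
      Cfsg.signalizerInf A θ ≤ normalizer (U : Set G) → U ≤ Y) : X ≤ Y := by
  haveI := Fact.mk ht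
  haveI := Fact.mk hs
  have hst : s ≠ t := fun e => hs0 (e ▸ ht0)
  have hsp : s ≠ p := fun e => by
    subst e
    obtain ⟨n, hn'⟩ := IsPGroup.iff_card.1 (core_pgroup s M)
    have hne : n ≠ 0 := fun e => hs0 (card_eq_one.1 (by rw [hn', e, pow_zero]))
    exact hM.1.2.1 ((dvd_pow_self s hne).trans (hn' ▸ card_dvd_of_le (core_le s M)))
  set Z' := CenCore s M ⊓ centralizer ({e} : Set G) with hZ'
  have hZm : Z' ∈ Cfsg.signalizerFamily p A θ := h.cenFix_mem hM.1 s he
  have hfix := h.foreign_fpf hM.1 hs hs0 hWP ht ht0 hX hXt hn he he1 heM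
  have hZn : Z' ≤ normalizer (X : Set G) := inf_le_left.trans (h.cenCore_norm_in hs hWP hn)
  set R := ⨆ b : {b : G // b ∈ A ∧ b ≠ 1},
    ⁅X ⊓ centralizer ({(b : G)} : Set G), Z' ⊓ centralizer ({(b : G)} : Set G)⁆ with hR
  have hb : ∀ b : {b : G // b ∈ A ∧ b ≠ 1}, Z' ⊓ centralizer ({(b : G)} : Set G) ≤
      normalizer ((X ⊓ centralizer ({(b : G)} : Set G) : Subgroup G) : Set G) := fun b =>
    CfsgLib.Comp.le_normalizer_inf (inf_le_left.trans hZn) (inf_le_right.trans le_normalizer)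
  have hRX : R ≤ X := iSup_le fun b => (commutator_le_of_le_normalizer (hb b)).trans inf_le_left
  set R' := R ⊔ ⁅X, X⁆
  have hR'X : R' ≤ X := sup_le hRX (commutator_le_self X)
  have hRY : R ≤ Y := by
    refine iSup_le fun b => ?_
    have hU := h.inf_cent_mem hX b.2.1
    refine (h.comm_fix_le_core he hs hsp ht hst (h.theta_mem b.2.1 b.2.2)
      (h.point_le_theta hX b.2.1 b.2.2) (hXt.to_le inf_le_left) (h.mem_inv hU) ?_
      ((core_pgroup s M).to_le ((inf_le_left.trans inf_le_left).trans inf_le_left))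
      (inf_le_left.trans inf_le_right)
      (h.point_le_theta hZm b.2.1 b.2.2) (hb b) ?_).trans ?_
    · exact le_bot_iff.1 ((inf_le_inf_right _ inf_le_left).trans hfix.le)
    · refine CfsgLib.Comp.le_normalizer_inf (CfsgLib.Comp.le_normalizer_inf ?_ (inf_le_right.trans le_normalizer))
        ((inf_le_left.trans (h.theta_le_cent b.2.1 b.2.2)).trans le_normalizer)
      exact ((h.point_le_theta (h.theta_mem b.2.1 b.2.2) he he1).trans heM).trans (cenCore_norm s M)
    · exact hall _ (h.core_mem (h.theta_mem b.2.1 b.2.2) t) (core_pgroup t _)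
        (h.theta_norm_core b.2.1 b.2.2 le_rfl t)
  have hXR : X ≤ normalizer (R' : Set G) := by
    rw [le_normalizer_iff_commutator_le_left]
    exact (commutator_mono hR'X le_rfl).trans le_sup_right
  have hpiece : ∀ B : {B : Subgroup G // Line p A B},
      ⁅X, Z' ⊓ centralizer ((B : Subgroup G) : Set G)⁆ ≤ R' := by
    intro B
    conv_lhs => arg 1; rw [← h.line_gen hX.2.1 B.2 (B.2.1.trans (h.mem_inv hX))]
    refine commutator_iSup_le (fun c => inf_le_left.trans hXR) fun c => ?_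
    exact (commutator_mono le_rfl (inf_le_inf_left _
      (centralizer_le (Set.singleton_subset_iff.2 c.2.1)))).trans
      (le_trans (le_iSup (fun b : {b : G // b ∈ A ∧ b ≠ 1} =>
        ⁅X ⊓ centralizer ({(b : G)} : Set G), Z' ⊓ centralizer ({(b : G)} : Set G)⁆)
        ⟨c, B.2.1 c.2.1, c.2.2⟩) le_sup_left)
  have hZR : ∀ B : {B : Subgroup G // Line p A B},
      Z' ⊓ centralizer ((B : Subgroup G) : Set G) ≤ normalizer (R' : Set G) := by
    intro B z hz
    have key : ∀ z ∈ Z' ⊓ centralizer ((B : Subgroup G) : Set G),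
        R'.map (MulAut.conj z).toMonoidHom ≤ R' := by
      rintro z hz _ ⟨u, hu, rfl⟩
      have h1 : ⁅u, z⁆ ∈ R' := hpiece B (commutator_mem_commutator (hR'X hu) hz)
      have e : MulAut.conj z u = ⁅u, z⁆⁻¹ * u := by
        rw [MulAut.conj_apply, commutatorElement_def]; group
      show MulAut.conj z u ∈ R'
      rw [e]
      exact mul_mem (inv_mem h1) hu
    rw [← map_conj_eq_iff]
    refine le_antisymm (key z hz) fun y hy => ?_
    exact ⟨_, key z⁻¹ (inv_mem hz) (mem_map_of_mem _ hy), by simp [mul_assoc]⟩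
  have hZX : ⁅X, Z'⁆ ≤ R' := by
    rw [commutator_comm, h.mem_gen hZm]
    exact commutator_iSup_le hZR fun B => by rw [commutator_comm]; exact hpiece B
  have h2 : ⁅X, Z'⁆ ⊔ (X ⊓ centralizer (Z' : Set G)) = X :=
    CfsgLib.Coprime.commutator_sup_centralizer hZn (IsPGroup.coprime_card_of_ne s t hst _ _
      ((core_pgroup s M).to_le (inf_le_left.trans inf_le_left)) hXt) (Or.inr hX.1)
  rw [h.cenFix_fpf hM hs hs0 hWP ht ht0 hX hXt hn he he1 heM hs hs0, sup_bot_eq] at h2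
  rw [h2] at hZX
  exact (CfsgLib.FixedSpace.le_of_sup_commutator hXt hRX hZX).trans hRY

/-- `C_X(b) ≤ O_t(θ b)` for foreign `X`. -/
theorem foreign_piece_le {M : Subgroup G} (hM : MaxMem p A θ M) (hMm : Multi M)
    {s : ℕ} (hs : s.Prime) (hs0 : Cfsg.pCoreOf s M ≠ ⊥) {W : Subgroup G}
    (hWP : W ≤ Cfsg.pCoreOf s M) {t : ℕ} (ht : t.Prime) (ht0 : Cfsg.pCoreOf t M = ⊥)
    {X : Subgroup G} (hX : X ∈ Cfsg.signalizerFamily p A θ) (hXt : IsPGroup t X)
    (hn : NormBy s W M X) {e : G} (he : e ∈ A) (he1 : e ≠ 1) (heM : θ e ≤ M)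
    {b : G} (hb : b ∈ A) (hb1 : b ≠ 1) :
    X ⊓ centralizer ({b} : Set G) ≤ Cfsg.pCoreOf t (θ b) := by
  have hL := h.theta_mem hb hb1
  refine le_core_test ht hL.1 (h.point_le_theta hX hb hb1) (hXt.to_le inf_le_left)
    fun v hv hvt P hPL hPn hVP hPv => ?_
  haveI := Fact.mk ht
  haveI := Fact.mk hv
  -- two primes of `F(M)`, one of them outside `{t, v}`, the other one `v` if possible
  obtain ⟨r, q, hr, hq, hr0, hq0, hqr, hqv, hqt⟩ : ∃ r q : ℕ, r.Prime ∧ q.Prime ∧
      Cfsg.pCoreOf r M ≠ ⊥ ∧ Cfsg.pCoreOf q M ≠ ⊥ ∧ q ≠ r ∧ q ≠ v ∧ q ≠ t := by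
    by_cases hv0 : Cfsg.pCoreOf v M = ⊥
    · obtain ⟨q, r, hq, hr, hne, hq0, hr0⟩ := hMm
      exact ⟨r, q, hr, hq, hr0, hq0, hne, fun e => hq0 (e ▸ hv0), fun e => hq0 (e ▸ ht0)⟩
    · obtain ⟨q, hq, hqv, hq0⟩ := exists_ne_of_multi hMm v
      exact ⟨v, q, hv, hq, hv0, hq0, hqv, hqv, fun e => hq0 (e ▸ ht0)⟩
  obtain ⟨a₀, ha₀, ha₀1, hqd⟩ :=
    h.exists_prime_dvd_theta hq (h.core_mem hM.1 q) (core_pgroup q M) hq0
  set σ : Set ℕ := {t, v, r}
  obtain ⟨Y, hY, -, -, hYall⟩ :=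
    h.exists_sigma_member σ hq (by simp [σ, hqt, hqv, hqr]) ha₀ ha₀1 hqd
  obtain ⟨Yt, hYt, hYts, hYtD, hYtall, -⟩ := h.exists_prime_member ht
  have hYtY : Yt ≤ Y := hYall Yt hYt (piGroup_of_pgroup ht (by simp [σ]) hYts) hYtD
  have hXY : X ≤ Y :=
    (h.foreign_le_prime hM hs hs0 hWP ht ht0 hX hXt hn he he1 heM hYtall).trans hYtY
  have hZY : CenCore r M ⊓ centralizer ({e} : Set G) ≤ Y :=
    hYall _ (h.cenFix_mem hM.1 r he) (piGroup_of_pgroup hr (by simp [σ])
      ((core_pgroup r M).to_le (inf_le_left.trans inf_le_left))) (h.cenFix_D_norm he he1 heM r)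
  have hXK := h.foreign_le_core hM hs hs0 hWP ht ht0 hX hXt hn he he1 heM hr hr0 hY hXY hZY
  have hLN := core_norm t (θ b)
  have hPY : P ≤ Y := by
    refine hYall P (family_mono hL hPL ((h.mem_inv hL).trans hPn)) (fun x hx hxd => ?_)
      (((h.D_le hb hb1).trans le_normalizer).trans hPn)
    rw [← card_qm hVP (hPL.trans hLN)] at hxd
    rcases hx.dvd_mul.1 hxd with hd | hd
    · exact piGroup_of_pgroup hv (by simp [σ]) (hPv) x hx hd
    · exact piGroup_of_pgroup ht (by simp [σ]) (core_pgroup t (θ b)) x hx hd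
  set U := X ⊓ centralizer ({b} : Set G)
  have hUL : U ≤ θ b := h.point_le_theta hX hb hb1
  rw [← commutator_eq_bot_iff_le_centralizer, ← qm_commutator (hUL.trans hLN) (hPL.trans hLN)]
  refine le_bot_iff.1 ((qm_mono (K := P ⊓ Cfsg.pCoreOf t Y) (le_inf ?_ ?_)).trans
    (qm_eq_bot_of_pgroup ht hv hvt inf_le_left ((core_pgroup t Y).to_le inf_le_right) hPv).le)
  · rw [commutator_comm]
    exact commutator_le_of_le_normalizer ((hUL.trans le_normalizer).trans hPn)
  · exact (commutator_mono (inf_le_left.trans hXK) le_rfl).trans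
      (commutator_le_of_le_normalizer (hPY.trans (core_norm t Y)))

/-- The maximal members with two primes in the Fitting subgroup satisfy `NF`. -/
theorem nf {M : Subgroup G} (hM : MaxMem p A θ M) (hMm : Multi M) {e : G}
    (he : e ∈ A) (he1 : e ≠ 1) (heM : θ e ≤ M) : NF p A θ M := by
  intro t ht ht0 X hX hXt hXn
  haveI := Fact.mk ht
  obtain ⟨s, -, hs, -, -, hs0, -⟩ := id hMm
  obtain ⟨Y, hY, hYt, -, hYall, -⟩ := h.exists_prime_member ht
  set X' := sSup {Q : Subgroup G | Q ≤ Y ∧ Fit M ≤ normalizer (Q : Set G)} with hX'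
  have hX'Y : X' ≤ Y := sSup_le fun Q hQ => hQ.1
  have hFA : A ≤ normalizer (Fit M : Set G) := fit_inv (h.mem_inv hM.1)
  have hX'A : A ≤ normalizer (X' : Set G) := by
    refine le_normalizer_sSup _ fun a ha Q hQ =>
      ⟨(map_mono hQ.1).trans (map_conj_eq_iff.2 (h.mem_inv hY ha)).le, ?_⟩
    rw [← map_conj_eq_iff.2 (hFA ha)]
    exact (map_mono hQ.2).trans (le_normalizer_map (MulAut.conj a).toMonoidHom)
  have hX'F : Fit M ≤ normalizer (X' : Set G) := by
    intro f hf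
    have key : ∀ f ∈ Fit M, X'.map (MulAut.conj f).toMonoidHom ≤ X' := by
      intro f hf
      rw [hX', Subgroup.map_le_iff_le_comap]
      refine sSup_le fun Q hQ => ?_
      rw [← Subgroup.map_le_iff_le_comap, map_conj_eq_iff.2 (hQ.2 hf)]
      exact le_sSup hQ
    rw [← map_conj_eq_iff]
    refine le_antisymm (key f hf) fun y hy => ?_
    exact ⟨_, key f⁻¹ (inv_mem hf) (mem_map_of_mem _ hy), by simp [mul_assoc]⟩
  have hXX' : X ≤ X' := le_sSup ⟨h.foreign_le_prime hM hs hs0 le_rfl ht ht0 hX hXt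
    (normBy_of_fit hs hXn) he he1 heM hYall, hXn⟩
  have hX'm : X' ∈ Cfsg.signalizerFamily p A θ := family_mono hY hX'Y hX'A
  have hX't : IsPGroup t X' := hYt.to_le hX'Y
  have hnb := normBy_of_fit (s := s) hs hX'F
  by_contra hX0
  have hX'0 : X' ≠ ⊥ := fun e => hX0 (le_bot_iff.1 (e ▸ hXX'))
  have hMX' : M ≤ normalizer (X' : Set G) := by
    rw [h.mem_gen hM.1]
    refine iSup_le fun B l hl => ?_
    have key : ∀ l ∈ M ⊓ centralizer ((B : Subgroup G) : Set G),
        X'.map (MulAut.conj l).toMonoidHom ≤ X' := by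
      intro l hl
      refine le_sSup ⟨?_, ?_⟩
      · conv_lhs => rw [← h.line_gen hX'm.2.1 B.2 (B.2.1.trans hX'A), Subgroup.map_iSup]
        refine iSup_le fun c => ?_
        have hcA : (c : G) ∈ A := B.2.1 c.2.1
        have hlc : l ∈ θ c := h.piece_le_theta hM.1 B.2.1 c.2.1 c.2.2 hl
        refine ((map_mono (h.foreign_piece_le hM hMm hs hs0 le_rfl ht ht0 hX'm hX't hnb he he1
          heM hcA c.2.2)).trans (map_conj_eq_iff.2 (core_norm t _ hlc)).le).trans ?_
        exact hYall _ (h.core_mem (h.theta_mem hcA c.2.2) t) (core_pgroup t _)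
          (h.theta_norm_core hcA c.2.2 le_rfl t)
      · rw [← map_conj_eq_iff.2 (fit_inv le_normalizer hl.1)]
        exact (map_mono hX'F).trans (le_normalizer_map (MulAut.conj l).toMonoidHom)
    rw [← map_conj_eq_iff]
    refine le_antisymm (key l hl) fun y hy => ?_
    exact ⟨_, key l⁻¹ (inv_mem hl) (mem_map_of_mem _ hy), by simp [mul_assoc]⟩
  exact hX'0 (h.foreign_part_eq_bot hM.1 hs hs0 le_rfl ht ht0 hX't hnb le_rfl
    (h.le_max_of_norm hM hX'm hX'0 hMX' hX'm le_normalizer))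

/-- Uniqueness: a member containing the parts of `M` lies in `M`. -/
theorem le_of_partIn {M : Subgroup G} (hM : MaxMem p A θ M) (hMm : Multi M)
    {e : G} (he : e ∈ A) (he1 : e ≠ 1) (heM : θ e ≤ M) {s : ℕ} (hs : s.Prime)
    (hs0 : Cfsg.pCoreOf s M ≠ ⊥) {W : Subgroup G} (hWP : W ≤ Cfsg.pCoreOf s M) {H : Subgroup G}
    (hH : H ∈ Cfsg.signalizerFamily p A θ) (hin : PartIn s W M H) : H ≤ M := by
  obtain ⟨H₀, hH₀, hle⟩ := h.exists_max hH
  have hin₀ : PartIn s W M H₀ :=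
    ⟨fun r hr hrs => (hin.1 r hr hrs).trans hle, hin.2.1.trans hle, hin.2.2.trans hle⟩
  refine hle.trans (h.bender_eq hM hH₀ hMm hs hWP hin₀ fun t ht ht0 => ?_).le
  haveI := Fact.mk ht
  set X := Cfsg.pCoreOf t H₀
  have hX : X ∈ Cfsg.signalizerFamily p A θ := h.core_mem hH₀.1 t
  have hXt : IsPGroup t X := core_pgroup t H₀
  have hn : NormBy s W M X := normBy_core hin₀
  obtain ⟨q, hq, hqs, hq0⟩ := exists_ne_of_multi hMm s
  obtain ⟨a₀, ha₀, ha₀1, hqd⟩ :=
    h.exists_prime_dvd_theta hq (h.core_mem hM.1 q) (core_pgroup q M) hq0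
  set σ : Set ℕ := {s, t}
  obtain ⟨Y, hY, -, -, hYall⟩ := h.exists_sigma_member σ hq
    (by simp [σ, hqs, show q ≠ t from fun e => hq0 (e ▸ ht0)]) ha₀ ha₀1 hqd
  obtain ⟨Yt, hYt, hYts, hYtD, hYtall, -⟩ := h.exists_prime_member ht
  have hXY : X ≤ Y := (h.foreign_le_prime hM hs hs0 hWP ht ht0 hX hXt hn he he1 heM hYtall).trans
    (hYall Yt hYt (piGroup_of_pgroup ht (by simp [σ]) hYts) hYtD)
  set P := Cfsg.pCoreOf s M
  have hPY : P ≤ Y := hYall P (h.core_mem hM.1 s) (piGroup_of_pgroup hs (by simp [σ])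
    (core_pgroup s M)) (h.theta_norm_core he he1 heM s)
  have hXK := h.foreign_le_core hM hs hs0 hWP ht ht0 hX hXt hn he he1 heM hs hs0 hY hXY
    ((inf_le_left.trans inf_le_left).trans hPY)
  set X' := ⨆ g : P, X.map (MulAut.conj (g : G)).toMonoidHom with hX'
  have hX'K : X' ≤ Cfsg.pCoreOf t Y := iSup_le fun g =>
    (map_mono hXK).trans (map_conj_eq_iff.2 (core_norm t Y (hPY g.2))).le
  have hX'A : A ≤ normalizer (X' : Set G) := by
    rw [hX', iSup]
    refine le_normalizer_sSup _ ?_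
    rintro a ha _ ⟨g, rfl⟩
    refine ⟨⟨a * g * a⁻¹, (mem_normalizer_iff.1 (h.mem_inv (h.core_mem hM.1 s) ha) _).1 g.2⟩, ?_⟩
    show X.map (MulAut.conj (a * g * a⁻¹)).toMonoidHom = _
    conv_lhs => rw [← map_conj_eq_iff.2 (h.mem_inv hX ha), ← map_conj_mul, inv_mul_cancel_right,
      map_conj_mul]
  have hX'F : Fit M ≤ normalizer (X' : Set G) := by
    refine iSup_le fun r => ?_
    by_cases hrs : (r : ℕ) = s
    · rw [hrs, hX', iSup]
      refine le_normalizer_sSup _ ?_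
      rintro g₁ hg₁ _ ⟨g, rfl⟩
      exact ⟨⟨g₁ * g, mul_mem hg₁ g.2⟩, map_conj_mul X g₁ g⟩
    · rw [hX']
      refine le_normalizer_iSup _ fun g x hx => ?_
      rw [← map_conj_eq_iff, ← map_conj_mul,
        show x * (g : G) = (g : G) * x from
          (mem_centralizer_iff.1 (core_commute r.2 hs hrs M hx) _ g.2).symm,
        map_conj_mul, map_conj_eq_iff.2 (hn.1 r r.2 hrs hx)]
  have hX'0 := h.nf hM hMm he he1 heM t ht ht0 X' (family_mono hY (hX'K.trans (core_le t Y)) hX'A)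
    ((core_pgroup t Y).to_le hX'K) hX'F
  rw [← le_bot_iff, ← hX'0]
  exact (map_conj_one X).ge.trans
    (le_iSup (fun g : P => X.map (MulAut.conj (g : G)).toMonoidHom) 1)

/-- The members normalizing a nontrivial part of `O_s(M)` lie in `M`. -/
theorem le_of_norm_part {M : Subgroup G} (hM : MaxMem p A θ M) (hMm : Multi M)
    {e : G} (he : e ∈ A) (he1 : e ≠ 1) (heM : θ e ≤ M) {s : ℕ} (hs : s.Prime) {W : Subgroup G}
    (hWP : W ≤ Cfsg.pCoreOf s M) (hW0 : W ≠ ⊥) (hWA : A ≤ normalizer (W : Set G)) {X : Subgroup G}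
    (hX : X ∈ Cfsg.signalizerFamily p A θ) (hXW : X ≤ normalizer (W : Set G)) : X ≤ M := by
  have hWm : W ∈ Cfsg.signalizerFamily p A θ :=
    family_mono hM.1 (hWP.trans (core_le s M)) hWA
  obtain ⟨N, hN, -, hall⟩ := h.nl W hWm hW0
  refine (hall X hX hXW).trans (h.le_of_partIn hM hMm he he1 heM hs (core_ne_bot_iff hW0 hWP)
    hWP hN ⟨fun r hr hrs => hall _ (h.core_mem hM.1 r) ?_, hall W hWm le_normalizer,
      hall _ (family_mono (h.core_mem hM.1 s) inf_le_left ?_) ?_⟩)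
  · exact ((core_commute hr hs hrs M).trans (centralizer_le hWP)).trans (centralizer_le_normalizer _)
  · exact CfsgLib.Comp.le_normalizer_inf (h.mem_inv (h.core_mem hM.1 s))
      (CfsgLib.Comp.le_normalizer_centralizer hWA)
  · exact inf_le_right.trans (centralizer_le_normalizer _)

/-- Two such maximal members sharing a part are equal. -/
theorem eq_of_common {M M' : Subgroup G} (hM : MaxMem p A θ M) (hMm : Multi M)
    {e : G} (he : e ∈ A) (he1 : e ≠ 1) (heM : θ e ≤ M) (hM' : MaxMem p A θ M') (hMm' : Multi M')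
    {e' : G} (he' : e' ∈ A) (he'1 : e' ≠ 1) (he'M : θ e' ≤ M') {s : ℕ} (hs : s.Prime)
    {W : Subgroup G} (hW : W ≤ Cfsg.pCoreOf s M) (hW' : W ≤ Cfsg.pCoreOf s M') (hW0 : W ≠ ⊥)
    (hWA : A ≤ normalizer (W : Set G)) : M' = M := by
  refine (hM'.2 M hM.1 (h.le_of_partIn hM hMm he he1 heM hs (core_ne_bot_iff hW0 hW) hW hM'.1
    ⟨fun r hr hrs => h.le_of_norm_part hM' hMm' he' he'1 he'M hs hW' hW0 hWA
      (h.core_mem hM.1 r) (((core_commute hr hs hrs M).trans (centralizer_le hW)).trans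
        (centralizer_le_normalizer _)), hW'.trans (core_le s M'),
      h.le_of_norm_part hM' hMm' he' he'1 he'M hs hW' hW0 hWA
        (family_mono (h.core_mem hM.1 s) inf_le_left (CfsgLib.Comp.le_normalizer_inf
          (h.mem_inv (h.core_mem hM.1 s)) (CfsgLib.Comp.le_normalizer_centralizer hWA)))
        (inf_le_right.trans (centralizer_le_normalizer _))⟩)).symm

/-! ### Points whose member is maximal -/

/-- If `θ a` is maximal, `a` centralizes the `θ(A)`-invariant largest `s`-member, `s` in `π(F(θ a))`. -/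
theorem cent_prime_member {a : G} (ha : a ∈ A) (ha1 : a ≠ 1) (hmax : MaxMem p A θ (θ a)) {s : ℕ}
    (hs : s.Prime) (hs0 : Cfsg.pCoreOf s (θ a) ≠ ⊥) {Y : Subgroup G}
    (hY : Y ∈ Cfsg.signalizerFamily p A θ) (hYs : IsPGroup s Y)
    (hPY : Cfsg.pCoreOf s (θ a) ≤ Y) : Y ≤ centralizer ({a} : Set G) := by
  haveI := Fact.mk hs
  set P := Cfsg.pCoreOf s (θ a)
  have hPm := h.core_mem hmax.1 s
  rw [← centralizer_zpowers a, le_centralizer_iff]
  refine CfsgLib.Comp.le_centralizer_of_centralizes_fixed (p := s) hYs (core_pgroup s _)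
    (coprime_card_pgroup hp.out hs (fun e => ?_) ?_) (hPY.trans le_normalizer)
    ((zpowers_le.2 ha).trans (h.mem_inv hY)) ?_ ?_
  · subst e
    obtain ⟨n, hn⟩ := IsPGroup.iff_card.1 (core_pgroup p (θ a))
    have hne : n ≠ 0 := fun e => hs0 (card_eq_one.1 (by rw [hn, e, pow_zero]))
    exact hmax.1.2.1 ((dvd_pow_self p hne).trans (hn ▸ card_dvd_of_le (core_le p _)))
  · exact IsPGroup.of_card (n := 1) (by rw [Nat.card_zpowers, h.orderOf_point ha ha1, pow_one])
  · rw [le_centralizer_iff, centralizer_zpowers]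
    exact (core_le s _).trans (h.theta_le_cent ha ha1)
  · rw [le_centralizer_iff, centralizer_zpowers]
    refine le_trans (h.le_max_of_norm hmax hPm hs0 (core_norm s _) (family_mono hY inf_le_left
      (CfsgLib.Comp.le_normalizer_inf (h.mem_inv hY)
        (CfsgLib.Comp.le_normalizer_centralizer (h.mem_inv hPm))))
      (inf_le_right.trans (centralizer_le_normalizer _))) (h.theta_le_cent ha ha1)

end Min

end CfsgLib.Comp.SFT
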