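import Cfsg.Agent.Lib.Comp.SFT.NoShare

/-!
No maximal member over a point has a Fitting subgroup of odd prime power order.
-/

set_option autoImplicit false
set_option linter.style.haveILetI false
set_option linter.unusedSectionVars false

universe u

namespace CfsgLib.Comp.SFT

open Subgroup
open scoped commutatorElement

variable {G : Type u} [Group G] [Finite G] {p : ℕ} [hp : Fact p.Prime]
  {A : Subgroup G} {θ : G → Subgroup G}

theorem le_normalizer_iInf {ι : Sort*} {M : Subgroup G} (f : ι → Subgroup G)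
    (h : ∀ i, M ≤ normalizer (f i : Set G)) :
    M ≤ normalizer ((⨅ i, f i : Subgroup G) : Set G) := fun m hm => mem_normalizer_iff.2 fun y => by
  simp only [mem_iInf]
  exact forall_congr' fun i => mem_normalizer_iff.1 (h i hm) y

/-- Every maximal member over `θ c` is a single `s`-member. -/
def Moved (p : ℕ) (A : Subgroup G) (θ : G → Subgroup G) (s : ℕ) (c : G) : Prop :=
  c ∈ A ∧ c ≠ 1 ∧ ∀ L, MaxMem p A θ L → θ c ≤ L → Single s L

namespace Min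

variable (h : Min p A θ)

include h

/-- No single `s`-member lies over a point, `s` odd. -/
theorem no_odd_single {s : ℕ} (hs : s.Prime) (hs2 : s ≠ 2) {e : G} (he : e ∈ A) (he1 : e ≠ 1)
    {L₀ : Subgroup G} (hL₀ : MaxMem p A θ L₀) (heL₀ : θ e ≤ L₀) (hL₀s : Single s L₀) : False := by
  haveI := Fact.mk hs
  obtain ⟨J₀, hJ₀, hJ₀s⟩ : ∃ J, Line p A J ∧ ∀ c ∈ J, c ≠ 1 → Moved p A θ s c := by
    obtain ⟨J, hJ, hU0⟩ := h.exists_piece (R := ⊥) (h.core_mem hL₀.1 s) he he1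
      fun e' => h.comm_single_ne_bot hL₀ hL₀s he he1 (le_bot_iff.1 e')
    refine ⟨J, hJ, fun c hc hc1 => ⟨hJ.1 hc, hc1, fun Lc hLc hcLc => ?_⟩⟩
    set X := Cfsg.pCoreOf s L₀ ⊓ centralizer (J : Set G)
    set U := ⁅X, zpowers e⁆
    have hXA : A ≤ normalizer (X : Set G) := h.inv_cent_inf (h.mem_inv (h.core_mem hL₀.1 s)) hJ.1
    have hUX : U ≤ X := commutator_le_of_le_normalizer ((zpowers_le.2 he).trans hXA)
    have hUabs : Absorbed p A θ s U :=
      h.absorbed_comm hs hL₀.1 he he1 heL₀ (Or.inl hs2) inf_le_left hXA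
    have hULc : U ≤ Cfsg.pCoreOf s Lc :=
      hUabs Lc hLc.1 ((hUX.trans (h.piece_le_theta (h.core_mem hL₀.1 s) hJ.1 hc hc1)).trans hcLc)
    rcases single_or_multi hLc.1.1 (h.max_ne_bot hLc) with hm | ⟨q, hq, hq'⟩
    · refine (h.no_share hs hs2 hLc hm (hJ.1 hc) hc1 hcLc hJ (fun e' => hU0 e'.le) hULc
        (hUX.trans inf_le_right) (h.inv_comm hXA (zpowers_le.2 he)) ?_ hUabs).elim
      exact h.norm_comm_point (CfsgLib.Comp.le_normalizer_inf (h.theta_norm_core he he1 heL₀ s)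
        (h.D_norm_cent hJ.1)) ((h.D_le he he1).trans (h.theta_le_cent he he1))
    · by_cases hqs : s = q
      · exact hqs ▸ hq'
      · exact absurd (hULc.trans (hq'.2 s hs hqs).le) hU0
  -- the intersection of the cores
  let 𝓛 := {L : Subgroup G // MaxMem p A θ L ∧ Single s L ∧ ∃ a ∈ A, a ≠ 1 ∧ θ a ≤ L}
  set I := ⨅ L : 𝓛, Cfsg.pCoreOf s (L : Subgroup G)
  have hIA : A ≤ normalizer (I : Set G) :=
    le_normalizer_iInf _ fun L => core_inv (h.mem_inv L.2.1.1)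
  have hILe : I ≤ Cfsg.pCoreOf s L₀ := iInf_le (fun L : 𝓛 => Cfsg.pCoreOf s (L : Subgroup G))
    ⟨L₀, hL₀, hL₀s, e, he, he1, heL₀⟩
  have hIm : I ∈ Cfsg.signalizerFamily p A θ := family_mono (h.core_mem hL₀.1 s) hILe hIA
  have hpush : ∀ T ∈ Cfsg.signalizerFamily p A θ, IsPGroup s T →
      Cfsg.signalizerInf A θ ≤ normalizer (T : Set G) → Absorbed p A θ s T → T ≤ I :=
    fun T hT hTs hTD hTabs => le_iInf fun L => h.pushing hs hT hTs hTD hTabs L.2.1 L.2.2.1.2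
  have hIT : ∀ c, Moved p A θ s c → ∃ L, MaxMem p A θ L ∧ θ c ≤ L ∧
      ⁅Cfsg.pCoreOf s L, zpowers c⁆ ≠ ⊥ ∧ ⁅Cfsg.pCoreOf s L, zpowers c⁆ ≤ I := by
    rintro c ⟨hc, hc1, hcs⟩
    obtain ⟨L, hL, hcL⟩ := h.exists_max (h.theta_mem hc hc1)
    have hLs := hcs L hL hcL
    exact ⟨L, hL, hcL, h.comm_single_ne_bot hL hLs hc hc1,
      hpush _ (h.comm_mem (h.core_mem hL.1 s) (zpowers_le.2 hc)) (h.comm_core_pgroup hL.1 hc)
        (h.D_norm_comm_core hc hc1 hcL s)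
        (h.absorbed_comm hs hL.1 hc hc1 hcL (Or.inl hs2) le_rfl (h.mem_inv (h.core_mem hL.1 s)))⟩
  obtain ⟨c₀, hc₀, hc₀1⟩ := exists_mem_ne_one (h.line_ne_bot hJ₀)
  have hI0 : I ≠ ⊥ := fun e0 => by
    obtain ⟨L, -, -, h0, hle⟩ := hIT c₀ (hJ₀s c₀ hc₀ hc₀1)
    exact h0 (le_bot_iff.1 (e0 ▸ hle))
  have hID : Cfsg.signalizerInf A θ ≤ normalizer (I : Set G) := le_normalizer_iInf _ fun L => by
    obtain ⟨-, -, a, ha, ha1, haL⟩ := L.2
    exact h.theta_norm_core ha ha1 haL s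
  -- subgroups of `I` are absorbed
  have hIabs : ∀ U ≤ I, Absorbed p A θ s U := fun U hUI H hH hUH => by
    refine h.core_of_cover hs hH hUH ((core_pgroup s L₀).to_le (hUI.trans hILe))
      (fun d : {d : G // d ∈ J₀ ∧ d ≠ 1} => zpowers (d : G)) (h.gen_points hJ₀) fun d => ?_
    obtain ⟨L', hL', hdL'⟩ := h.exists_max (h.theta_mem (hJ₀.1 d.2.1) d.2.2)
    have hL's := (hJ₀s d d.2.1 d.2.2).2.2 L' hL' hdL'
    refine ⟨Cfsg.pCoreOf s L', core_pgroup s L', hUI.trans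
      (iInf_le (fun L : 𝓛 => Cfsg.pCoreOf s (L : Subgroup G))
        ⟨L', hL', hL's, d, hJ₀.1 d.2.1, d.2.2, hdL'⟩), ?_⟩
    rw [centralizer_zpowers]
    exact ((h.point_le_theta hH (hJ₀.1 d.2.1) d.2.2).trans hdL').trans (core_norm s L')
  -- points outside are fixed-point-free on `I`
  have hfpf : ∀ c ∈ A, c ≠ 1 → ¬ Moved p A θ s c → I ⊓ centralizer ({c} : Set G) = ⊥ := by
    intro c hc hc1 hcS
    by_contra hU0
    set U := I ⊓ centralizer ({c} : Set G)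
    have hUm : U ∈ Cfsg.signalizerFamily p A θ := h.inf_cent_mem hIm hc
    obtain ⟨L, hL, hcL, hLs⟩ : ∃ L, MaxMem p A θ L ∧ θ c ≤ L ∧ ¬ Single s L := by
      by_contra hcon
      push Not at hcon
      exact hcS ⟨hc, hc1, hcon⟩
    have hUcore : U ≤ Cfsg.pCoreOf s L :=
      hIabs U inf_le_left L hL.1 ((h.point_le_theta hIm hc hc1).trans hcL)
    rcases single_or_multi hL.1.1 (h.max_ne_bot hL) with hm | ⟨q, hq, hq'⟩
    · obtain ⟨B, hB, hU'0⟩ : ∃ B : Subgroup G, Line p A B ∧ U ⊓ centralizer (B : Set G) ≠ ⊥ := by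
        by_contra hcon
        push Not at hcon
        exact hU0 (le_bot_iff.1 ((h.mem_gen hUm).le.trans (iSup_le fun B => (hcon B B.2).le)))
      refine h.no_share hs hs2 hL hm hc hc1 hcL hB hU'0 (inf_le_left.trans hUcore) inf_le_right
        (h.inv_cent_inf (h.mem_inv hUm) hB.1) ?_ (hIabs _ (inf_le_left.trans inf_le_left))
      refine CfsgLib.Comp.le_normalizer_inf (CfsgLib.Comp.le_normalizer_inf hID ?_) (h.D_norm_cent hB.1)
      rw [← centralizer_zpowers c]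
      exact h.D_norm_cent (zpowers_le.2 hc)
    · exact hU0 (le_bot_iff.1 (hUcore.trans (hq'.2 s hs fun e' => hLs (e' ▸ hq')).le))
  refine h.no_normal hIm hI0 fun B hB => ?_
  -- two independent points on `B`
  obtain ⟨c₁, hc₁, hc₁S⟩ : ∃ c ∈ B, Moved p A θ s c := by
    by_contra hcon
    push Not at hcon
    refine hI0 (le_bot_iff.1 ((h.line_gen hIm.2.1 hB (hB.1.trans hIA)).ge.trans (iSup_le fun c => ?_)))
    exact (hfpf c (hB.1 c.2.1) c.2.2 (hcon c c.2.1)).le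
  obtain ⟨c₂, hc₂, hc₂S, hc₁₂⟩ : ∃ c ∈ B, Moved p A θ s c ∧ c ∉ zpowers c₁ := by
    by_contra hcon
    push Not at hcon
    obtain ⟨L, hL, hcL, h0, hle⟩ := hIT c₁ hc₁S
    refine h0 ?_
    rw [← h.comm_comm (h.core_mem hL.1 s) (zpowers_le.2 hc₁S.1), commutator_eq_bot_iff_le_centralizer]
    refine hle.trans ((h.line_gen hIm.2.1 hB (hB.1.trans hIA)).ge.trans (iSup_le fun c => ?_))
    by_cases hcS : Moved p A θ s c
    · have hm := hcon c c.2.1 hcS
      rw [← centralizer_zpowers (c : G), h.zpowers_eq_of_mem hc₁S.1 hc₁S.2.1 c.2.2 hm]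
      exact inf_le_right
    · rw [hfpf c (hB.1 c.2.1) c.2.2 hcS]; exact bot_le
  set Δ := ⨅ L : {L : 𝓛 // ∃ a ∈ B, a ≠ 1 ∧ θ a ≤ (L : Subgroup G)},
    Cfsg.pCoreOf s ((L : 𝓛) : Subgroup G) with hΔ
  have hΔA : A ≤ normalizer (Δ : Set G) :=
    le_normalizer_iInf _ fun L => core_inv (h.mem_inv L.1.2.1.1)
  have hΔD : Cfsg.signalizerInf A θ ≤ normalizer (Δ : Set G) := le_normalizer_iInf _ fun L => by
    obtain ⟨a, ha, ha1, haL⟩ := L.2
    exact h.theta_norm_core (hB.1 ha) ha1 haL s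
  have hΔn : Cfsg.signalizerInf B θ ≤ normalizer (Δ : Set G) := le_normalizer_iInf _ fun L => by
    obtain ⟨a, ha, ha1, haL⟩ := L.2
    exact ((signalizerInf_le ha ha1).trans haL).trans (core_norm s _)
  have hIΔ : I ≤ Δ := le_iInf fun L => iInf_le (fun L : 𝓛 => Cfsg.pCoreOf s (L : Subgroup G)) L.1
  have hΔle : ∀ c ∈ B, ∀ L, MaxMem p A θ L → θ c ≤ L → Single s L → c ≠ 1 →
      Δ ≤ Cfsg.pCoreOf s L := fun c hc L hL hcL hLs hc1 =>
    iInf_le (fun L : {L : 𝓛 // ∃ a ∈ B, a ≠ 1 ∧ θ a ≤ (L : Subgroup G)} =>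
      Cfsg.pCoreOf s ((L : 𝓛) : Subgroup G)) ⟨⟨L, hL, hLs, c, hB.1 hc, hc1, hcL⟩, c, hc, hc1, hcL⟩
  have hΔm : Δ ∈ Cfsg.signalizerFamily p A θ ∧ IsPGroup s Δ := by
    obtain ⟨hcA', hc1, hcs⟩ := hc₁S
    obtain ⟨L, hL, hcL⟩ := h.exists_max (h.theta_mem hcA' hc1)
    have hLs := hcs L hL hcL
    have hle := hΔle c₁ hc₁ L hL hcL hLs hc1
    exact ⟨family_mono (h.core_mem hL.1 s) hle hΔA, (core_pgroup s L).to_le hle⟩
  have hcomm : ∀ c ∈ B, Moved p A θ s c → ⁅Δ, zpowers c⁆ ≤ I := by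
    intro c hc hcS
    obtain ⟨hcA, hc1, hcs⟩ := hcS
    obtain ⟨L, hL, hcL⟩ := h.exists_max (h.theta_mem hcA hc1)
    have hLs := hcs L hL hcL
    refine hpush _ (h.comm_mem hΔm.1 (zpowers_le.2 hcA))
      (hΔm.2.to_le (h.comm_le hΔm.1 (zpowers_le.2 hcA)))
      (h.norm_comm_point hΔD ((h.D_le hcA hc1).trans (h.theta_le_cent hcA hc1))) ?_
    exact h.absorbed_comm hs hL.1 hcA hc1 hcL (Or.inl hs2) (hΔle c hc L hL hcL hLs hc1) hΔA
  by_cases hall : ∀ c ∈ B, c ≠ 1 → Moved p A θ s c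
  · suffices he' : Δ = I from he' ▸ hΔn
    refine le_antisymm (hpush Δ hΔm.1 hΔm.2 hΔD fun H hH hΔH => ?_) hIΔ
    refine h.core_of_cover hs hH hΔH hΔm.2
      (fun d : {d : G // d ∈ B ∧ d ≠ 1} => zpowers (d : G)) (h.gen_points hB) fun d => ?_
    obtain ⟨hdA, -, hds⟩ := hall d d.2.1 d.2.2
    obtain ⟨L', hL', hdL'⟩ := h.exists_max (h.theta_mem hdA d.2.2)
    have hL's := hds L' hL' hdL'
    refine ⟨Cfsg.pCoreOf s L', core_pgroup s L', hΔle d d.2.1 L' hL' hdL' hL's d.2.2, ?_⟩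
    rw [centralizer_zpowers]
    exact ((h.point_le_theta hH (hB.1 d.2.1) d.2.2).trans hdL').trans (core_norm s L')
  push Not at hall
  obtain ⟨c, hc, hc1, hcS⟩ := hall
  have hcA := hB.1 hc
  have hB' : zpowers c₁ ⊔ zpowers c₂ = B := eq_of_le_of_card_ge
    (sup_le (zpowers_le.2 hc₁) (zpowers_le.2 hc₂))
    (by rw [h.line_card hB, h.line_card (h.span_line hc₁S.1 hc₁S.2.1 hc₂S.1 hc₁₂)])
  have hΔB : ⁅Δ, B⁆ ≤ I := by
    rw [← hB', commutator_comm, sup_eq_iSup]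
    refine commutator_iSup_le (fun b => ?_) fun b => ?_
    · cases b
      · exact (zpowers_le.2 hc₂S.1).trans hIA
      · exact (zpowers_le.2 hc₁S.1).trans hIA
    · cases b
      · rw [commutator_comm]; exact hcomm c₂ hc₂ hc₂S
      · rw [commutator_comm]; exact hcomm c₁ hc₁ hc₁S
  have hIc : ⁅I, zpowers c⁆ = I := by
    have h1 := h.comm_sup_cent hIm (zpowers_le.2 hcA)
    rwa [centralizer_zpowers, hfpf c hcA hc1 hcS, sup_bot_eq] at h1
  have hI' : I = ⁅Δ, zpowers c⁆ :=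
    le_antisymm (hIc.ge.trans (commutator_mono hIΔ le_rfl))
      ((commutator_mono le_rfl (zpowers_le.2 hc)).trans hΔB)
  rw [hI']
  exact h.norm_comm_point hΔn ((signalizerInf_le hc hc1).trans (h.theta_le_cent hcA hc1))

end Min

end CfsgLib.Comp.SFT
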