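import Cfsg.Agent.Lib.Comp.SFT.Tools

/-!
An absorbed part of `O_s(M)`, `s` odd, `M` with two primes in `F(M)`, centralizes no line of `A`.
-/

set_option autoImplicit false
set_option linter.style.haveILetI false
set_option linter.unusedSectionVars false

universe u

namespace CfsgLib.Comp.SFT

open Subgroup
open scoped commutatorElement

variable {G : Type u} [Group G] [Finite G] {p : ℕ} [hp : Fact p.Prime]
  {A : Subgroup G} {θ : G → Subgroup G}

namespace Min

variable (h : Min p A θ)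

include h

/-- An absorbed part of `O_s(M)` centralized by a line is trivial. -/
theorem no_share {s : ℕ} (hs : s.Prime) (hs2 : s ≠ 2) {M : Subgroup G} (hM : MaxMem p A θ M)
    (hMm : Multi M) {e : G} (he : e ∈ A) (he1 : e ≠ 1) (heM : θ e ≤ M) {K : Subgroup G}
    (hK : Line p A K) {U : Subgroup G} (hU0' : U ≠ ⊥) (hUM : U ≤ Cfsg.pCoreOf s M)
    (hUK : U ≤ centralizer (K : Set G)) (hUA : A ≤ normalizer (U : Set G))
    (hUD : Cfsg.signalizerInf A θ ≤ normalizer (U : Set G)) (hUabs : Absorbed p A θ s U) :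
    False := by
  haveI := Fact.mk hs
  have hUm : U ∈ Cfsg.signalizerFamily p A θ := family_mono (h.core_mem hM.1 s) hUM hUA
  have hUs : IsPGroup s U := (core_pgroup s M).to_le hUM
  have hUT : ∀ q : ℕ, q.Prime → ∀ W ≤ Cfsg.pCoreOf q M, W ≠ ⊥ → A ≤ normalizer (W : Set G) →
      ∀ X ∈ Cfsg.signalizerFamily p A θ, X ≤ normalizer (W : Set G) → X ≤ M :=
    fun q hq W hW hW0 hWA X hX hXW =>
      h.le_of_norm_part hM hMm he he1 heM hq hW hW0 hWA hX hXW
  have hKbad : ∀ c ∈ K, c ≠ 1 → ¬ θ c ≤ M → ∀ L, MaxMem p A θ L → θ c ≤ L → Single s L := by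
    intro c hc hc1 hcM L hL hcL
    have hUc : U ≤ θ c := (le_inf le_rfl hUK).trans (h.piece_le_theta hUm hK.1 hc hc1)
    have hUL : U ≤ Cfsg.pCoreOf s L := hUabs L hL.1 (hUc.trans hcL)
    rcases single_or_multi hL.1.1 (h.max_ne_bot hL) with hm | ⟨q, hq, hLq⟩
    · refine absurd ?_ hcM
      rw [← h.eq_of_common hM hMm he he1 heM hL hm (hK.1 hc) hc1 hcL hs hUM hUL hU0' hUA]
      exact hcL
    · by_cases hqs : s = q
      · exact hqs ▸ hLq
      · exact absurd (le_bot_iff.1 (hUL.trans (hLq.2 s hs hqs).le)) hU0'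
  obtain ⟨b, hb, hb1, hbM⟩ := h.exists_bad' hM.1 hK
  obtain ⟨b', hb', hb'1, hbb', hb'M⟩ := h.exists_bad hM.1 hK hb hb1
  have hbA := hK.1 hb
  obtain ⟨Lb, hLb, hbL⟩ := h.exists_max (h.theta_mem hbA hb1)
  have hLbs := hKbad b hb hb1 hbM Lb hLb hbL
  set Tb := ⁅Cfsg.pCoreOf s Lb, zpowers b⁆
  have hTbm : Tb ∈ Cfsg.signalizerFamily p A θ :=
    h.comm_mem (h.core_mem hLb.1 s) (zpowers_le.2 hbA)
  have hTb0 : Tb ≠ ⊥ := h.comm_single_ne_bot hLb hLbs hbA hb1
  have hTbs : IsPGroup s Tb := h.comm_core_pgroup hLb.1 hbA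
  have hTbD : Cfsg.signalizerInf A θ ≤ normalizer (Tb : Set G) := h.D_norm_comm_core hbA hb1 hbL s
  have hTbabs : Absorbed p A θ s Tb :=
    h.absorbed_comm hs hLb.1 hbA hb1 hbL (Or.inl hs2) le_rfl (h.mem_inv (h.core_mem hLb.1 s))
  have hTbM : ¬ Tb ≤ M := fun hle => hbM (hUT s hs Tb (hTbabs M hM.1 hle) hTb0 (h.mem_inv hTbm)
    _ (h.theta_mem hbA hb1) (h.theta_norm_comm hbA hb1 hbL s))
  by_cases hI : ∀ c ∈ A, c ≠ 1 → ¬ θ c ≤ M →
      (∃ L, MaxMem p A θ L ∧ θ c ≤ L ∧ Single s L) → c ∈ K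
  · -- all those points lie on `K`
    obtain ⟨J, hJ, hU'M⟩ := h.exists_piece (h.core_mem hLb.1 s) hbA hb1 hTbM
    set X' := Cfsg.pCoreOf s Lb ⊓ centralizer (J : Set G)
    set U' := ⁅X', zpowers b⁆
    have hX'A : A ≤ normalizer (X' : Set G) :=
      h.inv_cent_inf (h.mem_inv (h.core_mem hLb.1 s)) hJ.1
    have hU'le : U' ≤ X' := commutator_le_of_le_normalizer ((zpowers_le.2 hbA).trans hX'A)
    have hU'A : A ≤ normalizer (U' : Set G) := h.inv_comm hX'A (zpowers_le.2 hbA)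
    have hU'0 : U' ≠ ⊥ := fun e => hU'M (e.le.trans bot_le)
    have hJK : ¬ J ≤ K := fun hle => by
      refine hU'0 (commutator_eq_bot_iff_le_centralizer.2 (inf_le_right.trans (centralizer_le ?_)))
      rw [eq_of_le_of_card_ge hle (by rw [h.line_card hK, h.line_card hJ])]
      exact zpowers_le.2 hb
    have hout : ∀ c ∈ J, c ∉ K → ∃ L, MaxMem p A θ L ∧ θ c ≤ L ∧ Multi L ∧
        U' ≤ Cfsg.pCoreOf s L := by
      intro c hc hcK
      have hc1 : c ≠ 1 := fun e => hcK (e ▸ one_mem K)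
      have hU'c : U' ≤ θ c :=
        hU'le.trans (h.piece_le_theta (h.core_mem hLb.1 s) hJ.1 hc hc1)
      have hcM : ¬ θ c ≤ M := fun hle => hU'M (hU'c.trans hle)
      obtain ⟨L, hL, hcL⟩ := h.exists_max (h.theta_mem (hJ.1 hc) hc1)
      have hU'L : U' ≤ Cfsg.pCoreOf s L := h.absorbed_comm hs hLb.1 hbA hb1 hbL (Or.inl hs2)
        inf_le_left hX'A L hL.1 (hU'c.trans hcL)
      rcases single_or_multi hL.1.1 (h.max_ne_bot hL) with hm | ⟨q, hq, hLq⟩
      · exact ⟨L, hL, hcL, hm, hU'L⟩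
      · by_cases hqs : s = q
        · exact absurd (hI c (hJ.1 hc) hc1 hcM ⟨L, hL, hcL, hqs ▸ hLq⟩) hcK
        · exact absurd (le_bot_iff.1 (hU'L.trans (hLq.2 s hs hqs).le)) hU'0
    obtain ⟨c₀, hc₀, hc₀K⟩ := SetLike.not_le_iff_exists.1 hJK
    have hc₀1 : c₀ ≠ 1 := fun e => hc₀K (e ▸ one_mem K)
    obtain ⟨M', hM', hc₀M', hM'm, hU'M'⟩ := hout c₀ hc₀ hc₀K
    obtain ⟨j, hjJ, hjK, hj1⟩ := h.exists_common hJ hK
    obtain ⟨d, hd, hd1, hdj, hdM'⟩ := h.exists_bad hM'.1 hJ hjJ hj1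
    have hdK : d ∉ K := fun hdK => by
      have hl := h.span_line (hJ.1 hjJ) hj1 (hJ.1 hd) hdj
      refine hJK (le_trans (le_of_eq ?_) (sup_le (zpowers_le.2 hjK) (zpowers_le.2 hdK)))
      exact (eq_of_le_of_card_ge (sup_le (zpowers_le.2 hjJ) (zpowers_le.2 hd))
        (by rw [h.line_card hJ, h.line_card hl])).symm
    obtain ⟨L, hL, hdL, hLm, hU'L⟩ := hout d hd hdK
    rw [h.eq_of_common hM' hM'm (hJ.1 hc₀) hc₀1 hc₀M' hL hLm (hJ.1 hd) hd1 hdL hs hU'M' hU'L
      hU'0 hU'A] at hdL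
    exact hdM' hdL
  push Not at hI
  obtain ⟨c₀, hc₀A, hc₀1, hc₀M, ⟨L₀, hL₀, hc₀L, hL₀s⟩, hc₀K⟩ := hI
  -- the centre of a maximal `s`-member
  obtain ⟨Y, hY, hYs, hYD, hYall, hYmax⟩ := h.exists_prime_member hs
  obtain ⟨Q, hQ, hQs, hYQ, hQm⟩ := exists_maximal_member hY hYs
  have hUY : U ≤ Y := hYall U hUm hUs hUD
  set Z := OZ s Q
  have hZA : A ≤ normalizer (Z : Set G) := (h.mem_inv hQ).trans (normalizer_le_normalizer_oz s Q)
  have hZm : Z ∈ Cfsg.signalizerFamily p A θ := family_mono hQ (oz_le s Q) hZA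
  have hZ0 : Z ≠ ⊥ := oz_ne_bot hs hQs fun e => hU0' (le_bot_iff.1 (e ▸ hUY.trans hYQ))
  have hZM : Z ≤ M := hUT s hs U hUM hU0' hUA Z hZm
    (((oz_le_centralizer s Q).trans (centralizer_le (hUY.trans hYQ))).trans (centralizer_le_normalizer U))
  have hZfix : ∀ c ∈ A, c ≠ 1 → ¬ θ c ≤ M → ∀ L, MaxMem p A θ L → θ c ≤ L → Single s L →
      Z ≤ centralizer ({c} : Set G) := by
    intro c hc hc1 hcM L hL hcL hLs
    set P' := Cfsg.pCoreOf s L
    have hP'm : P' ∈ Cfsg.signalizerFamily p A θ := h.core_mem hL.1 s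
    have hTP' : U ≤ P' := h.pushing hs hUm hUs hUD hUabs hL hLs.2
    have hP'Q : P' ≤ Q := (hYall P' hP'm (core_pgroup s L) (h.theta_norm_core hc hc1 hcL s)).trans hYQ
    set Z' := OZ s P'
    have hZ'A : A ≤ normalizer (Z' : Set G) := (h.mem_inv hP'm).trans (normalizer_le_normalizer_oz s P')
    have hZ'm : Z' ∈ Cfsg.signalizerFamily p A θ := family_mono hP'm (oz_le s P') hZ'A
    have hZZ' : Z ≤ Z' := by
      have hcent : Z ≤ centralizer (P' : Set G) := (oz_le_centralizer s Q).trans (centralizer_le hP'Q)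
      have hZL : Z ≤ L := h.le_max_of_norm hL hP'm hLs.1 (core_norm s L) hZm
        (hcent.trans (centralizer_le_normalizer _))
      have hZP' : Z ≤ P' := by
        have hfit := fit_single hs hLs
        refine le_trans (le_inf hZL ?_) ((fit_self hL.1.1).trans hfit.le)
        rw [hfit]; exact hcent
      intro z hz
      refine subset_closure ⟨⟨hZP' hz, hcent hz⟩, ?_⟩
      exact (CfsgLib.PLocal.omegaCenter_elemAb (p := s) Q).2 z hz
    have hNb : ⁅Z', zpowers c⁆ = ⊥ := by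
      by_contra hN
      have hZ'M : Z' ≤ M := hUT s hs U hUM hU0' hUA Z' hZ'm
        (((oz_le_centralizer s P').trans (centralizer_le hTP')).trans (centralizer_le_normalizer U))
      have hn : θ c ≤ normalizer (Z' : Set G) :=
        (hcL.trans (core_norm s L)).trans (normalizer_le_normalizer_oz s P')
      have hNP : ⁅Z', zpowers c⁆ ≤ Cfsg.pCoreOf s M :=
        h.comm_core hs hM.1 hZ'M ((core_pgroup s L).to_le (oz_le s P')) hZ'A hc
          (Or.inl hs2) ((core_pgroup s L).to_le (oz_le s P')) le_rfl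
          ((h.point_le_theta hM.1 hc hc1).trans hn)
      exact hcM (hUT s hs _ hNP hN (h.inv_comm hZ'A (zpowers_le.2 hc)) _ (h.theta_mem hc hc1)
        (h.norm_comm_point hn (h.theta_le_cent hc hc1)))
    rw [← centralizer_zpowers c]
    exact hZZ'.trans (commutator_eq_bot_iff_le_centralizer.1 hNb)
  have hZcA : Z ≤ centralizer (A : Set G) := by
    have hK' : zpowers b ⊔ zpowers b' = K := eq_of_le_of_card_ge
      (sup_le (zpowers_le.2 hb) (zpowers_le.2 hb'))
      (by rw [h.line_card hK, h.line_card (h.span_line hbA hb1 (hK.1 hb') hbb')])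
    obtain ⟨L', hL', hb'L⟩ := h.exists_max (h.theta_mem (hK.1 hb') hb'1)
    rw [← h.line_sup hK hc₀A hc₀K, ← hK', CfsgLib.PLocal.centralizer_sup_eq,
      CfsgLib.PLocal.centralizer_sup_eq, centralizer_zpowers, centralizer_zpowers, centralizer_zpowers]
    exact le_inf (le_inf (hZfix b hbA hb1 hbM Lb hLb hbL hLbs)
      (hZfix b' (hK.1 hb') hb'1 hb'M L' hL' hb'L (hKbad b' hb' hb'1 hb'M L' hL' hb'L)))
      (hZfix c₀ hc₀A hc₀1 hc₀M L₀ hL₀ hc₀L hL₀s)
  have hZD : Z ≤ Cfsg.signalizerInf A θ := le_trans (le_inf hZM hZcA) (h.piece_le hM.1 le_rfl)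
  have hTbY : Tb ≤ Y := hYall Tb hTbm hTbs hTbD
  have hDM : Cfsg.signalizerInf A θ ≤ M := (h.D_le he he1).trans heM
  obtain ⟨r, hr, hrs, hr0⟩ := exists_ne_of_multi hMm s
  haveI := Fact.mk hr
  set R := Cfsg.pCoreOf r M
  have hRm : R ∈ Cfsg.signalizerFamily p A θ := h.core_mem hM.1 r
  -- only two primes occur
  have hπ : ∀ q : ℕ, q.Prime → ∀ a ∈ A, a ≠ 1 → q ∣ Nat.card (θ a) → q = r ∨ q = s := by
    intro q hq a ha ha1 hqd
    by_contra hne
    push Not at hne
    obtain ⟨Y', hY', hY'σ, -, hY'all⟩ :=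
      h.exists_sigma_member {r, s} hq (by simp [hne.1, hne.2]) ha ha1 hqd
    have hRY : R ≤ Y' := hY'all R hRm (piGroup_of_pgroup hr (by simp) (core_pgroup r M))
      (hDM.trans (core_norm r M))
    have hTY' : U ≤ Y' := hY'all U hUm (piGroup_of_pgroup hs (by simp) hUs) hUD
    have hTbY' : Tb ≤ Y' := hY'all Tb hTbm (piGroup_of_pgroup hs (by simp) hTbs) hTbD
    have h1 : R ≤ Opp s Y' := by
      refine le_opp_test hs hY'.1 hRY hTY' hUs (coprime_card_pgroup hr hs hrs (core_pgroup r M))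
        ((core_commute hr hs hrs M).trans (centralizer_le hUM)) ?_
      exact (hUT s hs U hUM hU0' hUA _ (family_mono hY' inf_le_left
        (CfsgLib.Comp.le_normalizer_inf (h.mem_inv hY')
          (CfsgLib.Comp.le_normalizer_centralizer hUA)))
        (inf_le_right.trans (centralizer_le_normalizer U))).trans (core_norm r M)
    have h2 : Opp s Y' ≤ Cfsg.pCoreOf r Y' := by
      refine le_core (opp_le s Y') (opp_norm s Y') (pgroup_of_piGroup hr fun v hv hvd => ?_)
      rcases (piGroup_mono (opp_le s Y') hY'σ) v hv hvd with e | e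
      · exact e
      · exact absurd (e ▸ hvd) (hs.coprime_iff_not_dvd.1 (opp_coprime s Y').symm)
    have h3 : Tb ≤ centralizer (R : Set G) := (((hTbabs Y' hY' hTbY').trans
      (core_commute hs hr hrs.symm Y')).trans (centralizer_le (h1.trans h2)))
    exact hTbM (h.le_max_of_norm hM hRm hr0 (core_norm r M) hTbm
      (h3.trans (centralizer_le_normalizer R)))
  have hcen : ∀ {H U : Subgroup G}, H ∈ Cfsg.signalizerFamily p A θ →
      Cfsg.signalizerInf A θ ≤ H → U ≤ H → IsPGroup r U → ∀ z ∈ Z,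
      z ∈ normalizer (U : Set G) → ⁅U, zpowers z⁆ ≤ Cfsg.pCoreOf r H :=
    fun hH hDH hUH hUr z hz hzU => h.comm_central_le_core hr hs hπ hQ hQs hQm
      (oz_le_centralizer s Q hz) hH hDH (hDH (hZD hz)) hUH hUr hzU
  obtain ⟨z, hz, hzR⟩ : ∃ z ∈ Z, ⁅R, zpowers z⁆ ≠ ⊥ := by
    by_contra hcon
    push Not at hcon
    have hfit : Z ≤ Fit M := le_fit_of_centralizes hM.1.1 hZM fun q hq => by
      by_cases hq0 : Cfsg.pCoreOf q M = ⊥
      · rw [hq0, le_centralizer_iff]; exact bot_le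
      obtain ⟨a, ha, ha1, had⟩ :=
        h.exists_prime_dvd_theta hq (h.core_mem hM.1 q) (core_pgroup q M) hq0
      rcases hπ q hq a ha ha1 had with rfl | rfl
      · intro z hz
        exact le_centralizer_iff.1 (commutator_eq_bot_iff_le_centralizer.1 (hcon z hz))
          (mem_zpowers z)
      · exact (oz_le_centralizer q Q).trans (centralizer_le ((hYall _ (h.core_mem hM.1 q) (core_pgroup q M)
          (h.theta_norm_core he he1 heM q)).trans hYQ))
    refine hTbM (hUT s hs Z (pgroup_fit_le hs hfit (hQs.to_le (oz_le s Q))) hZ0 hZA Tb hTbm ?_)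
    exact ((le_centralizer_iff.1 (oz_le_centralizer s Q)).trans' (hTbY.trans hYQ)).trans
      (centralizer_le_normalizer Z)
  have hz1 : z ≠ 1 := fun e => hzR (by rw [e, zpowers_one_eq_bot, commutator_bot_right])
  have hzA : A ≤ centralizer ((zpowers z : Subgroup G) : Set G) :=
    le_centralizer_iff.1 (zpowers_le.2 (hZcA hz))
  obtain ⟨K', hK', hW0⟩ : ∃ K' : Subgroup G, Line p A K' ∧
      ⁅R ⊓ centralizer (K' : Set G), zpowers z⁆ ≠ ⊥ := by
    by_contra hcon
    push Not at hcon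
    refine hzR (le_bot_iff.1 ?_)
    rw [h.mem_gen hRm]
    refine commutator_iSup_le (fun B => ?_) fun B => (hcon B B.2).le
    exact (le_centralizer_iff.1 bot_le).trans (centralizer_le_normalizer ⊥)
  set W := ⁅R ⊓ centralizer (K' : Set G), zpowers z⁆
  have hXK : A ≤ normalizer ((R ⊓ centralizer (K' : Set G) : Subgroup G) : Set G) :=
    h.inv_cent_inf (h.mem_inv hRm) hK'.1
  have hWA : A ≤ normalizer (W : Set G) :=
    norm_commutator hXK (hzA.trans (centralizer_le_normalizer _))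
  have hzn : z ∈ normalizer ((R ⊓ centralizer (K' : Set G) : Subgroup G) : Set G) :=
    CfsgLib.Comp.le_normalizer_inf (hZM.trans (core_norm r M))
      ((hZcA.trans (centralizer_le hK'.1)).trans le_normalizer) hz
  have hK'bad : ∀ c ∈ K', c ≠ 1 → ¬ θ c ≤ M → ∀ L, MaxMem p A θ L → θ c ≤ L → Single r L := by
    intro c hc hc1 hcM L hL hcL
    have hWL : W ≤ Cfsg.pCoreOf r L := hcen hL.1 ((h.D_le (hK'.1 hc) hc1).trans hcL)
      ((h.piece_le_theta hRm hK'.1 hc hc1).trans hcL) ((core_pgroup r M).to_le inf_le_left) z hz hzn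
    rcases single_or_multi hL.1.1 (h.max_ne_bot hL) with hm | ⟨q, hq, hLq⟩
    · refine absurd ?_ hcM
      rw [← h.eq_of_common hM hMm he he1 heM hL hm (hK'.1 hc) hc1 hcL hr
        ((commutator_le_of_le_normalizer (zpowers_le.2 hzn)).trans inf_le_left) hWL hW0 hWA]
      exact hcL
    · by_cases hqr : r = q
      · exact hqr ▸ hLq
      · exact absurd (le_bot_iff.1 (hWL.trans (hLq.2 r hr hqr).le)) hW0
  -- the members over the points of `K'` outside `M` push `Q` into `M`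
  have hbadQ : ∀ c ∈ K', c ≠ 1 → ¬ θ c ≤ M → Q ⊓ centralizer ({c} : Set G) ≤ M := by
    intro c hc hc1 hcM
    have hcA := hK'.1 hc
    obtain ⟨L, hL, hcL⟩ := h.exists_max (h.theta_mem hcA hc1)
    have hLr := hK'bad c hc hc1 hcM L hL hcL
    set X := Cfsg.pCoreOf r L
    have hXm : X ∈ Cfsg.signalizerFamily p A θ := h.core_mem hL.1 r
    have hDL : Cfsg.signalizerInf A θ ≤ L := (h.D_le hcA hc1).trans hcL
    have hzX : z ∈ normalizer (X : Set G) := core_norm r L (hDL (hZD hz))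
    have hX0 : ⁅X, zpowers z⁆ ≠ ⊥ := by
      intro hb
      refine hz1 ?_
      have hfit := fit_single hr hLr
      have h1 : z ∈ X := ((fit_self hL.1.1).trans hfit.le)
        ⟨hDL (hZD hz), by
          rw [hfit]
          exact le_centralizer_iff.1 (commutator_eq_bot_iff_le_centralizer.1 hb) (mem_zpowers z)⟩
      have h2 := pgroup_disjoint hr hs hrs (core_pgroup r L) (hQs.to_le (oz_le s Q))
      rw [← mem_bot, ← h2]
      exact ⟨h1, hz⟩
    have hzcen : z ∈ centralizer (A : Set G) := hZcA hz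
    have hXR : ⁅X, zpowers z⁆ ≤ R := by
      have hzo : (orderOf z).Coprime (Nat.card X) := by
        refine (IsPGroup.coprime_card_of_ne s r hrs.symm _ _ (hQs.to_le (oz_le s Q))
          (core_pgroup r L)).coprime_dvd_left ?_
        have := orderOf_dvd_natCard (⟨z, hz⟩ : Z)
        rwa [← orderOf_coe] at this
      refine (commutator_le_pieces _ z rfl h.hA h.A_ne_bot hXm.1 hXm.2.1 (h.mem_inv hXm) hzX hzcen
        hzo).trans (iSup_le fun B => ?_)
      obtain ⟨k, hkB, hkK, hk1⟩ := h.exists_common B.2 hK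
      have hpc : X ⊓ centralizer ((B : Subgroup G) : Set G) ≤ θ k :=
        h.piece_le_theta hXm B.2.1 hkB hk1
      have hzB : z ∈ normalizer ((X ⊓ centralizer ((B : Subgroup G) : Set G) : Subgroup G) : Set G) :=
        centralizer_le_normalizer_fix hzX (centralizer_le B.2.1 hzcen)
      by_cases hkM : θ k ≤ M
      · exact hcen hM.1 hDM (hpc.trans hkM) ((core_pgroup r L).to_le inf_le_left) z hz hzB
      · obtain ⟨Lk, hLk, hkL⟩ := h.exists_max (h.theta_mem (hK.1 hkK) hk1)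
        refine ((hcen hLk.1 ((h.D_le (hK.1 hkK) hk1).trans hkL) (hpc.trans hkL)
          ((core_pgroup r L).to_le inf_le_left) z hz hzB).trans ?_).trans bot_le
        exact ((hKbad k hkK hk1 hkM Lk hLk hkL).2 r hr hrs).le
    refine hUT r hr _ hXR hX0 (norm_commutator (h.mem_inv hXm)
      (hzA.trans (centralizer_le_normalizer _))) _ (h.inf_cent_mem hQ hcA) ?_
    refine norm_commutator (((h.point_le_theta hQ hcA hc1).trans hcL).trans (core_norm r L)) ?_
    refine le_trans ?_ (centralizer_le_normalizer _)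
    rw [le_centralizer_iff, zpowers_le]
    exact centralizer_le inf_le_left (oz_le_centralizer s Q hz)
  refine hTbM ((hTbY.trans hYQ).trans ?_)
  rw [← h.line_gen hQ.2.1 hK' (hK'.1.trans (h.mem_inv hQ))]
  refine iSup_le fun c => ?_
  by_cases hcM : θ (c : G) ≤ M
  · exact (h.point_le_theta hQ (hK'.1 c.2.1) c.2.2).trans hcM
  · exact hbadQ c c.2.1 c.2.2 hcM

end Min

end CfsgLib.Comp.SFT
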