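import Cfsg.Agent.Lib.Comp.SFT.Absorb
import Cfsg.Agent.Lib.PLocal.Thompson
import Cfsg.Agent.Lib.PLocal.OmegaJoin
import Cfsg.Agent.Lib.Comp.SFT.FFKey
import Cfsg.Agent.Lib.Comp.SFT.F1

/-!
An absorbed member invariant under `θ(A)` lies in `O_s` of every maximal member whose Fitting
subgroup is an `s`-group.
-/

set_option autoImplicit false
set_option linter.style.haveILetI false
set_option linter.unusedSectionVars false

universe u

namespace CfsgLib.Comp.SFT

open Subgroup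
open scoped commutatorElement

variable {G : Type u} [Group G] [Finite G] {p : ℕ} [hp : Fact p.Prime]
  {A : Subgroup G} {θ : G → Subgroup G}

/-- `Ω₁(Z(Q))`. -/
abbrev OZ (s : ℕ) (Q : Subgroup G) : Subgroup G :=
  Cfsg.omegaOne s (Q ⊓ centralizer (Q : Set G))

/-- A subgroup `S` maximal among the `s`-subgroups of `H`. -/
def SylIn (s : ℕ) (H S : Subgroup G) : Prop :=
  S ≤ H ∧ IsPGroup s S ∧ ∀ R : Subgroup G, R ≤ H → IsPGroup s R → S ≤ R → R = S

/-- The element `x` of `H` moves the `Z(Q)` of order `s` elements into the centralizer of `T`. -/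
def Pushed (s : ℕ) (H Q T : Subgroup G) : Prop :=
  ∀ x ∈ H, ∀ z ∈ Cfsg.omegaOne s (Q ⊓ centralizer (Q : Set G)), x * z * x⁻¹ ∈ centralizer (T : Set G)

theorem core_le_sylIn {s : ℕ} (hs : s.Prime) {H S : Subgroup G} (hS : SylIn s H S) :
    Cfsg.pCoreOf s H ≤ S := by
  haveI := Fact.mk hs
  have hn : S ≤ normalizer (Cfsg.pCoreOf s H : Set G) := hS.1.trans (core_norm s H)
  have h1 : IsPGroup s ↥(Cfsg.pCoreOf s H ⊔ S) :=
    (core_pgroup s H).to_sup_of_normal_left' hS.2.1 hn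
  exact le_sup_left.trans (hS.2.2 _ (sup_le (core_le s H) hS.1) h1 le_sup_right).le

theorem oz_le (s : ℕ) (Q : Subgroup G) : OZ s Q ≤ Q :=
  (CfsgLib.PLocal.omegaOne_le s _).trans inf_le_left

theorem oz_le_centralizer (s : ℕ) (Q : Subgroup G) : OZ s Q ≤ centralizer (Q : Set G) :=
  (CfsgLib.PLocal.omegaOne_le s _).trans inf_le_right

/-- `N(Q)` normalizes `Ω₁(Z(Q))`. -/
theorem normalizer_le_normalizer_oz (s : ℕ) (Q : Subgroup G) :
    normalizer (Q : Set G) ≤ normalizer (OZ s Q : Set G) := by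
  intro a ha
  have key : ∀ b ∈ normalizer (Q : Set G), (OZ s Q).map (MulAut.conj b).toMonoidHom ≤ OZ s Q := by
    intro b hb
    rw [OZ, Cfsg.omegaOne, MonoidHom.map_closure, closure_le]
    rintro _ ⟨y, ⟨⟨hyQ, hyc⟩, hys⟩, rfl⟩
    refine subset_closure ⟨⟨(mem_normalizer_iff.1 hb y).1 hyQ, fun w hw => ?_⟩, ?_⟩
    · show w * (b * y * b⁻¹) = b * y * b⁻¹ * w
      have h3 := mem_centralizer_iff.1 hyc _ ((mem_normalizer_iff''.1 hb w).1 hw)
      calc w * (b * y * b⁻¹) = b * ((b⁻¹ * w * b) * y) * b⁻¹ := by group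
        _ = b * (y * (b⁻¹ * w * b)) * b⁻¹ := by rw [h3]
        _ = _ := by group
    · show (b * y * b⁻¹) ^ s = 1
      rw [conj_pow, hys, mul_one, mul_inv_cancel]
  rw [← map_conj_eq_iff]
  refine le_antisymm (key a ha) fun y hy => ?_
  exact ⟨_, key a⁻¹ (inv_mem ha) (mem_map_of_mem _ hy), by simp [mul_assoc]⟩

theorem exists_sylow_of_sylIn {s : ℕ} {H S : Subgroup G} (hS : SylIn s H S) :
    ∃ P : Sylow s H, (P : Subgroup H).map H.subtype = S := by
  obtain ⟨P, hP⟩ := (hS.2.1.comap_of_injective H.subtype H.subtype_injective).exists_le_sylow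
  exact ⟨P, hS.2.2 _ (map_subtype_le _) (P.isPGroup'.map _) fun y hy =>
    ⟨⟨y, hS.1 hy⟩, hP (show (⟨y, hS.1 hy⟩ : H) ∈ S.comap H.subtype from hy), rfl⟩⟩

theorem exists_conj_le {s : ℕ} [Fact s.Prime] {H S R : Subgroup G} (hS : SylIn s H S) (hRH : R ≤ H)
    (hR : IsPGroup s R) : ∃ g ∈ H, R.map (MulAut.conj g).toMonoidHom ≤ S := by
  obtain ⟨P, hP⟩ := exists_sylow_of_sylIn hS
  obtain ⟨Q, hQ⟩ := (hR.comap_of_injective H.subtype H.subtype_injective).exists_le_sylow
  obtain ⟨g, hg⟩ := MulAction.exists_smul_eq H Q P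
  refine ⟨g, g.2, ?_⟩
  rintro _ ⟨r, hr, rfl⟩
  rw [← hP, ← hg]
  exact ⟨g * ⟨r, hRH hr⟩ * g⁻¹, mem_map_of_mem (MulAut.conj g).toMonoidHom (hQ hr), rfl⟩

theorem card_le_sylIn {s : ℕ} [Fact s.Prime] {H S R : Subgroup G} (hS : SylIn s H S) (hRH : R ≤ H)
    (hR : IsPGroup s R) : Nat.card R ≤ Nat.card S := by
  obtain ⟨g, -, hg⟩ := exists_conj_le hS hRH hR
  have := card_le_of_le hg
  rwa [card_map_of_injective (MulAut.conj g).injective] at this

/-- A Sylow subgroup meets a normal subgroup in a Sylow subgroup. -/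
theorem sylIn_inf {s : ℕ} [Fact s.Prime] {H S M : Subgroup G} (hS : SylIn s H S) (hMH : M ≤ H)
    (hn : H ≤ normalizer (M : Set G)) : SylIn s M (S ⊓ M) := by
  refine ⟨inf_le_right, hS.2.1.to_le inf_le_left, fun R hRM hR hle => ?_⟩
  obtain ⟨g, hg, hgS⟩ := exists_conj_le hS (hRM.trans hMH) hR
  have h1 : R.map (MulAut.conj g).toMonoidHom ≤ S ⊓ M :=
    le_inf hgS ((map_mono hRM).trans (map_conj_eq_iff.2 (hn hg)).le)
  have h2 := card_le_of_le h1
  rw [card_map_of_injective (MulAut.conj g).injective] at h2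
  exact (eq_of_le_of_card_ge hle h2).symm

/-- The Frattini argument. -/
theorem exists_frattini {s : ℕ} [Fact s.Prime] {M R : Subgroup G} (hR : SylIn s M R) {x : G}
    (hx : x ∈ normalizer (M : Set G)) :
    ∃ m ∈ M, ∃ n ∈ normalizer (R : Set G), x = m * n := by
  obtain ⟨g, hg, hle⟩ := exists_conj_le hR
    ((map_mono hR.1).trans (map_conj_eq_iff.2 hx).le) (hR.2.1.map (MulAut.conj x).toMonoidHom)
  have hmap : R.map (MulAut.conj (g * x)).toMonoidHom = R := by
    rw [map_conj_mul]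
    exact eq_of_le_of_card_ge hle (by
      rw [card_map_of_injective (MulAut.conj g).injective, card_map_of_injective (MulAut.conj x).injective])
  exact ⟨g⁻¹, inv_mem hg, g * x, map_conj_eq_iff.1 hmap, by group⟩

/-- An `s`-section is covered by a Sylow subgroup. -/
theorem le_sup_of_qm_pgroup {s : ℕ} [Fact s.Prime] {C M U : Subgroup G} (hCM : C ≤ M)
    (hMN : M ≤ normalizer (C : Set G)) (hMs : IsPGroup s (qm C M)) (hU : SylIn s M U) :
    M ≤ C ⊔ U := by
  obtain ⟨P, hP⟩ := exists_sylow_of_sylIn hU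
  rw [← relIndex_eq_one]
  refine Nat.eq_one_of_dvd_coprimes (a := Nat.card (qm C M)) (b := U.relIndex M) ?_ ?_
    (relIndex_dvd_of_le_left M le_sup_right)
  · obtain ⟨n, hn⟩ := IsPGroup.iff_card.1 hMs
    rw [hn]
    refine Nat.Coprime.pow_left _ ((Fact.out : s.Prime).coprime_iff_not_dvd.2 ?_)
    show ¬ s ∣ (U.subgroupOf M).index
    rw [← hP, subgroupOf, comap_map_eq_self_of_injective M.subtype_injective]
    exact P.not_dvd_index
  · refine (relIndex_dvd_of_le_left M (le_sup_left : C ≤ C ⊔ U)).trans (dvd_of_eq ?_)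
    have h1 := relIndex_mul_relIndex ⊥ C M bot_le hCM
    rw [relIndex_bot_left, relIndex_bot_left, ← card_qm hCM hMN, mul_comm] at h1
    exact Nat.eq_of_mul_eq_mul_right Nat.card_pos h1

theorem core_le_pre {s : ℕ} {C H M : Subgroup G} (hHN : H ≤ normalizer (C : Set G)) (hCM : C ≤ M)
    (hM : qm C M = Cfsg.pCoreOf s (qm C H)) : Cfsg.pCoreOf s H ≤ M := by
  refine (qm_le_iff ((core_le s H).trans hHN) hCM).1 (hM ▸ le_core (qm_mono (core_le s H)) ?_ ?_)
  · exact qm_le_normalizer ((core_le s H).trans hHN) hHN (core_norm s H)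
  · exact isPGroup_qm (core_pgroup s H)

/-- Normalizers of `H` normalize `J(H)`; Sylow subgroups give parts of it. -/
theorem thompsonOf_sylIn_le {s : ℕ} [Fact s.Prime] {H S : Subgroup G} (hS : SylIn s H S) :
    Cfsg.thompsonSubgroupOf s S ≤ Cfsg.thompsonSubgroupOf s H := by
  rw [CfsgLib.PLocal.thompsonOf_eq]
  refine sSup_le fun E hE => CfsgLib.PLocal.le_thompsonOf ⟨hE.1.trans hS.1, hE.2.1, fun B hB hBe => ?_⟩
  have hBs : IsPGroup s B := fun b => ⟨1, Subtype.ext (by simpa using hBe.2 (b : G) b.2)⟩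
  obtain ⟨g, -, hg⟩ := exists_conj_le hS hB hBs
  have := hE.2.2 _ hg (CfsgLib.PLocal.elemAb_map _ hBe)
  rwa [card_map_of_injective (MulAut.conj g).injective] at this

/-- The measure of the induction. -/
noncomputable def meas (s : ℕ) (H S : Subgroup G) : ℕ :=
  (Nat.card G - Nat.card S) * (Nat.card G + 1) ^ 2 +
    (Nat.card G - Nat.card (Cfsg.pCoreOf s H)) * (Nat.card G + 1) + (Nat.card G - Nat.card H)

theorem meas_lt {s : ℕ} {H S H' S' : Subgroup G} (hS : S ≤ S')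
    (h : S < S' ∨ (Cfsg.pCoreOf s H ≤ Cfsg.pCoreOf s H' ∧
      (Cfsg.pCoreOf s H < Cfsg.pCoreOf s H' ∨ H < H'))) : meas s H' S' < meas s H S := by
  have hN : ∀ K : Subgroup G, Nat.card K ≤ Nat.card G := fun K => Nat.card_le_card_of_injective _ K.subtype_injective
  have hlt : ∀ {K K' : Subgroup G}, K < K' → Nat.card K < Nat.card K' := fun {K K'} hk =>
    lt_of_le_of_ne (card_le_of_le hk.le) fun e => hk.ne (eq_of_le_of_card_ge hk.le e.ge)
  unfold meas
  set N := Nat.card G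
  have a1 := hN S'
  have b1 := hN (Cfsg.pCoreOf s H')
  have c1 := hN H'
  have a0 := card_le_of_le hS
  have hb : (N - Nat.card (Cfsg.pCoreOf s H')) * (N + 1) ≤ N * (N + 1) :=
    Nat.mul_le_mul_right _ (Nat.sub_le _ _)
  have hc : N - Nat.card H' ≤ N := Nat.sub_le _ _
  rcases h with h | ⟨hP, h⟩
  · have := hlt h
    have e : (N - Nat.card S' + 1) * (N + 1) ^ 2 ≤ (N - Nat.card S) * (N + 1) ^ 2 :=
      Nat.mul_le_mul_right _ (by omega)
    nlinarith
  have e0 : (N - Nat.card S') * (N + 1) ^ 2 ≤ (N - Nat.card S) * (N + 1) ^ 2 :=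
    Nat.mul_le_mul_right _ (by omega)
  rcases h with h | h
  · have := hlt h
    have e : (N - Nat.card (Cfsg.pCoreOf s H') + 1) * (N + 1) ≤
        (N - Nat.card (Cfsg.pCoreOf s H)) * (N + 1) := Nat.mul_le_mul_right _ (by omega)
    nlinarith
  · have := hlt h
    have := card_le_of_le hP
    have e : (N - Nat.card (Cfsg.pCoreOf s H')) * (N + 1) ≤
        (N - Nat.card (Cfsg.pCoreOf s H)) * (N + 1) := Nat.mul_le_mul_right _ (by omega)
    omega

namespace Min

variable (h : Min p A θ)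

include h

theorem exists_sylIn_ge {s : ℕ} (hs : s.Prime) {H U : Subgroup G}
    (hH : H ∈ Cfsg.signalizerFamily p A θ) (hU : IsPGroup s U) (hUH : U ≤ H)
    (hUA : A ≤ normalizer (U : Set G)) :
    ∃ S : Subgroup G, SylIn s H S ∧ A ≤ normalizer (S : Set G) ∧ U ≤ S := by
  haveI := Fact.mk hs
  obtain ⟨P, hUP, hPA⟩ := CfsgLib.Coprime.exists_invariant_sylow_ge (h.mem_inv hH) (h.coprimeA hH)
    (Or.inl (isSolvable_elemAb h.hA)) hU hUH hUA
  refine ⟨_, ⟨map_subtype_le _, P.isPGroup'.map _, fun R hRH hR hle => ?_⟩, hPA, hUP⟩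
  have h1 : (P : Subgroup H) ≤ R.subgroupOf H := fun x hx => hle (mem_map_of_mem _ hx)
  have h2 : R.subgroupOf H = (P : Subgroup H) :=
    P.is_maximal' (hR.comap_of_injective H.subtype H.subtype_injective) h1
  rw [← h2, map_subgroupOf_eq_of_le hRH]

/-- A member normalizing the part `U ≠ 1` of `H` serves for the induction step. -/
theorem exists_step {s : ℕ} (hs : s.Prime) {H S U : Subgroup G}
    (hH : H ∈ Cfsg.signalizerFamily p A θ) (hS : SylIn s H S) (hSA : A ≤ normalizer (S : Set G))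
    (hUS : U ≤ S) (hU0 : U ≠ ⊥) (hUA : A ≤ normalizer (U : Set G))
    (hSU : S ≤ normalizer (U : Set G)) :
    ∃ H' ∈ Cfsg.signalizerFamily p A θ, ∃ S' : Subgroup G, H' ≤ normalizer (U : Set G) ∧
      (∀ X ∈ Cfsg.signalizerFamily p A θ, X ≤ normalizer (U : Set G) → X ≤ H') ∧
      SylIn s H' S' ∧ A ≤ normalizer (S' : Set G) ∧ S ≤ S' ∧ U ≤ Cfsg.pCoreOf s H' := by
  have hSm : S ∈ Cfsg.signalizerFamily p A θ := family_mono hH hS.1 hSA
  have hUm : U ∈ Cfsg.signalizerFamily p A θ := family_mono hSm hUS hUA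
  obtain ⟨N, hN, hNn, hall⟩ := h.nl U hUm hU0
  obtain ⟨S', hS', hS'A, hle⟩ := h.exists_sylIn_ge hs hN hS.2.1 (hall S hSm hSU) hSA
  exact ⟨N, hN, S', hNn, hall, hS', hS'A, hle,
    le_core (hall U hUm le_normalizer) hNn (hS.2.1.to_le hUS)⟩

theorem opp_le_centralizer_part {s : ℕ} {H' U : Subgroup G} [Fact s.Prime] (hU : IsPGroup s U)
    (hH' : H' ≤ normalizer (U : Set G)) (hUH : U ≤ H') : U ≤ centralizer (Opp s H' : Set G) := by
  refine le_centralizer_of_disjoint (hUH.trans (opp_norm s H')) ((opp_le s H').trans hH') ?_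
  exact CfsgLib.Coprime.inf_eq_bot_of_coprime
    (coprime_card_of_isPGroup hU (opp_coprime s H'))

theorem pushed_claim {s : ℕ} (hs : s.Prime) {T : Subgroup G}
    (hT : T ∈ Cfsg.signalizerFamily p A θ) (hTs : IsPGroup s T)
    (hTD : Cfsg.signalizerInf A θ ≤ normalizer (T : Set G)) (hTabs : Absorbed p A θ s T)
    (n : ℕ) : ∀ H S : Subgroup G, meas s H S = n → H ∈ Cfsg.signalizerFamily p A θ →
      SylIn s H S → A ≤ normalizer (S : Set G) →
      ∃ Q ∈ Cfsg.signalizerFamily p A θ, IsPGroup s Q ∧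
        (∀ R ∈ Cfsg.signalizerFamily p A θ, IsPGroup s R → Q ≤ R → R = Q) ∧ S ≤ Q ∧
        (OZ s Q ≤ S → OZ s Q ≤ centralizer (Opp s H : Set G) → Pushed s H Q T) := by
  induction n using Nat.strong_induction_on with
  | _ n ih =>
  intro H S hn hH hS hSA
  subst hn
  haveI := Fact.mk hs
  obtain ⟨Y, hY, -, -, hYall, hYmax⟩ := h.exists_prime_member hs
  have hSm : S ∈ Cfsg.signalizerFamily p A θ := family_mono hH hS.1 hSA
  obtain ⟨Q₀, hQ₀, hQ₀s, hSQ₀, hQ₀m⟩ := exists_maximal_member hSm hS.2.1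
  have hTQ : ∀ Q ∈ Cfsg.signalizerFamily p A θ, IsPGroup s Q →
      (∀ R ∈ Cfsg.signalizerFamily p A θ, IsPGroup s R → Q ≤ R → R = Q) → T ≤ Q :=
    fun Q hQ hQs hQm => (hYall T hT hTs hTD).trans (hYmax Q hQ hQs hQm)
  by_cases hSQ : Q₀ = S
  · subst hSQ
    refine ⟨Q₀, hQ₀, hQ₀s, hQ₀m, le_rfl, fun _ _ x hx z hz => mem_centralizer_iff.2 fun t ht => ?_⟩
    have hO := core_le_sylIn hs hS
    have htO : t ∈ Cfsg.pCoreOf s H :=
      hTabs H hH ((hTQ Q₀ hQ₀ hQ₀s hQ₀m).trans hS.1) ht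
    have hzc := CfsgLib.PLocal.omegaOne_le s _ hz
    have h1 : x⁻¹ * t * x ∈ Q₀ := hO ((mem_normalizer_iff''.1 (core_norm s H hx) t).1 htO)
    have h2 : (x⁻¹ * t * x) * z = z * (x⁻¹ * t * x) := mem_centralizer_iff.1 hzc.2 _ h1
    calc t * (x * z * x⁻¹) = x * ((x⁻¹ * t * x) * z) * x⁻¹ := by group
      _ = x * (z * (x⁻¹ * t * x)) * x⁻¹ := by rw [h2]
      _ = _ := by group
  have hHA := h.mem_inv hH
  have hsp : ∀ {X : Subgroup G}, X ∈ Cfsg.signalizerFamily p A θ → IsPGroup s X → X ≠ ⊥ → s ≠ p := by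
    intro X hX hXs hX0 e
    subst e
    obtain ⟨k, hk⟩ := IsPGroup.iff_card.1 hXs
    refine hX.2.1 (hk ▸ dvd_pow_self s fun e => hX0 (card_eq_one.1 (by rw [hk, e, pow_zero])))
  -- the part of `S` over `O_s(H / O_{s'}(H))`
  set V0 := Opp s H with hV0
  obtain ⟨M2, hVM2, hM2H, hM2n, hM2⟩ := exists_core_pre (opp_le s H)
    (normalizer_le_normalizer_opp s H) s
  have hHV0 : H ≤ normalizer (V0 : Set G) := opp_norm s H
  set P2 := S ⊓ M2 with hP2def
  have hP2syl : SylIn s M2 P2 := sylIn_inf hS hM2H (le_normalizer.trans hM2n)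
  have hP2A : A ≤ normalizer (P2 : Set G) :=
    CfsgLib.Comp.le_normalizer_inf hSA (hHA.trans hM2n)
  have hSP2 : S ≤ normalizer (P2 : Set G) :=
    CfsgLib.Comp.le_normalizer_inf le_normalizer ((hS.1.trans le_normalizer).trans hM2n)
  have hM2le : M2 ≤ V0 ⊔ P2 :=
    le_sup_of_qm_pgroup hVM2 (hM2H.trans hHV0) (by rw [hM2]; exact core_pgroup s _) hP2syl
  have hcoreP2 : Cfsg.pCoreOf s H ≤ P2 :=
    le_inf (core_le_sylIn hs hS) (core_le_pre hHV0 hVM2 hM2)
  have hZP2 : ∀ Q : Subgroup G, S ≤ Q → OZ s Q ≤ S → OZ s Q ≤ centralizer (V0 : Set G) →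
      OZ s Q ≤ P2 := by
    intro Q hSQ' hZS hZV
    refine le_inf hZS ?_
    have hZN : OZ s Q ≤ normalizer (V0 : Set G) := (hZS.trans hS.1).trans hHV0
    refine (qm_le_iff hZN hVM2).1 ?_
    rw [hM2, ← fit_qm_opp hs H]
    refine le_trans (le_inf (qm_mono (hZS.trans hS.1)) ?_) (fit_self (isSolvable_qm hHV0 hH.1))
    rw [fit_qm_opp hs H, ← hM2, le_centralizer_iff]
    refine (qm_mono hM2le).trans ?_
    rw [qm_sup le_normalizer ((inf_le_left.trans hS.1).trans hHV0), sup_le_iff]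
    refine ⟨?_, ?_⟩
    · rw [(qm_eq_bot le_normalizer).2 le_rfl]; exact bot_le
    · rw [← commutator_eq_bot_iff_le_centralizer, ← qm_commutator ((inf_le_left.trans hS.1).trans hHV0) hZN,
        qm_eq_bot ((commutator_mono ((inf_le_left.trans hS.1).trans hHV0) hZN).trans (commutator_le_self _)),
        commutator_eq_bot_iff_le_centralizer.2]
      · exact bot_le
      · rw [le_centralizer_iff]
        exact (oz_le_centralizer s Q).trans (centralizer_le (inf_le_left.trans hSQ'))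
  by_cases hP20 : P2 = ⊥
  · refine ⟨Q₀, hQ₀, hQ₀s, hQ₀m, hSQ₀, fun hZS hZV x _ z hz => ?_⟩
    have hz1 : z = 1 := mem_bot.1 (hP20 ▸ hZP2 Q₀ hSQ₀ hZS hZV hz)
    rw [hz1, mul_one, mul_inv_cancel]
    exact one_mem _
  obtain ⟨H₂, hH₂, S₂, hH₂n, hH₂all, hS₂, hS₂A, hSS₂, hP2core⟩ :=
    h.exists_step (U := P2) hs hH hS hSA inf_le_left hP20 hP2A hSP2
  by_cases hsame : P2 = Cfsg.pCoreOf s H ∧ H₂ ≤ H
  swap
  · -- a larger core or a larger member
    have hlt : meas s H₂ S₂ < meas s H S := by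
      refine meas_lt hSS₂ (Or.inr ⟨hcoreP2.trans hP2core, ?_⟩)
      by_cases he : P2 = Cfsg.pCoreOf s H
      · exact Or.inr (lt_of_le_of_ne (hH₂all H hH (by rw [he]; exact core_norm s H))
          fun e => hsame ⟨he, e.ge⟩)
      · exact Or.inl ((lt_of_le_of_ne hcoreP2 (Ne.symm he)).trans_le hP2core)
    obtain ⟨Q, hQ, hQs, hQm, hS₂Q, hQ1⟩ := ih _ hlt H₂ S₂ rfl hH₂ hS₂ hS₂A
    refine ⟨Q, hQ, hQs, hQm, hSS₂.trans hS₂Q, fun hZS hZV => ?_⟩
    have hp1 := hQ1 (hZS.trans hSS₂) ((hZP2 Q (hSS₂.trans hS₂Q) hZS hZV).trans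
      (h.opp_le_centralizer_part hP2syl.2.1 hH₂n
        (hH₂all _ (family_mono hSm inf_le_left hP2A) le_normalizer)))
    intro x hx z hz
    obtain ⟨m, hm, k, hk, hxk⟩ := exists_frattini hP2syl (hM2n (le_normalizer (inv_mem hx)))
    obtain ⟨o, ho, u, hu, hou⟩ :=
      (CfsgLib.Coprime.mem_sup_of_le_normalizer ((inf_le_left.trans hS.1).trans hHV0)).1 (hM2le hm)
    have hoz : o * z * o⁻¹ = z := by
      rw [mem_centralizer_iff.1 (hZV hz) o ho, mul_inv_cancel_right]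
    have hu' : u * k ∈ H ⊓ normalizer (P2 : Set G) := by
      refine ⟨?_, mul_mem (le_normalizer hu) hk⟩
      have : u * k = o⁻¹ * x⁻¹ := by rw [hxk, ← hou]; group
      rw [this]
      exact Subgroup.mul_mem _ (Subgroup.inv_mem _ (opp_le s H ho)) (Subgroup.inv_mem _ hx)
    have hn : (u * k)⁻¹ ∈ H₂ := inv_mem (hH₂all _ (family_mono hH inf_le_left
      (CfsgLib.Comp.le_normalizer_inf hHA (hP2A.trans le_normalizer))) inf_le_right hu')
    have e : x * z * x⁻¹ = (u * k)⁻¹ * z * ((u * k)⁻¹)⁻¹ := by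
      have hx' : x = (u * k)⁻¹ * o⁻¹ := by rw [← inv_inv x, hxk, ← hou]; group
      rw [hx']
      conv_lhs => rw [← hoz]
      group
    rw [e]
    exact hp1 _ hn z hz
  obtain ⟨hP2eq, hH₂H⟩ := hsame
  have hNH : ∀ X ∈ Cfsg.signalizerFamily p A θ, X ≤ normalizer (P2 : Set G) → X ≤ H :=
    fun X hX hXn => (hH₂all X hX hXn).trans hH₂H
  -- `V = Ω₁(Z(O_s(H)))`
  set P := Cfsg.pCoreOf s H with hPdef
  set V := OZ s P with hVdef
  have hNV : normalizer (H : Set G) ≤ normalizer (V : Set G) :=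
    (core_inv le_rfl).trans (normalizer_le_normalizer_oz s P)
  have hHV : H ≤ normalizer (V : Set G) := le_normalizer.trans hNV
  have hVP : V ≤ P := oz_le s P
  have hPV : P ≤ centralizer (V : Set G) := le_centralizer_iff.1 (oz_le_centralizer s P)
  set C := H ⊓ centralizer (V : Set G) with hCdef
  have hCH : C ≤ H := inf_le_left
  have hPC : P ≤ C := le_inf (core_le s H) hPV
  have hNC : normalizer (H : Set G) ≤ normalizer (C : Set G) :=
    CfsgLib.Comp.le_normalizer_inf le_rfl (CfsgLib.Comp.le_normalizer_centralizer hNV)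
  have hHC : H ≤ normalizer (C : Set G) := le_normalizer.trans hNC
  have hZV' : ∀ Q : Subgroup G, S ≤ Q → OZ s Q ≤ S → OZ s Q ≤ centralizer (V0 : Set G) →
      OZ s Q ≤ V := by
    intro Q hSQ' hZS hZ0 z hz
    refine subset_closure ⟨⟨hP2eq ▸ hZP2 Q hSQ' hZS hZ0 hz,
      centralizer_le ((core_le_sylIn hs hS).trans hSQ') (oz_le_centralizer s Q hz)⟩, ?_⟩
    exact (CfsgLib.PLocal.omegaCenter_elemAb Q).2 z hz
  obtain ⟨M3, hCM3, hM3H, hM3n, hM3⟩ := exists_core_pre hCH hNC s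
  set U := S ⊓ M3 with hUdef
  have hUsyl : SylIn s M3 U := sylIn_inf hS hM3H (le_normalizer.trans hM3n)
  have hM3le : M3 ≤ C ⊔ U :=
    le_sup_of_qm_pgroup hCM3 (hM3H.trans hHC) (by rw [hM3]; exact core_pgroup s _) hUsyl
  have hPU : P ≤ U := le_inf (core_le_sylIn hs hS) (hPC.trans hCM3)
  by_cases hUP : U = P
  swap
  · have hUA : A ≤ normalizer (U : Set G) := CfsgLib.Comp.le_normalizer_inf hSA (hHA.trans hM3n)
    have hSU : S ≤ normalizer (U : Set G) :=
      CfsgLib.Comp.le_normalizer_inf le_normalizer ((hS.1.trans le_normalizer).trans hM3n)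
    obtain ⟨H₃, hH₃, S₃, hH₃n, hH₃all, hS₃, hS₃A, hSS₃, hUcore⟩ :=
      h.exists_step (U := U) hs hH hS hSA inf_le_left (fun e => hP20 (le_bot_iff.1
        (hP2eq.le.trans (hPU.trans e.le)))) hUA hSU
    have hlt : meas s H₃ S₃ < meas s H S := meas_lt hSS₃
      (Or.inr ⟨hPU.trans hUcore, Or.inl ((lt_of_le_of_ne hPU (Ne.symm hUP)).trans_le hUcore)⟩)
    obtain ⟨Q, hQ, hQs, hQm, hS₃Q, hQ1⟩ := ih _ hlt H₃ S₃ rfl hH₃ hS₃ hS₃A
    refine ⟨Q, hQ, hQs, hQm, hSS₃.trans hS₃Q, fun hZS hZ0 => ?_⟩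
    have hZV'' := hZV' Q (hSS₃.trans hS₃Q) hZS hZ0
    have hp1 := hQ1 (hZS.trans hSS₃) ((hZV''.trans (hVP.trans hPU)).trans
      (h.opp_le_centralizer_part hUsyl.2.1 hH₃n
        (hH₃all _ (family_mono hSm inf_le_left hUA) le_normalizer)))
    intro x hx z hz
    obtain ⟨m, hm, k, hk, hxk⟩ := exists_frattini hUsyl (hM3n (le_normalizer (inv_mem hx)))
    obtain ⟨c, hc, u, hu, hcu⟩ :=
      (CfsgLib.Coprime.mem_sup_of_le_normalizer ((inf_le_left.trans hS.1).trans hHC)).1 (hM3le hm)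
    have hcz : c * z * c⁻¹ = z := by
      rw [← mem_centralizer_iff.1 hc.2 z (hZV'' hz), mul_inv_cancel_right]
    have hu' : u * k ∈ H ⊓ normalizer (U : Set G) := by
      refine ⟨?_, mul_mem (le_normalizer hu) hk⟩
      have : u * k = c⁻¹ * x⁻¹ := by rw [hxk, ← hcu]; group
      rw [this]
      exact Subgroup.mul_mem _ (Subgroup.inv_mem _ hc.1) (Subgroup.inv_mem _ hx)
    have hn : (u * k)⁻¹ ∈ H₃ := inv_mem (hH₃all _ (family_mono hH inf_le_left
      (CfsgLib.Comp.le_normalizer_inf hHA (hUA.trans le_normalizer))) inf_le_right hu')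
    have e : x * z * x⁻¹ = (u * k)⁻¹ * z * ((u * k)⁻¹)⁻¹ := by
      have hx' : x = (u * k)⁻¹ * c⁻¹ := by rw [← inv_inv x, hxk, ← hcu]; group
      rw [hx']
      conv_lhs => rw [← hcz]
      group
    rw [e]
    exact hp1 _ hn z hz
  -- now `O_s(H / C) = 1` and `P` is a Sylow subgroup of `C`
  have hM3C : M3 ≤ C := hM3le.trans (sup_le le_rfl (hUP.le.trans hPC))
  have hcore : ∀ N ≤ H, H ≤ normalizer (N : Set G) →
      (∀ x ∈ N, ∃ k : ℕ, x ^ s ^ k ∈ centralizer (V : Set G)) → N ≤ centralizer (V : Set G) := by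
    intro N hNH' hn hk
    refine le_trans ?_ (inf_le_right : C ≤ _)
    have hNC' : N ≤ normalizer (C : Set G) := hNH'.trans hHC
    refine (qm_le_iff hNC' le_rfl).1 (le_trans ?_ (qm_mono hM3C))
    rw [hM3]
    refine le_core (qm_mono hNH') (qm_le_normalizer hNC' hHC hn) ?_
    rintro ⟨_, w, hw, rfl⟩
    obtain ⟨k, hk'⟩ := hk _ hw
    refine ⟨k, Subtype.ext ?_⟩
    show (QuotientGroup.mk' _ w) ^ s ^ k = 1
    rw [← map_pow]
    exact (QuotientGroup.eq_one_iff _).2 (show ((w : G)) ^ s ^ k ∈ C from ⟨pow_mem (hNH' hw) _, hk'⟩)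
  have hPmax : ∀ R ≤ C, IsPGroup s R → P ≤ R → R = P := fun R hR hRs hle => by
    have := hUsyl.2.2 R (hR.trans hCM3) hRs (hUP.le.trans hle)
    rw [this, hUP]
  set J := Cfsg.thompsonSubgroupOf s S with hJdef
  have hSb : S ≠ ⊥ := fun e => hP20 (le_bot_iff.1 (e ▸ inf_le_left))
  have hs_p : s ≠ p := hsp hSm hS.2.1 hSb
  have hJS : J ≤ S := CfsgLib.PLocal.thompsonOf_le S
  have hJA : A ≤ normalizer (J : Set G) :=
    hSA.trans (CfsgLib.PLocal.normalizer_le_normalizer_thompsonOf S)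
  have hJm : J ∈ Cfsg.signalizerFamily p A θ := family_mono hSm hJS hJA
  have hJ0 : J ≠ ⊥ := by
    rw [hJdef]
    unfold Cfsg.thompsonSubgroupOf
    rw [Ne, map_eq_bot_iff_of_injective _ S.subtype_injective]
    refine CfsgLib.PLocal.thompson_ne_bot ?_
    obtain ⟨k, hk⟩ := IsPGroup.iff_card.1 hS.2.1
    rw [hk]
    exact dvd_pow_self s fun e => hSb (card_eq_one.1 (by rw [hk, e, pow_zero]))
  obtain ⟨H₁, hH₁, hH₁n, hH₁all⟩ := h.nl J hJm hJ0
  set R := Q₀ ⊓ normalizer (S : Set G)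
  have hRA : A ≤ normalizer (R : Set G) :=
    CfsgLib.Comp.le_normalizer_inf (h.mem_inv hQ₀) (hSA.trans le_normalizer)
  have hSR : S < R := by
    refine lt_of_le_of_ne (le_inf hSQ₀ le_normalizer) fun e => hSQ ?_
    haveI : Group.IsNilpotent Q₀ := hQ₀s.isNilpotent
    by_contra hne
    have hlt : S.subgroupOf Q₀ < ⊤ := lt_top_iff_ne_top.2 fun htop =>
      hne (le_antisymm (subgroupOf_eq_top.1 htop) hSQ₀)
    obtain ⟨y, hy1, hy2⟩ := SetLike.exists_of_lt
      (normalizerCondition_of_isNilpotent (G := Q₀) (S.subgroupOf Q₀) hlt)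
    rw [← subgroupOf_normalizer_eq hSQ₀, mem_subgroupOf] at hy1
    rw [mem_subgroupOf] at hy2
    exact hy2 (e.ge ⟨y.2, hy1⟩)
  have hRm : R ∈ Cfsg.signalizerFamily p A θ := family_mono hQ₀ inf_le_left hRA
  have hRH₁ : R ≤ H₁ := hH₁all R hRm
    (inf_le_right.trans (CfsgLib.PLocal.normalizer_le_normalizer_thompsonOf S))
  obtain ⟨S₁, hS₁, hS₁A, hRS₁⟩ := h.exists_sylIn_ge hs hH₁ (hQ₀s.to_le inf_le_left) hRH₁ hRA
  have hlt : meas s H₁ S₁ < meas s H S :=
    meas_lt (hSR.le.trans hRS₁) (Or.inl (hSR.trans_le hRS₁))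
  obtain ⟨Q, hQ, hQs, hQm, hS₁Q, hQ1⟩ := ih _ hlt H₁ S₁ rfl hH₁ hS₁ hS₁A
  refine ⟨Q, hQ, hQs, hQm, (hSR.le.trans hRS₁).trans hS₁Q, fun hZS hZO => ?_⟩
  set Z := OZ s Q with hZdef
  have hZQ : Z ≤ centralizer (Q : Set G) := (CfsgLib.PLocal.omegaOne_le s _).trans inf_le_right
  have hSQ' : S ≤ Q := (hSR.le.trans hRS₁).trans hS₁Q
  have hZel : Cfsg.IsElementaryAbelian s Z := CfsgLib.PLocal.omegaCenter_elemAb _
  have hZJ : Z ≤ J := by
    intro z hz
    obtain ⟨E, hE⟩ := CfsgLib.PLocal.exists_maxElemIn s S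
    exact CfsgLib.PLocal.le_thompsonOf hE (CfsgLib.PLocal.mem_maxElemIn_of_centralizes hE (hZS hz)
      (hZel.2 z hz) (centralizer_le (hE.1.trans hSQ') (hZQ hz)))
  have hp1 := hQ1 (hZS.trans (hSR.le.trans hRS₁)) (by
    have hJH₁ : J ≤ H₁ := hH₁all J hJm le_normalizer
    have h1 : Opp s H₁ ≤ centralizer (J : Set G) :=
      le_centralizer_of_disjoint ((opp_le s H₁).trans hH₁n) (hJH₁.trans (opp_norm s H₁)) (by
        rw [inf_comm]
        exact CfsgLib.Coprime.inf_eq_bot_of_coprime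
          (coprime_card_of_isPGroup (hS.2.1.to_le hJS) (opp_coprime s H₁)))
    exact hZJ.trans (le_centralizer_iff.1 h1))
  have hZV'' : Z ≤ V := hZV' Q hSQ' hZS hZO
  by_cases hZ0 : Z = ⊥
  · intro x _ z hz
    have hz1 : z = 1 := mem_bot.1 (hZ0 ▸ hz)
    rw [hz1, mul_one, mul_inv_cancel]
    exact one_mem _
  have hZA : A ≤ normalizer (Z : Set G) := (h.mem_inv hQ).trans (normalizer_le_normalizer_oz s Q)
  -- `Λ`, centralized by `T`
  set NJ := H ⊓ normalizer (J : Set G) with hNJ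
  have hNJA : A ≤ normalizer (NJ : Set G) :=
    CfsgLib.Comp.le_normalizer_inf hHA (hJA.trans le_normalizer)
  have hNJH₁ : NJ ≤ H₁ := hH₁all _ (family_mono hH inf_le_left hNJA) inf_le_right
  set Lam := ⨆ k : NJ, Z.map (MulAut.conj (k : G)).toMonoidHom with hLam
  have hLamV : Lam ≤ V := iSup_le fun k =>
    (map_mono hZV'').trans (map_conj_eq_iff.2 (hHV k.2.1)).le
  have hTLam : Lam ≤ centralizer (T : Set G) := iSup_le fun k => by
    rintro _ ⟨z, hz, rfl⟩
    exact hp1 _ (hNJH₁ k.2) z hz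
  have hLamA : A ≤ normalizer (Lam : Set G) := by
    rw [hLam, iSup]
    refine le_normalizer_sSup _ ?_
    rintro a ha _ ⟨k, rfl⟩
    refine ⟨⟨a * k * a⁻¹, (mem_normalizer_iff.1 (hNJA ha) _).1 k.2⟩, ?_⟩
    show Z.map (MulAut.conj (a * k * a⁻¹)).toMonoidHom = _
    conv_lhs => rw [← map_conj_eq_iff.2 (hZA ha), ← map_conj_mul, inv_mul_cancel_right, map_conj_mul]
  set CA := H ⊓ centralizer (A : Set G) with hCA
  have hCAD : CA ≤ normalizer (T : Set G) := (h.piece_le hH le_rfl).trans hTD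
  set W := ⨆ d : CA, Lam.map (MulAut.conj (d : G)).toMonoidHom with hW
  have hWV : W ≤ V := iSup_le fun d => (map_mono hLamV).trans (map_conj_eq_iff.2 (hHV d.2.1)).le
  have hTW : W ≤ centralizer (T : Set G) := iSup_le fun d => by
    rintro _ ⟨y, hy, rfl⟩
    refine mem_centralizer_iff.2 fun t ht => ?_
    show t * ((d : G) * y * (d : G)⁻¹) = (d : G) * y * (d : G)⁻¹ * t
    have h3 := mem_centralizer_iff.1 (hTLam hy) _ ((mem_normalizer_iff''.1 (hCAD d.2) t).1 ht)
    calc t * ((d : G) * y * (d : G)⁻¹) = d * (((d : G)⁻¹ * t * d) * y) * (d : G)⁻¹ := by group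
      _ = d * (y * ((d : G)⁻¹ * t * d)) * (d : G)⁻¹ := by rw [h3]
      _ = _ := by group
  have hWA : A ≤ normalizer (W : Set G) := le_normalizer_iSup _ fun d a ha => by
    rw [← map_conj_eq_iff, ← map_conj_mul, ← mem_centralizer_iff.1 d.2.2 a ha |>.symm, map_conj_mul,
      map_conj_eq_iff.2 (hLamA ha)]
  have hWCA : CA ≤ normalizer (W : Set G) := by
    rw [hW, iSup]
    refine le_normalizer_sSup _ ?_
    rintro g hg _ ⟨d, rfl⟩
    exact ⟨⟨g * d, mul_mem hg d.2⟩, map_conj_mul Lam g d⟩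
  have hWm : W ∈ Cfsg.signalizerFamily p A θ :=
    family_mono hH ((hWV.trans hVP).trans (core_le s H)) hWA
  have hZW : Z ≤ W := by
    refine le_trans ?_ ((map_conj_one Lam).ge.trans
      (le_iSup (fun d : CA => Lam.map (MulAut.conj (d : G)).toMonoidHom) 1))
    exact (map_conj_one Z).ge.trans (le_iSup (fun k : NJ => Z.map (MulAut.conj (k : G)).toMonoidHom) 1)
  obtain ⟨N, hN, hNn, hNall⟩ := h.nl W hWm fun e => hZ0 (le_bot_iff.1 (e ▸ hZW))
  -- the elements centralizing `J(H)` modulo `C`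
  set JG := Cfsg.thompsonSubgroupOf s H with hJG
  have hJJG : J ≤ JG := thompsonOf_sylIn_le hS
  set Lset : Set G := {l | l ∈ H ∧ ∀ g ∈ JG, ⁅l, g⁆ ∈ centralizer (V : Set G)} with hLset
  have hNVc : normalizer (H : Set G) ≤ normalizer ((centralizer (V : Set G) : Subgroup G) : Set G) :=
    CfsgLib.Comp.le_normalizer_centralizer hNV
  have hLinv : ∀ l ∈ Lset, l⁻¹ ∈ Lset := by
    rintro l ⟨hl, hlg⟩
    refine ⟨inv_mem hl, fun g hg => ?_⟩
    have h3 := (mem_normalizer_iff''.1 (hNVc (le_normalizer hl)) _).1 (inv_mem (hlg g hg))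
    have e : ⁅l⁻¹, g⁆ = l⁻¹ * ⁅l, g⁆⁻¹ * l := by
      rw [commutatorElement_def, commutatorElement_def]; group
    rw [e]; exact h3
  have hLconj : ∀ m ∈ normalizer (H : Set G), ∀ l ∈ Lset, m * l * m⁻¹ ∈ Lset := by
    rintro m hm l ⟨hl, hlg⟩
    refine ⟨(mem_normalizer_iff.1 hm l).1 hl, fun g hg => ?_⟩
    have hg' : m⁻¹ * g * m ∈ JG :=
      (mem_normalizer_iff''.1 (CfsgLib.PLocal.normalizer_le_normalizer_thompsonOf H hm) g).1 hg
    have h3 := (mem_normalizer_iff.1 (hNVc hm) _).1 (hlg _ hg')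
    have e : ⁅m * l * m⁻¹, g⁆ = m * ⁅l, m⁻¹ * g * m⁆ * m⁻¹ := by
      rw [commutatorElement_def, commutatorElement_def]; group
    rw [e]; exact h3
  set L := closure Lset with hL
  have hLH : L ≤ H := (closure_le _).2 fun l hl => hl.1
  have hLA : A ≤ normalizer (L : Set G) := by
    have key : ∀ a ∈ A, L.map (MulAut.conj a).toMonoidHom ≤ L := fun a ha => by
      rw [hL, MonoidHom.map_closure, closure_le]
      rintro _ ⟨l, hl, rfl⟩
      exact subset_closure (hLconj a (hHA ha) l hl)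
    intro a ha
    rw [← map_conj_eq_iff]
    refine le_antisymm (key a ha) fun y hy => ?_
    exact ⟨_, key a⁻¹ (inv_mem ha) (mem_map_of_mem _ hy), by simp [mul_assoc]⟩
  -- `L` normalizes `Λ`
  have hJC : J ≤ normalizer (C : Set G) := (hJS.trans hS.1).trans hHC
  set K0 := C ⊔ J with hK0
  have hK0H : K0 ≤ H := sup_le hCH (hJS.trans hS.1)
  have hSK0 : SylIn s K0 (S ⊓ K0) := by
    have hSn : S ≤ normalizer (K0 : Set G) := le_normalizer_sup (hS.1.trans hHC)
      (le_normalizer.trans (CfsgLib.PLocal.normalizer_le_normalizer_thompsonOf S))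
    have hS' : SylIn s (K0 ⊔ S) S := ⟨le_sup_right, hS.2.1, fun R hR hRs hle =>
      hS.2.2 R (hR.trans (sup_le hK0H hS.1)) hRs hle⟩
    exact sylIn_inf hS' le_sup_left (sup_le le_normalizer hSn)
  have hJK0 : Cfsg.thompsonSubgroupOf s (S ⊓ K0) = J :=
    CfsgLib.PLocal.thompsonOf_eq_of_le (le_inf hJS le_sup_right) inf_le_left
  have hLfix : ∀ l ∈ Lset, Lam.map (MulAut.conj l).toMonoidHom ≤ Lam := by
    intro l hl
    have hK0le : ∀ l ∈ Lset, K0.map (MulAut.conj l).toMonoidHom ≤ K0 := by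
      intro l hl
      rw [hK0, Subgroup.map_sup]
      refine sup_le ((map_conj_eq_iff.2 (hHC hl.1)).le.trans le_sup_left) ?_
      rintro _ ⟨j, hj, rfl⟩
      have h1 : ⁅l, j⁆ ∈ C := by
        refine ⟨?_, hl.2 j (hJJG hj)⟩
        rw [commutatorElement_def]
        exact Subgroup.mul_mem _ (Subgroup.mul_mem _ (Subgroup.mul_mem _ hl.1 (hS.1 (hJS hj)))
          (Subgroup.inv_mem _ hl.1)) (Subgroup.inv_mem _ (hS.1 (hJS hj)))
      show l * j * l⁻¹ ∈ _
      rw [show l * j * l⁻¹ = ⁅l, j⁆ * j by rw [commutatorElement_def]; group]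
      exact mul_mem (mem_sup_left h1) (mem_sup_right hj)
    have hlK0 : l ∈ normalizer (K0 : Set G) := by
      rw [← map_conj_eq_iff]
      refine le_antisymm (hK0le l hl) fun y hy => ?_
      exact ⟨_, hK0le _ (hLinv l hl) (mem_map_of_mem _ hy), by simp [mul_assoc]⟩
    obtain ⟨m, hm, k, hk, hlk⟩ := exists_frattini hSK0 hlK0
    obtain ⟨c, hc, j, hj, hcj⟩ := (CfsgLib.Coprime.mem_sup_of_le_normalizer hJC).1 hm
    have hkJ : k ∈ normalizer (J : Set G) := hJK0 ▸
      CfsgLib.PLocal.normalizer_le_normalizer_thompsonOf _ hk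
    have hjk : j * k ∈ NJ := by
      refine ⟨?_, mul_mem (le_normalizer hj) hkJ⟩
      rw [show j * k = c⁻¹ * l by rw [hlk, ← hcj]; group]
      exact Subgroup.mul_mem _ (Subgroup.inv_mem _ hc.1) hl.1
    rw [show l = c * (j * k) by rw [hlk, ← hcj]; group, map_conj_mul, hLam, Subgroup.map_iSup,
      Subgroup.map_iSup]
    refine iSup_le fun k' => ?_
    rw [← map_conj_mul Z (j * k) k']
    refine le_trans ?_ (le_iSup (fun k : NJ => Z.map (MulAut.conj (k : G)).toMonoidHom)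
      ⟨j * k * k', mul_mem hjk k'.2⟩)
    rintro _ ⟨y, hy, rfl⟩
    have hyV : y ∈ V := (map_mono hZV'').trans
      (map_conj_eq_iff.2 (hHV (mul_mem hjk k'.2).1)).le hy
    show c * y * c⁻¹ ∈ _
    rwa [← mem_centralizer_iff.1 hc.2 y hyV, mul_inv_cancel_right]
  have hLW : L ≤ normalizer (W : Set G) := by
    have key : ∀ l ∈ Lset, W.map (MulAut.conj l).toMonoidHom ≤ W := by
      intro l hl
      rw [hW, Subgroup.map_iSup]
      refine iSup_le fun d => ?_
      have hd' : (d : G)⁻¹ * l * d ∈ Lset := by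
        have := hLconj (d : G)⁻¹ (inv_mem (le_normalizer d.2.1)) l hl
        rwa [inv_inv] at this
      refine le_trans ?_ (le_iSup (fun d : CA => Lam.map (MulAut.conj (d : G)).toMonoidHom) d)
      rw [← map_conj_mul, show l * (d : G) = (d : G) * ((d : G)⁻¹ * l * d) by group, map_conj_mul]
      exact map_mono (hLfix _ hd')
    rw [hL, closure_le]
    intro l hl
    show l ∈ normalizer (W : Set G)
    rw [← map_conj_eq_iff]
    refine le_antisymm (key l hl) fun y hy => ?_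
    exact ⟨_, key _ (hLinv l hl) (mem_map_of_mem _ hy), by simp [mul_assoc]⟩
  have hTN : T ≤ N := hNall T hT ((le_centralizer_iff.1 hTW).trans (centralizer_le_normalizer _))
  have hLN : L ≤ N := hNall L (family_mono hH hLH hLA) hLW
  have hPN : P ≤ N := hNall P (h.core_mem hH s)
    ((hPV.trans (centralizer_le hWV)).trans (centralizer_le_normalizer _))
  have hCAN : CA ≤ N := hNall _ (family_mono hH inf_le_left (h.inv_cent_inf hHA le_rfl)) hWCA
  set X := Cfsg.pCoreOf s N with hX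
  have hTX : T ≤ X := hTabs N hN hTN
  have hXA : A ≤ normalizer (X : Set G) := core_inv (h.mem_inv hN)
  have hXn : N ≤ normalizer (X : Set G) := core_norm s N
  have hXs : IsPGroup s X := core_pgroup s N
  have hXH : X ⊓ H ≤ centralizer (V : Set G) := by
    refine key hs_p hH.1 h.hA hHA hH.2.1 (CfsgLib.PLocal.omegaCenter_elemAb P)
      (hVP.trans (core_le s H)) hHV (hHA.trans hNV) hcore inf_le_right (hXs.to_le inf_le_left)
      (CfsgLib.Comp.le_normalizer_inf hXA hHA) ?_ fun l hl hlg => ?_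
    · exact CfsgLib.Comp.le_normalizer_inf (hCAN.trans hXn) (inf_le_left.trans le_normalizer)
    · exact CfsgLib.Comp.le_normalizer_inf ((hLN.trans hXn)) (hLH.trans le_normalizer)
        (subset_closure ⟨hl, hlg⟩)
  have hXHP : X ⊓ H ≤ P := by
    have hPn : P ≤ normalizer ((X ⊓ H : Subgroup G) : Set G) :=
      CfsgLib.Comp.le_normalizer_inf (hPN.trans hXn) ((core_le s H).trans le_normalizer)
    have h1 : IsPGroup s ↥((X ⊓ H : Subgroup G) ⊔ P) :=
      (hXs.to_le inf_le_left).to_sup_of_normal_left' (core_pgroup s H) hPn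
    exact le_sup_left.trans (hPmax _ (sup_le (le_inf inf_le_right hXH) hPC) h1 le_sup_right).le
  set XP := X ⊔ P with hXP
  have hXPn : P ≤ normalizer (X : Set G) := hPN.trans hXn
  have hXPs : IsPGroup s XP := hXs.to_sup_of_normal_left' (core_pgroup s H) hXPn
  have hXPm : XP ∈ Cfsg.signalizerFamily p A θ := family_mono hN (sup_le (core_le s N) hPN)
    (le_normalizer_sup hXA (core_inv hHA))
  have hXleP : X ≤ P := by
    by_contra hne
    haveI : Group.IsNilpotent XP := hXPs.isNilpotent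
    have hlt' : P.subgroupOf XP < ⊤ := lt_top_iff_ne_top.2 fun htop =>
      hne (le_sup_left.trans (subgroupOf_eq_top.1 htop))
    obtain ⟨y, hy1, hy2⟩ := SetLike.exists_of_lt
      (normalizerCondition_of_isNilpotent (G := XP) (P.subgroupOf XP) hlt')
    rw [← subgroupOf_normalizer_eq (le_sup_right : P ≤ XP), mem_subgroupOf] at hy1
    rw [mem_subgroupOf] at hy2
    have hyH : (y : G) ∈ H := by
      refine hNH (XP ⊓ normalizer (P : Set G)) (family_mono hXPm inf_le_left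
        (CfsgLib.Comp.le_normalizer_inf (h.mem_inv hXPm) ((core_inv hHA).trans le_normalizer))) ?_
        ⟨y.2, hy1⟩
      rw [hP2eq]
      exact inf_le_right
    obtain ⟨x, hx, q, hq, e⟩ := (CfsgLib.Coprime.mem_sup_of_le_normalizer hXPn).1 y.2
    refine hy2 (e ▸ mul_mem (hXHP ⟨hx, ?_⟩) hq)
    rw [show x = (y : G) * q⁻¹ by rw [← e, mul_inv_cancel_right]]
    exact Subgroup.mul_mem _ hyH (Subgroup.inv_mem _ (core_le s H hq))
  intro x hx z hz
  refine mem_centralizer_iff.2 fun t ht => ?_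
  exact (mem_centralizer_iff.1 (hPV (hXleP (hTX ht))) _
    ((mem_normalizer_iff.1 (hHV hx) z).1 (hZV'' hz))).symm

/-- Pushing: `T ≤ O_s(M)` for maximal members `M` with `O_q(M) = 1` for `q ≠ s`. -/
theorem pushing {s : ℕ} (hs : s.Prime) {T : Subgroup G}
    (hT : T ∈ Cfsg.signalizerFamily p A θ) (hTs : IsPGroup s T)
    (hTD : Cfsg.signalizerInf A θ ≤ normalizer (T : Set G)) (hTabs : Absorbed p A θ s T)
    {M : Subgroup G} (hM : MaxMem p A θ M)
    (hsingle : ∀ q : ℕ, q.Prime → q ≠ s → Cfsg.pCoreOf q M = ⊥) :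
    T ≤ Cfsg.pCoreOf s M := by
  haveI := Fact.mk hs
  by_cases hM0 : M = ⊥
  · have hTM : T ≤ M := (hM.2 T hT (hM0 ▸ bot_le)).le
    exact hTabs M hM.1 hTM
  set P := Cfsg.pCoreOf s M with hPdef
  have hPA : A ≤ normalizer (P : Set G) := core_inv (h.mem_inv hM.1)
  obtain ⟨S, hS, hSA, hPS⟩ := h.exists_sylIn_ge hs hM.1 (core_pgroup s M) (core_le s M) hPA
  obtain ⟨Q, hQ, hQs, hQm, hSQ, hQ1⟩ := h.pushed_claim hs hT hTs hTD hTabs _ M S rfl hM.1 hS hSA
  have hP0 : P ≠ ⊥ := by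
    obtain ⟨q, hq, hq0⟩ := exists_core_ne_bot hM.1.1 hM0
    have hqs : q = s := by
      by_contra hne
      exact hq0 (hsingle q hq hne)
    rwa [hqs] at hq0
  have hPm : P ∈ Cfsg.signalizerFamily p A θ := family_mono hM.1 (core_le s M) hPA
  set Z := OZ s Q with hZdef
  have hZQ : Z ≤ Q := (CfsgLib.PLocal.omegaOne_le s _).trans inf_le_left
  have hZA : A ≤ normalizer (Z : Set G) := (h.mem_inv hQ).trans (normalizer_le_normalizer_oz s Q)
  have hZm : Z ∈ Cfsg.signalizerFamily p A θ := family_mono hQ hZQ hZA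
  have hZcP : Z ≤ centralizer (P : Set G) :=
    ((CfsgLib.PLocal.omegaOne_le s _).trans inf_le_right).trans (centralizer_le (hPS.trans hSQ))
  have hZM : Z ≤ M := h.le_max_of_norm hM hPm hP0 (core_norm s M) hZm
    (hZcP.trans (centralizer_le_normalizer _))
  have hZS : Z ≤ S := by
    have hn : Z ≤ normalizer (S : Set G) :=
      (((CfsgLib.PLocal.omegaOne_le s _).trans inf_le_right).trans (centralizer_le hSQ)).trans
        (centralizer_le_normalizer _)
    have h1 : IsPGroup s ↥(S ⊔ Z) := hS.2.1.to_sup_of_normal_left' (hQs.to_le hZQ) hn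
    exact le_sup_right.trans (hS.2.2 _ (sup_le hS.1 hZM) h1 le_sup_left).le
  have hOpp : Opp s M = ⊥ := by
    by_contra hne
    have hom : Opp s M ∈ Cfsg.signalizerFamily p A θ := family_mono hM.1 (opp_le s M)
      ((h.mem_inv hM.1).trans (normalizer_le_normalizer_opp s M))
    obtain ⟨q, hq, hq0⟩ := exists_core_ne_bot hom.1 hne
    have hqs : q ≠ s := fun e => hq0 (by
      subst e
      exact (inf_eq_left.2 (core_le q _)).symm.trans (CfsgLib.Coprime.inf_eq_bot_of_coprime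
        (coprime_card_of_isPGroup (core_pgroup q _) (opp_coprime q M))))
    exact hq0 (le_bot_iff.1 ((le_core ((core_le q _).trans (opp_le s M)) (core_inv (opp_norm s M))
      (core_pgroup q _)).trans (hsingle q hq hqs).le))
  have hpush := hQ1 hZS (by rw [hOpp, le_centralizer_iff]; exact bot_le)
  -- the normal subgroup centralized by `T`
  set W := ⨆ x : M, Z.map (MulAut.conj (x : G)).toMonoidHom
  have hWM : W ≤ M := iSup_le fun x =>
    (map_mono hZM).trans (map_conj_eq_iff.2 (le_normalizer x.2)).le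
  have hMW : M ≤ normalizer (W : Set G) := by
    intro g hg
    have key : ∀ g ∈ M, W.map (MulAut.conj g).toMonoidHom ≤ W := by
      intro g hg
      rw [Subgroup.map_iSup]
      refine iSup_le fun x => ?_
      rw [← map_conj_mul]
      exact le_iSup (fun x : M => Z.map (MulAut.conj (x : G)).toMonoidHom) ⟨g * x, mul_mem hg x.2⟩
    rw [← map_conj_eq_iff]
    refine le_antisymm (key g hg) fun y hy => ?_
    exact ⟨_, key g⁻¹ (inv_mem hg) (mem_map_of_mem _ hy), by simp [mul_assoc]⟩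
  have hWA : A ≤ normalizer (W : Set G) := by
    intro a ha
    have key : ∀ a ∈ A, W.map (MulAut.conj a).toMonoidHom ≤ W := by
      intro a ha
      rw [Subgroup.map_iSup]
      refine iSup_le fun x => ?_
      refine le_trans ?_ (le_iSup (fun x : M => Z.map (MulAut.conj (x : G)).toMonoidHom)
        ⟨a * x * a⁻¹, (mem_normalizer_iff.1 (h.mem_inv hM.1 ha) _).1 x.2⟩)
      rw [← map_conj_mul]
      show Z.map (MulAut.conj (a * x)).toMonoidHom ≤ Z.map (MulAut.conj (a * x * a⁻¹)).toMonoidHom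
      conv_rhs => rw [← map_conj_eq_iff.2 (hZA ha), ← map_conj_mul, inv_mul_cancel_right]
    rw [← map_conj_eq_iff]
    refine le_antisymm (key a ha) fun y hy => ?_
    exact ⟨_, key a⁻¹ (inv_mem ha) (mem_map_of_mem _ hy), by simp [mul_assoc]⟩
  have hZ0 : Z ≠ ⊥ := by
    intro e
    have hQ0 : Q ≠ ⊥ := fun e' => hP0 (le_bot_iff.1 (e' ▸ hPS.trans hSQ))
    haveI : Nontrivial Q := (nontrivial_iff_ne_bot Q).2 hQ0
    haveI := hQs.center_nontrivial
    obtain ⟨z, hz⟩ := exists_prime_orderOf_dvd_card' (G := center Q) s (by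
      obtain ⟨k, hk⟩ := IsPGroup.iff_card.1 (hQs.to_subgroup (center Q))
      rw [hk]
      refine dvd_pow_self s fun e0 => ?_
      rw [e0, pow_zero] at hk
      exact not_subsingleton (center Q) (Nat.card_eq_one_iff_unique.1 hk).1)
    have hzZ : ((z : Q) : G) ∈ Z := by
      refine subset_closure ⟨⟨(z : Q).2, fun y hy => ?_⟩, ?_⟩
      · exact congrArg Subtype.val (mem_center_iff.1 z.2 ⟨y, hy⟩)
      · have h1 := pow_orderOf_eq_one z
        rw [hz] at h1
        exact congrArg (fun w : center Q => ((w : Q) : G)) h1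
    rw [e, mem_bot] at hzZ
    rw [show z = 1 from Subtype.ext (Subtype.ext hzZ), orderOf_one] at hz
    exact hs.one_lt.ne hz
  have hW0 : W ≠ ⊥ := fun e => hZ0 (le_bot_iff.1 (e ▸ ((map_conj_one Z).ge.trans (le_iSup
    (fun x : M => Z.map (MulAut.conj (x : G)).toMonoidHom) 1))))
  have hTW : T ≤ normalizer (W : Set G) := by
    refine le_trans ?_ (centralizer_le_normalizer _)
    rw [le_centralizer_iff]
    refine iSup_le fun x => ?_
    rintro _ ⟨z, hz, rfl⟩
    exact hpush x x.2 z hz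
  exact hTabs M hM.1 (h.le_max_of_norm hM (family_mono hM.1 hWM hWA) hW0 hMW hT hTW)

end Min

end CfsgLib.Comp.SFT
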