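import Cfsg.Agent.Lib.Comp.Transitivity
import Cfsg.Agent.Lib.Coprime.Hall

/-!
Subgroups of the normalizer of `V`, viewed modulo `V`.
-/

set_option autoImplicit false
set_option linter.style.haveILetI false
set_option linter.unusedSectionVars false

universe u

namespace CfsgLib.Comp.SFT

open Subgroup
open scoped commutatorElement

variable {G : Type u} [Group G]

/-- `N(V) / V`. -/
abbrev QN (V : Subgroup G) : Type u :=
  ↥(normalizer (V : Set G)) ⧸ V.subgroupOf (normalizer (V : Set G))

/-- The image of `H ∩ N(V)` in `N(V) / V`. -/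
noncomputable def qm (V H : Subgroup G) : Subgroup (QN V) :=
  (H.subgroupOf (normalizer (V : Set G))).map
    (QuotientGroup.mk' (V.subgroupOf (normalizer (V : Set G))))

variable {V : Subgroup G}

/-- The projection of an element of `N(V)`. -/
noncomputable def qx (V : Subgroup G) (x : G) (hx : x ∈ normalizer (V : Set G)) : QN V :=
  QuotientGroup.mk' _ ⟨x, hx⟩

theorem qx_mem {H : Subgroup G} {x : G} (hx : x ∈ normalizer (V : Set G)) (h : x ∈ H) :
    qx V x hx ∈ qm V H := mem_map_of_mem _ h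

theorem qx_eq_one {x : G} (hx : x ∈ normalizer (V : Set G)) : qx V x hx = 1 ↔ x ∈ V :=
  QuotientGroup.eq_one_iff _

theorem qm_mono {H K : Subgroup G} (h : H ≤ K) : qm V H ≤ qm V K :=
  map_mono (comap_mono h)

theorem qm_eq_bot {H : Subgroup G} (hH : H ≤ normalizer (V : Set G)) :
    qm V H = ⊥ ↔ H ≤ V := by
  rw [qm, Subgroup.map_eq_bot_iff, QuotientGroup.ker_mk']
  exact ⟨fun h x hx => h (show (⟨x, hH hx⟩ : ↥(normalizer (V : Set G))) ∈ H.subgroupOf _ from hx),
    fun h => comap_mono h⟩

theorem qm_le_iff {H K : Subgroup G} (hH : H ≤ normalizer (V : Set G))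
    (hVK : V ≤ K) : qm V H ≤ qm V K ↔ H ≤ K := by
  refine ⟨fun h x hx => ?_, qm_mono⟩
  obtain ⟨⟨y, hy⟩, hyK, hxy⟩ := h (qx_mem (hH hx) hx)
  have h2 := (QuotientGroup.eq).1 hxy
  rw [mem_subgroupOf] at h2
  simpa using mul_mem (show y ∈ K from hyK) (hVK h2)

theorem card_qm_dvd (H : Subgroup G) : Nat.card (qm V H) ∣ Nat.card H := by
  refine (card_map_dvd _ _).trans ?_
  have h : H.subgroupOf (normalizer (V : Set G)) =
      (H ⊓ normalizer (V : Set G)).subgroupOf (normalizer (V : Set G)) := by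
    rw [inf_subgroupOf_right]
  rw [h, CfsgLib.Coprime.card_subgroupOf inf_le_right]
  exact card_dvd_of_le inf_le_left

theorem isPGroup_qm {r : ℕ} {H : Subgroup G} (h : IsPGroup r H) : IsPGroup r (qm V H) :=
  (h.comap_of_injective _ (normalizer (V : Set G)).subtype_injective).map _

theorem isSolvable_qm {H : Subgroup G} (hH : H ≤ normalizer (V : Set G))
    (h : Group.IsSolvable H) : Group.IsSolvable (qm V H) :=
  CfsgLib.Coprime.isSolvable_map _ (CfsgLib.Coprime.isSolvable_subgroupOf hH h)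

theorem qm_commutator {H K : Subgroup G} (hH : H ≤ normalizer (V : Set G))
    (hK : K ≤ normalizer (V : Set G)) : qm V ⁅H, K⁆ = ⁅qm V H, qm V K⁆ := by
  have h : ⁅H, K⁆ ≤ normalizer (V : Set G) :=
    (commutator_mono hH hK).trans (commutator_le_self _)
  rw [qm, qm, qm, ← Subgroup.map_commutator]
  congr 1
  apply map_injective (normalizer (V : Set G)).subtype_injective
  rw [Subgroup.map_commutator, map_subgroupOf_eq_of_le h, map_subgroupOf_eq_of_le hH,
    map_subgroupOf_eq_of_le hK]

theorem qm_le_normalizer {H K : Subgroup G} (hH : H ≤ normalizer (V : Set G))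
    (hK : K ≤ normalizer (V : Set G)) (h : K ≤ normalizer (H : Set G)) :
    qm V K ≤ normalizer (qm V H : Set (QN V)) := by
  rintro _ ⟨k, hk, rfl⟩
  refine le_normalizer_map _ (mem_map_of_mem _ ?_)
  rw [← subgroupOf_normalizer_eq hH]
  exact h hk

theorem qm_fix [Finite G] {H A : Subgroup G} (hH : H ≤ normalizer (V : Set G))
    (hA : A ≤ normalizer (V : Set G)) (hAH : A ≤ normalizer (H : Set G))
    (hcop : (Nat.card A).Coprime (Nat.card H)) (hs : Group.IsSolvable A) :
    qm V (H ⊓ centralizer (A : Set G)) = qm V H ⊓ centralizer (qm V A : Set (QN V)) := by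
  set N := normalizer (V : Set G) with hN
  have h1 := CfsgLib.Coprime.map_inf_centralizer (QuotientGroup.mk' (V.subgroupOf N))
    (A := A.subgroupOf N) (G := H.subgroupOf N)
    (by
      rw [← subgroupOf_normalizer_eq hH]
      exact comap_mono hAH)
    (by rw [CfsgLib.Coprime.card_subgroupOf hA, CfsgLib.Coprime.card_subgroupOf hH]; exact hcop)
    (Or.inl (CfsgLib.Coprime.isSolvable_subgroupOf hA hs))
  have h2 : H.subgroupOf N ⊓ centralizer (A.subgroupOf N : Set N) =
      (H ⊓ centralizer (A : Set G)).subgroupOf N := by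
    ext x
    refine and_congr Iff.rfl ⟨fun h a ha => ?_, fun h a ha => ?_⟩
    · exact congrArg Subtype.val (h ⟨a, hA ha⟩ ha)
    · exact Subtype.ext (h (a : G) ha)
  rw [h2] at h1
  exact h1

theorem exists_qm_eq (Y : Subgroup (QN V)) :
    ∃ H : Subgroup G, V ≤ H ∧ H ≤ normalizer (V : Set G) ∧ qm V H = Y := by
  refine ⟨(Y.comap (QuotientGroup.mk' _)).map (normalizer (V : Set G)).subtype, ?_, map_subtype_le _, ?_⟩
  · intro v hv
    refine ⟨⟨v, le_normalizer hv⟩, ?_, rfl⟩
    show QuotientGroup.mk' (V.subgroupOf (normalizer (V : Set G))) ⟨v, le_normalizer hv⟩ ∈ Y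
    rw [show QuotientGroup.mk' (V.subgroupOf (normalizer (V : Set G))) ⟨v, le_normalizer hv⟩ = 1 from
      (QuotientGroup.eq_one_iff _).2 hv]
    exact one_mem Y
  · show Subgroup.map _ (Subgroup.comap (normalizer (V : Set G)).subtype _) = Y
    rw [comap_map_eq_self_of_injective (normalizer (V : Set G)).subtype_injective,
      map_comap_eq_self_of_surjective (QuotientGroup.mk'_surjective _)]

theorem card_qm [Finite G] {H : Subgroup G} (hVH : V ≤ H) (hH : H ≤ normalizer (V : Set G)) :
    Nat.card (qm V H) * Nat.card V = Nat.card H := by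
  have h := CfsgLib.Coprime.card_map_mul_card_ker
    (QuotientGroup.mk' (V.subgroupOf (normalizer (V : Set G))))
    (S := H.subgroupOf (normalizer (V : Set G)))
  rw [QuotientGroup.ker_mk'] at h
  have h' := h (comap_mono hVH)
  rw [CfsgLib.Coprime.card_subgroupOf hH, CfsgLib.Coprime.card_subgroupOf le_normalizer] at h'
  exact h'

theorem qm_sup [Finite G] {H K : Subgroup G} (hH : H ≤ normalizer (V : Set G))
    (hK : K ≤ normalizer (V : Set G)) : qm V (H ⊔ K) = qm V H ⊔ qm V K := by
  rw [qm, qm, qm, subgroupOf_sup hH hK, Subgroup.map_sup]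

theorem qm_zpowers {x : G} (hx : x ∈ normalizer (V : Set G)) :
    qm V (zpowers x) = zpowers (qx V x hx) := by
  rw [qm, qx, ← MonoidHom.map_zpowers]
  congr 1
  apply map_injective (normalizer (V : Set G)).subtype_injective
  rw [map_subgroupOf_eq_of_le (zpowers_le.2 hx), MonoidHom.map_zpowers]
  rfl

theorem qm_iSup_le {ι : Type*} {H : Subgroup G} {f : ι → Subgroup G} (hH : H ≤ normalizer (V : Set G))
    (h : H = ⨆ i, f i) {T : Subgroup (QN V)} (hT : ∀ i, qm V (f i) ≤ T) : qm V H ≤ T := by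
  have hle : H ≤ (T.comap (QuotientGroup.mk' _)).map (normalizer (V : Set G)).subtype := by
    rw [h]
    refine iSup_le fun i x hx => ?_
    have hfi : f i ≤ H := h ▸ le_iSup f i
    exact ⟨⟨x, hH (hfi hx)⟩, hT i (qx_mem _ hx), rfl⟩
  rintro _ ⟨⟨x, hx⟩, hxH, rfl⟩
  obtain ⟨y, hy, hxy⟩ := hle hxH
  have e : y = ⟨x, hx⟩ := Subtype.ext hxy
  exact e ▸ hy

end CfsgLib.Comp.SFT
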