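import Cfsg.Agent.Lib.Comp.SFT.Gen
import Cfsg.Agent.Lib.Comp.SFT.Cores
import Cfsg.Agent.Lib.Comp.SolvableClosure
import Cfsg.Agent.Lib.PLocal.Replace

/-!
A minimal counterexample to the solvable signalizer functor theorem: lines and points, the
largest `σ`-member invariant under `θ(A)`, and the lines missing a point.
-/

set_option autoImplicit false
set_option linter.style.haveILetI false
set_option linter.unusedSectionVars false

universe u

namespace CfsgLib.Comp.SFT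

open Subgroup

variable {G : Type u} [Group G]

/-- A hyperplane of `A`. -/
def Line (p : ℕ) (A B : Subgroup G) : Prop := B ≤ A ∧ B.relIndex A = p

/-- A maximal member. -/
def MaxMem (p : ℕ) (A : Subgroup G) (θ : G → Subgroup G) (M : Subgroup G) : Prop :=
  M ∈ Cfsg.signalizerFamily p A θ ∧ ∀ X ∈ Cfsg.signalizerFamily p A θ, M ≤ X → X = M

/-- Group orders with all prime divisors in `σ`. -/
def PiGroup (σ : Set ℕ) (X : Subgroup G) : Prop :=
  ∀ q : ℕ, q.Prime → q ∣ Nat.card X → q ∈ σ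

/-- What a minimal counterexample satisfies. -/
structure Min (p : ℕ) (A : Subgroup G) (θ : G → Subgroup G) : Prop where
  hA : Cfsg.IsElementaryAbelian p A
  hA3 : Nat.card A = p ^ 3
  hθ : Cfsg.IsSolvableSignalizerFunctor p A θ
  nl : ∀ Y ∈ Cfsg.signalizerFamily p A θ, Y ≠ ⊥ → ∃ N ∈ Cfsg.signalizerFamily p A θ,
    N ≤ normalizer (Y : Set G) ∧
      ∀ X ∈ Cfsg.signalizerFamily p A θ, X ≤ normalizer (Y : Set G) → X ≤ N
  not_all : ∀ X ∈ Cfsg.signalizerFamily p A θ, ¬ ∀ a ∈ A, a ≠ 1 → θ a ≤ X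
  smaller : ∀ φ : G → Subgroup G, Cfsg.IsSolvableSignalizerFunctor p A φ →
    (∀ a ∈ A, a ≠ 1 → φ a ≤ θ a) → (∃ a ∈ A, a ≠ 1 ∧ φ a ≠ θ a) →
    ∃ X : Subgroup G, Group.IsSolvable X ∧ ¬ p ∣ Nat.card X ∧ ∀ a ∈ A, a ≠ 1 → φ a ≤ X

variable [Finite G] {p : ℕ} [hp : Fact p.Prime] {A : Subgroup G} {θ : G → Subgroup G}

theorem piGroup_mono {σ : Set ℕ} {X Y : Subgroup G} (h : X ≤ Y) (hY : PiGroup σ Y) : PiGroup σ X :=
  fun q hq hd => hY q hq (hd.trans (card_dvd_of_le h))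

theorem piGroup_of_pgroup {σ : Set ℕ} {s : ℕ} (hs : s.Prime) (hsσ : s ∈ σ) {X : Subgroup G}
    (hX : IsPGroup s X) : PiGroup σ X := by
  intro q hq hd
  haveI := Fact.mk hs
  obtain ⟨n, hn⟩ := IsPGroup.iff_card.1 hX
  rw [hn] at hd
  rwa [(Nat.prime_dvd_prime_iff_eq hq hs).1 (hq.dvd_of_dvd_pow hd)]

theorem pgroup_of_piGroup {s : ℕ} (hs : s.Prime) {X : Subgroup G} (hX : PiGroup {s} X) :
    IsPGroup s X := by
  haveI := Fact.mk hs
  exact IsPGroup.of_card
    (Nat.eq_prime_pow_of_unique_prime_dvd Nat.card_pos.ne' fun {d} hq hd => (show d = s from hX d hq hd))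

theorem card_sup_piGroup {σ : Set ℕ} {X Y : Subgroup G} (hn : Y ≤ normalizer (X : Set G))
    (hX : PiGroup σ X) (hY : PiGroup σ Y) : PiGroup σ (X ⊔ Y) := fun q hq hd =>
  (hq.dvd_mul.1 (hd.trans (card_sup_dvd_mul hn))).elim (hX q hq) (hY q hq)

namespace Min

variable (h : Min p A θ)

include h

theorem commA {a b : G} (ha : a ∈ A) (hb : b ∈ A) : a * b = b * a :=
  congrArg Subtype.val (h.hA.1.is_comm.comm ⟨a, ha⟩ ⟨b, hb⟩)

theorem A_le_centralizer {S : Subgroup G} (hS : S ≤ A) : A ≤ centralizer (S : Set G) :=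
  fun _ ha => mem_centralizer_iff.2 fun _ hb => h.commA (hS hb) ha

theorem A_ne_bot : A ≠ ⊥ := fun e => by
  have h3 := h.hA3
  rw [e, card_bot] at h3
  exact (Nat.one_lt_pow (by norm_num) hp.out.one_lt).ne h3

theorem A3 : p ^ 3 ≤ Nat.card A := h.hA3.ge

theorem orderOf_point {a : G} (ha : a ∈ A) (ha1 : a ≠ 1) : orderOf a = p :=
  orderOf_eq_prime (h.hA.2 a ha) ha1

theorem mem_inv {X : Subgroup G} (hX : X ∈ Cfsg.signalizerFamily p A θ) :
    A ≤ normalizer (X : Set G) := le_normalizer_of_conj_mem hX.2.2.1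

theorem coprimeA {X : Subgroup G} (hX : X ∈ Cfsg.signalizerFamily p A θ) :
    (Nat.card A).Coprime (Nat.card X) := coprime_card_elemAb h.hA hX.2.1

theorem coprime_p {X : Subgroup G} (hX : X ∈ Cfsg.signalizerFamily p A θ) :
    (Nat.card X).Coprime p := (hp.out.coprime_iff_not_dvd.2 hX.2.1).symm

theorem theta_mem {a : G} (ha : a ∈ A) (ha1 : a ≠ 1) : θ a ∈ Cfsg.signalizerFamily p A θ :=
  theta_mem_family h.hθ ha ha1

theorem theta_le_cent {a : G} (ha : a ∈ A) (ha1 : a ≠ 1) : θ a ≤ centralizer ({a} : Set G) :=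
  h.hθ.1.1 a ha ha1

theorem D_mem : Cfsg.signalizerInf A θ ∈ Cfsg.signalizerFamily p A θ :=
  signalizerInf_mem_family h.hA h.hθ le_rfl h.A_ne_bot

theorem D_le {a : G} (ha : a ∈ A) (ha1 : a ≠ 1) : Cfsg.signalizerInf A θ ≤ θ a :=
  signalizerInf_le ha ha1

theorem D_cent : Cfsg.signalizerInf A θ ≤ centralizer (A : Set G) :=
  signalizerInf_le_centralizer h.hθ.1 le_rfl h.A_ne_bot

theorem inv_cent_inf {X S : Subgroup G} (hX : A ≤ normalizer (X : Set G)) (hS : S ≤ A) :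
    A ≤ normalizer ((X ⊓ centralizer (S : Set G) : Subgroup G) : Set G) :=
  CfsgLib.Comp.le_normalizer_inf hX ((h.A_le_centralizer hS).trans le_normalizer)

theorem inv_cent {S : Subgroup G} (hS : S ≤ A) :
    A ≤ normalizer ((centralizer (S : Set G) : Subgroup G) : Set G) :=
  (h.A_le_centralizer hS).trans le_normalizer

theorem inv_cent_point {a : G} (ha : a ∈ A) :
    A ≤ normalizer ((centralizer ({a} : Set G) : Subgroup G) : Set G) := by
  rw [← centralizer_zpowers a]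
  exact h.inv_cent (zpowers_le.2 ha)

theorem inv_comm {X S : Subgroup G} (hX : A ≤ normalizer (X : Set G)) (hS : S ≤ A) :
    A ≤ normalizer ((⁅X, S⁆ : Subgroup G) : Set G) := by
  intro a ha
  rw [← map_conj_eq_iff, Subgroup.map_commutator, map_conj_eq_iff.2 (hX ha),
    map_conj_eq_iff.2 (centralizer_le_normalizer _ (h.A_le_centralizer hS ha))]

theorem comm_le {X : Subgroup G} (hX : X ∈ Cfsg.signalizerFamily p A θ) {S : Subgroup G}
    (hS : S ≤ A) : ⁅X, S⁆ ≤ X := commutator_le_of_le_normalizer (hS.trans (h.mem_inv hX))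

theorem cop_sub {X S : Subgroup G} (hX : X ∈ Cfsg.signalizerFamily p A θ) (hS : S ≤ A) :
    (Nat.card S).Coprime (Nat.card X) := (h.coprimeA hX).coprime_dvd_left (card_dvd_of_le hS)

theorem solvable_sub {S : Subgroup G} (hS : S ≤ A) : Group.IsSolvable S :=
  isSolvable_elemAb (elemAb_mono h.hA hS)

theorem comm_sup_cent {X : Subgroup G} (hX : X ∈ Cfsg.signalizerFamily p A θ) {S : Subgroup G}
    (hS : S ≤ A) : ⁅X, S⁆ ⊔ (X ⊓ centralizer (S : Set G)) = X :=
  CfsgLib.Coprime.commutator_sup_centralizer (hS.trans (h.mem_inv hX)) (h.cop_sub hX hS)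
    (Or.inl (h.solvable_sub hS))

theorem comm_comm {X : Subgroup G} (hX : X ∈ Cfsg.signalizerFamily p A θ) {S : Subgroup G}
    (hS : S ≤ A) : ⁅⁅X, S⁆, S⁆ = ⁅X, S⁆ :=
  CfsgLib.Coprime.commutator_commutator_eq (hS.trans (h.mem_inv hX)) (h.cop_sub hX hS)
    (Or.inl (h.solvable_sub hS))

/-! ### Lines -/

theorem line_card {B : Subgroup G} (hB : Line p A B) : Nat.card B = p ^ 2 := by
  have h1 := relIndex_mul_relIndex ⊥ B A bot_le hB.1
  rw [relIndex_bot_left, relIndex_bot_left, hB.2, h.hA3, pow_succ] at h1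
  exact Nat.eq_of_mul_eq_mul_right hp.out.pos h1

theorem line_ne_bot {B : Subgroup G} (hB : Line p A B) : B ≠ ⊥ := fun e => by
  have h2 := h.line_card hB
  rw [e, card_bot] at h2
  exact (Nat.one_lt_pow (by norm_num) hp.out.one_lt).ne h2

theorem line_elem {B : Subgroup G} (hB : Line p A B) : Cfsg.IsElementaryAbelian p B :=
  elemAb_mono h.hA hB.1

theorem line_ncyc {B : Subgroup G} (hB : Line p A B) : ¬ IsCyclic B :=
  not_isCyclic_elemAb (h.line_elem hB) (h.line_card hB).ge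

theorem line_of_card {B : Subgroup G} (hB : B ≤ A) (hc : Nat.card B = p ^ 2) : Line p A B := by
  refine ⟨hB, ?_⟩
  have h1 := relIndex_mul_relIndex ⊥ B A bot_le hB
  rw [relIndex_bot_left, relIndex_bot_left, h.hA3, hc, pow_succ p 2] at h1
  exact Nat.eq_of_mul_eq_mul_left (pow_pos hp.out.pos 2) h1

theorem exists_common {B B' : Subgroup G} (hB : Line p A B) (hB' : Line p A B') :
    ∃ c, c ∈ B ∧ c ∈ B' ∧ c ≠ 1 := by
  have hB0 : B ⊓ B' ≠ ⊥ := by
    intro e
    have h1 := relIndex_inf_le (L := A) (H := B) (K := B')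
    rw [e, relIndex_bot_left, hB.2, hB'.2, h.hA3] at h1
    have h2 : p * p < p ^ 3 := by
      rw [← pow_two]; exact Nat.pow_lt_pow_right hp.out.one_lt (by norm_num)
    omega
  obtain ⟨c, hc, hc1⟩ := exists_mem_ne_one hB0
  exact ⟨c, hc.1, hc.2, hc1⟩

theorem zpowers_eq_of_mem {a b : G} (ha : a ∈ A) (ha1 : a ≠ 1) (hb1 : b ≠ 1) (hb : b ∈ zpowers a) :
    zpowers b = zpowers a := by
  refine eq_of_le_of_card_ge (zpowers_le.2 hb) ?_
  rw [Nat.card_zpowers, Nat.card_zpowers, h.orderOf_point ha ha1,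
    h.orderOf_point (zpowers_le.2 ha hb) hb1]

theorem span_line {a b : G} (ha : a ∈ A) (ha1 : a ≠ 1) (hb : b ∈ A) (hba : b ∉ zpowers a) :
    Line p A (zpowers a ⊔ zpowers b) := by
  have hb1 : b ≠ 1 := fun e => hba (e ▸ one_mem _)
  have hle : zpowers a ⊔ zpowers b ≤ A := sup_le (zpowers_le.2 ha) (zpowers_le.2 hb)
  refine h.line_of_card hle ?_
  have hn : zpowers b ≤ normalizer (zpowers a : Set G) :=
    (zpowers_le.2 ((h.A_le_centralizer (zpowers_le.2 ha)) hb)).trans (centralizer_le_normalizer _)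
  have hinf : zpowers a ⊓ zpowers b = ⊥ := by
    by_contra hne
    obtain ⟨x, hx, hx1⟩ := exists_mem_ne_one hne
    apply hba
    rw [← h.zpowers_eq_of_mem ha ha1 hx1 hx.1, h.zpowers_eq_of_mem hb hb1 hx1 hx.2]
    exact mem_zpowers b
  rw [CfsgLib.Coprime.card_sup_of_inf_eq_bot hn (by rw [inf_comm]; exact hinf),
    Nat.card_zpowers, Nat.card_zpowers, h.orderOf_point ha ha1, h.orderOf_point hb hb1, pow_two]

theorem exists_line_mem {a b : G} (ha : a ∈ A) (hb : b ∈ A) : ∃ B, Line p A B ∧ a ∈ B ∧ b ∈ B := by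
  have hbig : ∀ S : Subgroup G, Nat.card S < p ^ 3 → ∃ x ∈ A, x ∉ S := fun S hS => by
    by_contra hc
    push Not at hc
    have := card_le_of_le (show A ≤ S from hc)
    rw [h.hA3] at this
    omega
  by_cases ha1 : a = 1
  · by_cases hb1 : b = 1
    · obtain ⟨x, hx, hx1⟩ := hbig ⊥ (by rw [card_bot]; exact Nat.one_lt_pow (by norm_num) hp.out.one_lt)
      obtain ⟨y, hy, hy1⟩ := hbig (zpowers x) (by
        rw [Nat.card_zpowers, h.orderOf_point hx (fun e => hx1 (e ▸ one_mem _))]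
        exact lt_self_pow₀ hp.out.one_lt (by norm_num))
      exact ⟨_, h.span_line hx (fun e => hx1 (e ▸ one_mem _)) hy hy1, ha1 ▸ one_mem _, hb1 ▸ one_mem _⟩
    · obtain ⟨y, hy, hy1⟩ := hbig (zpowers b) (by
        rw [Nat.card_zpowers, h.orderOf_point hb hb1]
        exact lt_self_pow₀ hp.out.one_lt (by norm_num))
      exact ⟨_, h.span_line hb hb1 hy hy1, ha1 ▸ one_mem _, mem_sup_left (mem_zpowers b)⟩
  by_cases hba : b ∈ zpowers a
  · obtain ⟨y, hy, hy1⟩ := hbig (zpowers a) (by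
      rw [Nat.card_zpowers, h.orderOf_point ha ha1]
      exact lt_self_pow₀ hp.out.one_lt (by norm_num))
    exact ⟨_, h.span_line ha ha1 hy hy1, mem_sup_left (mem_zpowers a), mem_sup_left hba⟩
  · exact ⟨_, h.span_line ha ha1 hb hba, mem_sup_left (mem_zpowers a), mem_sup_right (mem_zpowers b)⟩

/-- A line and a point off it generate `A`. -/
theorem line_sup {B : Subgroup G} (hB : Line p A B) {e : G} (he : e ∈ A) (heB : e ∉ B) :
    B ⊔ zpowers e = A := by
  have hle : B ⊔ zpowers e ≤ A := sup_le hB.1 (zpowers_le.2 he)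
  have h1 := relIndex_mul_relIndex B (B ⊔ zpowers e) A le_sup_left hle
  rw [hB.2] at h1
  rcases (Nat.dvd_prime hp.out).1 ⟨_, h1.symm⟩ with hc | hc
  · exact absurd (relIndex_eq_one.1 hc (mem_sup_right (mem_zpowers e))) heB
  · rw [hc] at h1
    exact le_antisymm hle (relIndex_eq_one.1 (Nat.eq_of_mul_eq_mul_left hp.out.pos (h1.trans (mul_one p).symm)))

theorem cent_line_off {X B : Subgroup G} (hB : Line p A B) {e : G} (he : e ∈ A) (heB : e ∉ B) :
    X ⊓ centralizer (B : Set G) ⊓ centralizer ({e} : Set G) = X ⊓ centralizer (A : Set G) := by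
  rw [← centralizer_zpowers e, inf_assoc, ← CfsgLib.PLocal.centralizer_sup_eq, h.line_sup hB he heB]

/-! ### Generation and membership -/

theorem mem_gen {X : Subgroup G} (hX : X ∈ Cfsg.signalizerFamily p A θ) :
    X = ⨆ B : {B : Subgroup G // Line p A B}, X ⊓ centralizer ((B : Subgroup G) : Set G) :=
  eq_iSup_centralizer_hyperplane h.hA h.A_ne_bot hX.2.1 (h.mem_inv hX)

theorem line_gen {X K : Subgroup G} (hXp : ¬ p ∣ Nat.card X) (hK : Line p A K)
    (hKX : K ≤ normalizer (X : Set G)) :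
    (⨆ c : {c : G // c ∈ K ∧ c ≠ 1}, X ⊓ centralizer ({(c : G)} : Set G)) = X :=
  CfsgLib.Coprime.iSup_centralizer_eq (h.line_elem hK).1 (h.line_ncyc hK) hKX
    (coprime_card_elemAb (h.line_elem hK) hXp)

theorem piece_le {X S : Subgroup G} (hX : X ∈ Cfsg.signalizerFamily p A θ) (hS : S ≤ A) :
    X ⊓ centralizer (S : Set G) ≤ Cfsg.signalizerInf S θ := family_inf_centralizer_le hX hS

theorem piece_le_theta {X S : Subgroup G} (hX : X ∈ Cfsg.signalizerFamily p A θ) (hS : S ≤ A)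
    {b : G} (hb : b ∈ S) (hb1 : b ≠ 1) : X ⊓ centralizer (S : Set G) ≤ θ b :=
  (h.piece_le hX hS).trans (signalizerInf_le hb hb1)

theorem point_le_theta {X : Subgroup G} (hX : X ∈ Cfsg.signalizerFamily p A θ) {b : G}
    (hb : b ∈ A) (hb1 : b ≠ 1) : X ⊓ centralizer ({b} : Set G) ≤ θ b := hX.2.2.2 b hb hb1

theorem le_theta {X : Subgroup G} (hX : X ∈ Cfsg.signalizerFamily p A θ) {b : G}
    (hb : b ∈ A) (hb1 : b ≠ 1) (hc : X ≤ centralizer ({b} : Set G)) : X ≤ θ b :=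
  family_le_theta hX hb hb1 hc

theorem theta_le_iff {X : Subgroup G} {a : G} (ha : a ∈ A) (ha1 : a ≠ 1) :
    θ a ≤ X ↔ ∀ B : Subgroup G, Line p A B → θ a ⊓ centralizer (B : Set G) ≤ X := by
  refine ⟨fun h' B _ => inf_le_left.trans h', fun h' => ?_⟩
  rw [h.mem_gen (h.theta_mem ha ha1)]
  exact iSup_le fun B => h' B B.2

theorem exists_max {X : Subgroup G} (hX : X ∈ Cfsg.signalizerFamily p A θ) :
    ∃ M, MaxMem p A θ M ∧ X ≤ M := by
  obtain ⟨M, hM⟩ := (Set.toFinite {Y | Y ∈ Cfsg.signalizerFamily p A θ ∧ X ≤ Y}).exists_maximal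
    ⟨X, hX, le_rfl⟩
  exact ⟨M, ⟨hM.prop.1, fun Y hY hle => hM.eq_of_ge ⟨hY, hM.prop.2.trans hle⟩ hle⟩, hM.prop.2⟩

/-- A nontrivial member normalized by a maximal member has its normalizing members inside it. -/
theorem le_max_of_norm {M Y X : Subgroup G} (hM : MaxMem p A θ M)
    (hY : Y ∈ Cfsg.signalizerFamily p A θ) (hY0 : Y ≠ ⊥) (hMY : M ≤ normalizer (Y : Set G))
    (hX : X ∈ Cfsg.signalizerFamily p A θ) (hXY : X ≤ normalizer (Y : Set G)) : X ≤ M := by
  obtain ⟨N, hN, -, hall⟩ := h.nl Y hY hY0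
  exact (hall X hX hXY).trans (hM.2 N hN (hall M hM.1 hMY)).le

theorem no_normal {Y : Subgroup G} (hY : Y ∈ Cfsg.signalizerFamily p A θ) (hY0 : Y ≠ ⊥)
    (hn : ∀ B : Subgroup G, Line p A B → Cfsg.signalizerInf B θ ≤ normalizer (Y : Set G)) : False := by
  obtain ⟨N, hN, -, hall⟩ := h.nl Y hY hY0
  refine h.not_all N hN fun a ha ha1 => (h.theta_le_iff ha ha1).2 fun B hB => ?_
  exact (theta_inf_centralizer_le_signalizerInf h.hθ.1 ha ha1 hB.1).trans
    (hall _ (signalizerInf_mem_family h.hA h.hθ hB.1 (h.line_ne_bot hB)) (hn B hB))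

/-- No member contains `⁅θ(B), e⁆` for every line `B` missing the point `e`. -/
theorem psi_comm {M : Subgroup G} (hM : M ∈ Cfsg.signalizerFamily p A θ) {e : G} (he : e ∈ A)
    (he1 : e ≠ 1) (hc : ∀ B : Subgroup G, Line p A B → e ∉ B →
      ⁅Cfsg.signalizerInf B θ, zpowers e⁆ ≤ M) : False := by
  set Z := zpowers e with hZ
  have hZA : Z ≤ A := zpowers_le.2 he
  set X0 := ⨆ B : {B : Subgroup G // Line p A B ∧ e ∉ B}, ⁅Cfsg.signalizerInf (B : Subgroup G) θ, Z⁆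
    with hX0
  have hinf : ∀ B, Line p A B → Cfsg.signalizerInf B θ ∈ Cfsg.signalizerFamily p A θ :=
    fun B hB => signalizerInf_mem_family h.hA h.hθ hB.1 (h.line_ne_bot hB)
  have hX0M : X0 ≤ M := iSup_le fun B => hc _ B.2.1 B.2.2
  have hX0A : A ≤ normalizer (X0 : Set G) :=
    le_normalizer_iSup _ fun B => h.inv_comm (h.mem_inv (hinf _ B.2.1)) hZA
  have hX0m := family_mono hM hX0M hX0A
  -- every `⁅θ c, e⁆` lies in `X0`
  have hpiece : ∀ c ∈ A, c ≠ 1 → ⁅θ c, Z⁆ ≤ X0 := by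
    intro c hc' hc1
    have hcm := h.theta_mem hc' hc1
    refine (commutator_le_pieces _ e rfl h.hA h.A_ne_bot hcm.1 hcm.2.1 (h.mem_inv hcm)
      (h.mem_inv hcm he) (h.A_le_centralizer le_rfl he)
      (by rw [h.orderOf_point he he1]; exact hp.out.coprime_iff_not_dvd.2 hcm.2.1)).trans ?_
    refine iSup_le fun B => ?_
    by_cases heB : e ∈ (B : Subgroup G)
    · rw [commutator_eq_bot_iff_le_centralizer.2 (inf_le_right.trans
        ((centralizer_le (Set.singleton_subset_iff.2 heB)).trans (centralizer_zpowers e).ge))]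
      exact bot_le
    · refine (commutator_mono ?_ le_rfl).trans
        (le_iSup (fun B : {B : Subgroup G // Line p A B ∧ e ∉ B} =>
          ⁅Cfsg.signalizerInf (B : Subgroup G) θ, Z⁆) ⟨B, B.2, heB⟩)
      exact theta_inf_centralizer_le_signalizerInf h.hθ.1 hc' hc1 B.2.1
  by_cases hX00 : X0 = ⊥
  · refine h.not_all (θ e) (h.theta_mem he he1) fun c hc' hc1 => ?_
    refine h.le_theta (h.theta_mem hc' hc1) he he1 ?_
    rw [← centralizer_zpowers e, ← commutator_eq_bot_iff_le_centralizer]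
    exact le_bot_iff.1 ((hpiece c hc' hc1).trans hX00.le)
  refine h.no_normal hX0m hX00 fun K hK w hw => ?_
  have key : ∀ w ∈ Cfsg.signalizerInf K θ, X0 ≤ X0.comap (MulAut.conj w).toMonoidHom := by
    intro w hw
    refine iSup_le fun B => ?_
    obtain ⟨c, hcK, hcB, hc1⟩ := h.exists_common hK B.2.1
    intro y hy
    have hwc : w ∈ θ c := signalizerInf_le hcK hc1 hw
    have hyc : y ∈ ⁅θ c, Z⁆ :=
      commutator_mono (signalizerInf_le hcB hc1) le_rfl hy
    exact hpiece c (hK.1 hcK) hc1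
      ((mem_normalizer_iff.1 (normalizer_commutator_ge_left (θ c) Z hwc) y).1 hyc)
  rw [mem_normalizer_iff]
  refine fun y => ⟨fun hy => key w hw hy, fun hy => ?_⟩
  simpa [mul_assoc] using key w⁻¹ (inv_mem hw) hy

/-- No member contains `θ(B)` for every line `B` missing a point. -/
theorem psi {M : Subgroup G} (hM : M ∈ Cfsg.signalizerFamily p A θ) {e : G} (he : e ∈ A)
    (he1 : e ≠ 1) : ∃ B : Subgroup G, Line p A B ∧ e ∉ B ∧ ¬ Cfsg.signalizerInf B θ ≤ M := by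
  by_contra hc
  push Not at hc
  exact h.psi_comm hM he he1 fun B hB heB => (h.comm_le
    (signalizerInf_mem_family h.hA h.hθ hB.1 (h.line_ne_bot hB)) (zpowers_le.2 he)).trans (hc B hB heB)

/-- Every line has points outside `θ⁻¹(M)` off any given point of it. -/
theorem exists_bad {M : Subgroup G} (hM : M ∈ Cfsg.signalizerFamily p A θ) {K : Subgroup G}
    (hK : Line p A K) {c : G} (hc : c ∈ K) (hc1 : c ≠ 1) :
    ∃ d ∈ K, d ≠ 1 ∧ d ∉ zpowers c ∧ ¬ θ d ≤ M := by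
  obtain ⟨B, hB, hcB, hBM⟩ := h.psi hM (hK.1 hc) hc1
  obtain ⟨d, hdK, hdB, hd1⟩ := h.exists_common hK hB
  refine ⟨d, hdK, hd1, fun hd => hcB ?_, fun hle => hBM ((signalizerInf_le hdB hd1).trans hle)⟩
  have := h.zpowers_eq_of_mem (hK.1 hc) hc1 hd1 hd
  exact (this ▸ zpowers_le.2 hdB) (mem_zpowers c)

theorem exists_bad' {M : Subgroup G} (hM : M ∈ Cfsg.signalizerFamily p A θ) {K : Subgroup G}
    (hK : Line p A K) : ∃ d ∈ K, d ≠ 1 ∧ ¬ θ d ≤ M := by
  obtain ⟨c, hc, hc1⟩ := exists_mem_ne_one (h.line_ne_bot hK)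
  obtain ⟨d, hd, hd1, -, hdM⟩ := h.exists_bad hM hK hc hc1
  exact ⟨d, hd, hd1, hdM⟩

/-! ### Members invariant under `θ(A)` -/

theorem D_norm_theta {a : G} (ha : a ∈ A) (ha1 : a ≠ 1) :
    Cfsg.signalizerInf A θ ≤ normalizer (θ a : Set G) := (h.D_le ha ha1).trans le_normalizer

theorem D_norm_cent {S : Subgroup G} (hS : S ≤ A) :
    Cfsg.signalizerInf A θ ≤ normalizer ((centralizer (S : Set G) : Subgroup G) : Set G) :=
  (h.D_cent.trans (centralizer_le hS)).trans le_normalizer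

theorem exists_other_prime (s : ℕ) (hs : s.Prime) :
    ∃ q : ℕ, q.Prime ∧ q ≠ s ∧ ∃ a ∈ A, a ≠ 1 ∧ q ∣ Nat.card (θ a) := by
  by_contra hc
  push Not at hc
  haveI := Fact.mk hs
  have hq : ∀ a ∈ A, a ≠ 1 → IsPGroup s (θ a) := fun a ha ha1 =>
    pgroup_of_piGroup hs fun q hq hd => by
      by_contra hne
      exact hc q hq hne a ha ha1 hd
  obtain ⟨-, X, hXA, hXp, hX⟩ := complete_of_single_prime h.hA h.A3 h.hθ hq
  have hXs : IsPGroup s X := pgroup_of_piGroup hs fun q hq' hd => by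
    haveI := Fact.mk hq'
    obtain ⟨Qs, hQ⟩ := CfsgLib.Coprime.exists_invariant_sylow (le_normalizer_of_conj_mem hXA)
      (coprime_card_elemAb h.hA hXp) (Or.inl (isSolvable_elemAb h.hA)) q
    by_contra hne
    set T := (Qs : Subgroup X).map X.subtype
    have hTq : IsPGroup q T := Qs.isPGroup'.map _
    have hT0 : T ≠ ⊥ := fun e =>
      Qs.ne_bot_of_dvd_card hd ((map_eq_bot_iff_of_injective _ X.subtype_injective).1 e)
    have hgen := eq_iSup_centralizer_hyperplane h.hA h.A_ne_bot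
      (fun hpd => hXp (hpd.trans (card_dvd_of_le (map_subtype_le _)))) hQ
    refine hT0 (le_bot_iff.1 (hgen.le.trans (iSup_le fun B => ?_)))
    obtain ⟨b, hb, hb1⟩ := exists_mem_ne_one (h.line_ne_bot (B := B) B.2)
    have hle : T ⊓ centralizer ((B : Subgroup G) : Set G) ≤ θ b := by
      rw [← hX b (B.2.1 hb) hb1]
      exact inf_le_inf (map_subtype_le _) (centralizer_le (Set.singleton_subset_iff.2 hb))
    exact le_trans (le_inf inf_le_left hle) (pgroup_disjoint hq' hs hne hTq (hq b (B.2.1 hb) hb1)).le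
  have hXm : X ∈ Cfsg.signalizerFamily p A θ := by
    haveI := hXs.isNilpotent
    exact ⟨inferInstance, hXp, hXA, fun a ha ha1 => (hX a ha ha1).le⟩
  exact h.not_all X hXm fun a ha ha1 => (hX a ha ha1).ge.trans inf_le_left

/-- The largest `θ(A)`-invariant `σ`-member, `σ` missing a prime of `θ`. -/
theorem exists_sigma_member (σ : Set ℕ) {q : ℕ} (hq : q.Prime) (hqσ : q ∉ σ) {a₀ : G} (ha₀ : a₀ ∈ A)
    (ha₀1 : a₀ ≠ 1) (hqd : q ∣ Nat.card (θ a₀)) :
    ∃ Y ∈ Cfsg.signalizerFamily p A θ, PiGroup σ Y ∧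
      Cfsg.signalizerInf A θ ≤ normalizer (Y : Set G) ∧
      ∀ X ∈ Cfsg.signalizerFamily p A θ, PiGroup σ X →
        Cfsg.signalizerInf A θ ≤ normalizer (X : Set G) → X ≤ Y := by
  set D := Cfsg.signalizerInf A θ
  let φ : G → Subgroup G := fun a => ⨆ U : {U : Subgroup G // U ≤ θ a ∧ A ≤ normalizer (U : Set G) ∧
    D ≤ normalizer (U : Set G) ∧ PiGroup σ U}, (U : Subgroup G)
  have hφle : ∀ a, φ a ≤ θ a := fun a => iSup_le fun U => U.2.1
  have hφA : ∀ a, A ≤ normalizer (φ a : Set G) := fun a => le_normalizer_iSup _ fun U => U.2.2.1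
  have hφD : ∀ a, D ≤ normalizer (φ a : Set G) := fun a => le_normalizer_iSup _ fun U => U.2.2.2.1
  have hφσ : ∀ a ∈ A, a ≠ 1 → PiGroup σ (φ a) := by
    intro a ha ha1
    have hm := h.theta_mem ha ha1
    obtain ⟨H, hH, hHA⟩ :=
      CfsgLib.Coprime.exists_invariant_hall (h.mem_inv hm) (h.coprimeA hm) hm.1 σ
    refine piGroup_mono (iSup_le fun U => ?_) hH.2.1
    obtain ⟨H', hH', hHA', hUH⟩ := CfsgLib.Coprime.exists_invariant_hall_ge (h.mem_inv hm)
      (h.coprimeA hm) hm.1 U.2.1 U.2.2.1 U.2.2.2.2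
    obtain ⟨c, hc, e⟩ := CfsgLib.Coprime.exists_conj_invariant_hall (h.mem_inv hm) (h.coprimeA hm)
      hm.1 hH' hHA' hH hHA
    have hcD : c ∈ D := h.piece_le hm le_rfl hc
    rw [e, ← map_conj_eq_iff.2 (U.2.2.2.1 hcD)]
    exact map_mono hUH
  have hφ : Cfsg.IsSolvableSignalizerFunctor p A φ := by
    refine ⟨⟨fun a ha ha1 => (hφle a).trans (h.theta_le_cent ha ha1),
      fun a ha ha1 hd => (h.theta_mem ha ha1).2.1 (hd.trans (card_dvd_of_le (hφle a))),
      fun a _ _ => conj_mem_of_le_normalizer (hφA a), fun a ha ha1 b hb hb1 => ?_⟩,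
      fun a ha ha1 => CfsgLib.Coprime.isSolvable_of_le (h.theta_mem ha ha1).1 (hφle a)⟩
    refine le_iSup_of_le (⟨φ a ⊓ centralizer ({b} : Set G), ?_, ?_, ?_, ?_⟩ :
      {U : Subgroup G // U ≤ θ b ∧ A ≤ normalizer (U : Set G) ∧
        D ≤ normalizer (U : Set G) ∧ PiGroup σ U}) le_rfl
    · exact (inf_le_inf_right _ (hφle a)).trans (h.hθ.1.2.2.2 a ha ha1 b hb hb1)
    · exact CfsgLib.Comp.le_normalizer_inf (hφA a) (h.inv_cent_point hb)
    · refine CfsgLib.Comp.le_normalizer_inf (hφD a) ?_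
      rw [← centralizer_zpowers b]
      exact h.D_norm_cent (zpowers_le.2 hb)
    · exact piGroup_mono inf_le_left (hφσ a ha ha1)
  obtain ⟨X₁, hX₁s, hX₁p, hX₁⟩ := h.smaller φ hφ (fun a _ _ => hφle a)
    ⟨a₀, ha₀, ha₀1, fun e => hqσ (hφσ a₀ ha₀ ha₀1 q hq (e ▸ hqd))⟩
  set Y := ⨆ i : {a : G // a ∈ A ∧ a ≠ 1}, φ i with hY
  have hYle : Y ≤ X₁ := iSup_le fun i => hX₁ i i.2.1 i.2.2
  have hfix : ∀ a ∈ A, a ≠ 1 → Y ⊓ centralizer ({a} : Set G) = φ a := by
    intro a ha ha1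
    have h1 := iSup_inf_centralizer_eq h.hA h.A_ne_bot
      (fun i : {a : G // a ∈ A ∧ a ≠ 1} => zpowers (i : G)) (fun i => zpowers_le.2 i.2.1)
      (fun H H' hH hH2 hH' hH'2 => by
        obtain ⟨c, hc, hc', hc1⟩ := h.exists_common ⟨hH, hH2⟩ ⟨hH', hH'2⟩
        exact ⟨⟨c, hH hc, hc1⟩, zpowers_le.2 ⟨hc, hc'⟩⟩)
      (fun i => φ i) (fun i => by rw [centralizer_zpowers]; exact hφ.1.1 i i.2.1 i.2.2)
      (fun i => hφA i) (fun i j => by
        rw [centralizer_zpowers]; exact hφ.1.2.2.2 i i.2.1 i.2.2 j j.2.1 j.2.2)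
      (CfsgLib.Coprime.isSolvable_of_le hX₁s hYle)
      (fun hd => hX₁p (hd.trans (card_dvd_of_le hYle))) ⟨a, ha, ha1⟩
    rwa [centralizer_zpowers] at h1
  have hYA : A ≤ normalizer (Y : Set G) := le_normalizer_iSup _ fun i => hφA i
  have hYm : Y ∈ Cfsg.signalizerFamily p A θ :=
    ⟨CfsgLib.Coprime.isSolvable_of_le hX₁s hYle, fun hd => hX₁p (hd.trans (card_dvd_of_le hYle)),
      conj_mem_of_le_normalizer hYA, fun a ha ha1 => (hfix a ha ha1).le.trans (hφle a)⟩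
  refine ⟨Y, hYm, fun r hr hrd => ?_, le_normalizer_iSup _ fun i => hφD i, fun X hX hXσ hXD => ?_⟩
  · by_contra hrσ
    haveI := Fact.mk hr
    obtain ⟨R, hR⟩ := CfsgLib.Coprime.exists_invariant_sylow hYA (h.coprimeA hYm)
      (Or.inl (isSolvable_elemAb h.hA)) r
    set T := (R : Subgroup Y).map Y.subtype
    have hT0 : T ≠ ⊥ := fun e =>
      R.ne_bot_of_dvd_card hrd ((map_eq_bot_iff_of_injective _ Y.subtype_injective).1 e)
    have hTm : T ∈ Cfsg.signalizerFamily p A θ := family_mono hYm (map_subtype_le _) hR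
    refine hT0 (le_bot_iff.1 ((h.mem_gen hTm).le.trans (iSup_le fun B => ?_)))
    obtain ⟨b, hb, hb1⟩ := exists_mem_ne_one (h.line_ne_bot B.2)
    have hle : T ⊓ centralizer ((B : Subgroup G) : Set G) ≤ φ b := by
      rw [← hfix b (B.2.1 hb) hb1]
      exact inf_le_inf (map_subtype_le _) (centralizer_le (Set.singleton_subset_iff.2 hb))
    intro x hx
    rw [mem_bot]
    by_contra hx1
    obtain ⟨k, hk⟩ := (R.isPGroup'.map Y.subtype) ⟨x, hx.1⟩
    have hox : orderOf x ∣ r ^ k := orderOf_dvd_of_pow_eq_one (congrArg Subtype.val hk)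
    obtain ⟨j, -, hj⟩ := (Nat.dvd_prime_pow hr).1 hox
    have hxd : r ∣ Nat.card (φ b) := by
      have h1 := orderOf_dvd_natCard (⟨x, hle hx⟩ : φ b)
      rw [← orderOf_coe, hj] at h1
      rcases j with _ | j
      · exact absurd (orderOf_eq_one_iff.1 (by simpa using hj)) hx1
      · exact (dvd_pow_self r (Nat.succ_ne_zero j)).trans h1
    exact hrσ (hφσ b (B.2.1 hb) hb1 r hr hxd)
  · rw [h.mem_gen hX]
    refine iSup_le fun B => ?_
    obtain ⟨b, hb, hb1⟩ := exists_mem_ne_one (h.line_ne_bot B.2)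
    refine le_trans ?_ (le_iSup (fun i : {a : G // a ∈ A ∧ a ≠ 1} => φ i) ⟨b, B.2.1 hb, hb1⟩)
    refine le_trans (inf_le_inf_left _ (centralizer_le (Set.singleton_subset_iff.2 hb))) ?_
    exact le_iSup_of_le (⟨X ⊓ centralizer ({b} : Set G), h.point_le_theta hX (B.2.1 hb) hb1,
      CfsgLib.Comp.le_normalizer_inf (h.mem_inv hX) (h.inv_cent_point (B.2.1 hb)),
      CfsgLib.Comp.le_normalizer_inf hXD (by
        rw [← centralizer_zpowers b]; exact h.D_norm_cent (zpowers_le.2 (B.2.1 hb))),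
      piGroup_mono inf_le_left hXσ⟩ : {U : Subgroup G // U ≤ θ b ∧ A ≤ normalizer (U : Set G) ∧
        D ≤ normalizer (U : Set G) ∧ PiGroup σ U}) le_rfl

/-- The largest `θ(A)`-invariant member for one prime lies in every maximal one. -/
theorem exists_prime_member {s : ℕ} (hs : s.Prime) :
    ∃ Y ∈ Cfsg.signalizerFamily p A θ, IsPGroup s Y ∧
      Cfsg.signalizerInf A θ ≤ normalizer (Y : Set G) ∧
      (∀ X ∈ Cfsg.signalizerFamily p A θ, IsPGroup s X →
        Cfsg.signalizerInf A θ ≤ normalizer (X : Set G) → X ≤ Y) ∧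
      ∀ Q ∈ Cfsg.signalizerFamily p A θ, IsPGroup s Q →
        (∀ R ∈ Cfsg.signalizerFamily p A θ, IsPGroup s R → Q ≤ R → R = Q) → Y ≤ Q := by
  haveI := Fact.mk hs
  obtain ⟨q, hq, hqs, a₀, ha₀, ha₀1, hqd⟩ := h.exists_other_prime s hs
  obtain ⟨Y, hY, hYσ, hYD, hall⟩ := h.exists_sigma_member {s} hq (by simpa using hqs) ha₀ ha₀1 hqd
  have hYs := pgroup_of_piGroup hs hYσ
  refine ⟨Y, hY, hYs, hYD, fun X hX hXs hXD => hall X hX (piGroup_of_pgroup (σ := {s}) hs rfl hXs) hXD,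
    fun Q hQ hQs hQm => ?_⟩
  obtain ⟨Q₀, hQ₀, hQ₀s, hle, hQ₀m⟩ := exists_maximal_member hY hYs
  obtain ⟨c, hc, e⟩ := transitivity h.hA h.A3 h.hθ hQ₀ hQ₀s hQ₀m hQ hQs hQm
  rw [← e, ← map_conj_eq_iff.2 (hYD hc)]
  exact map_mono hle

end Min

end CfsgLib.Comp.SFT
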