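import Cfsg.Agent.Lib.Comp.SFT.Pushing

/-!
Members moved by a point of `A`, and sections of a member centralized by the centre of a maximal
`s`-member.
-/

set_option autoImplicit false
set_option linter.style.haveILetI false
set_option linter.unusedSectionVars false

universe u

namespace CfsgLib.Comp.SFT

open Subgroup
open scoped commutatorElement

variable {G : Type u} [Group G] [Finite G] {p : ℕ} [hp : Fact p.Prime]
  {A : Subgroup G} {θ : G → Subgroup G}

theorem oz_ne_bot {s : ℕ} (hs : s.Prime) {Q : Subgroup G} (hQs : IsPGroup s Q) (hQ : Q ≠ ⊥) :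
    OZ s Q ≠ ⊥ := by
  haveI := Fact.mk hs
  intro e
  haveI : Nontrivial Q := (nontrivial_iff_ne_bot Q).2 hQ
  haveI := hQs.center_nontrivial
  obtain ⟨z, hz⟩ := exists_prime_orderOf_dvd_card' (G := center Q) s (by
    obtain ⟨k, hk⟩ := IsPGroup.iff_card.1 (hQs.to_subgroup (center Q))
    rw [hk]
    refine dvd_pow_self s fun e0 => ?_
    rw [e0, pow_zero] at hk
    exact not_subsingleton (center Q) (Nat.card_eq_one_iff_unique.1 hk).1)
  have hzZ : ((z : Q) : G) ∈ OZ s Q := by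
    refine subset_closure ⟨⟨(z : Q).2, fun y hy => ?_⟩, ?_⟩
    · exact congrArg Subtype.val (mem_center_iff.1 z.2 ⟨y, hy⟩)
    · have h1 := pow_orderOf_eq_one z
      rw [hz] at h1
      exact congrArg (fun w : center Q => ((w : Q) : G)) h1
  rw [e, mem_bot] at hzZ
  rw [show z = 1 from Subtype.ext (Subtype.ext hzZ), orderOf_one] at hz
  exact hs.one_lt.ne hz

namespace Min

variable (h : Min p A θ)

include h

theorem norm_comm_point {X N : Subgroup G} (hX : N ≤ normalizer (X : Set G)) {c : G}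
    (hN : N ≤ centralizer ({c} : Set G)) :
    N ≤ normalizer ((⁅X, zpowers c⁆ : Subgroup G) : Set G) := by
  refine norm_commutator hX (le_trans ?_ (centralizer_le_normalizer _))
  rwa [centralizer_zpowers]

theorem theta_norm_comm {c : G} (hc : c ∈ A) (hc1 : c ≠ 1) {L : Subgroup G} (hcL : θ c ≤ L) (s : ℕ) :
    θ c ≤ normalizer ((⁅Cfsg.pCoreOf s L, zpowers c⁆ : Subgroup G) : Set G) :=
  h.norm_comm_point (hcL.trans (core_norm s L)) (h.theta_le_cent hc hc1)

theorem D_norm_comm_core {c : G} (hc : c ∈ A) (hc1 : c ≠ 1) {L : Subgroup G} (hcL : θ c ≤ L)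
    (s : ℕ) : Cfsg.signalizerInf A θ ≤
      normalizer ((⁅Cfsg.pCoreOf s L, zpowers c⁆ : Subgroup G) : Set G) :=
  (h.D_le hc hc1).trans (h.theta_norm_comm hc hc1 hcL s)

/-- A maximal member over `θ c` has a core moved by `c`. -/
theorem exists_moved {L : Subgroup G} (hL : MaxMem p A θ L) {c : G} (hc : c ∈ A) (hc1 : c ≠ 1) :
    ∃ s : ℕ, s.Prime ∧ ⁅Cfsg.pCoreOf s L, zpowers c⁆ ≠ ⊥ :=
  h.exists_core_moved hL hc hc1 (h.max_ne_theta hL hc hc1)

/-- In a single member over `θ c`, the core is moved by `c`. -/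
theorem comm_single_ne_bot {s : ℕ} {L : Subgroup G} (hL : MaxMem p A θ L) (hLs : Single s L) {c : G}
    (hc : c ∈ A) (hc1 : c ≠ 1) : ⁅Cfsg.pCoreOf s L, zpowers c⁆ ≠ ⊥ := by
  obtain ⟨q, hq, hq0⟩ := h.exists_moved hL hc hc1
  by_cases hqs : q = s
  · exact hqs ▸ hq0
  · rw [hLs.2 q hq hqs, commutator_bot_left] at hq0
    exact absurd rfl hq0

theorem comm_core_pgroup {s : ℕ} {L : Subgroup G} (hL : L ∈ Cfsg.signalizerFamily p A θ) {c : G}
    (hc : c ∈ A) : IsPGroup s (⁅Cfsg.pCoreOf s L, zpowers c⁆ : Subgroup G) :=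
  (core_pgroup s L).to_le (h.comm_le (h.core_mem hL s) (zpowers_le.2 hc))

/-- Some piece of `⁅X, c⁆` escapes every subgroup not containing it. -/
theorem exists_piece {X R : Subgroup G} (hX : X ∈ Cfsg.signalizerFamily p A θ) {c : G} (hc : c ∈ A)
    (hc1 : c ≠ 1) (hR : ¬ ⁅X, zpowers c⁆ ≤ R) :
    ∃ B : Subgroup G, Line p A B ∧
      ¬ ⁅X ⊓ centralizer (B : Set G), zpowers c⁆ ≤ R := by
  by_contra hcon
  push Not at hcon
  refine hR ((commutator_le_pieces _ c rfl h.hA h.A_ne_bot hX.1 hX.2.1 (h.mem_inv hX)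
    (h.mem_inv hX hc) (h.A_le_centralizer le_rfl hc)
    (by rw [h.orderOf_point hc hc1]; exact hp.out.coprime_iff_not_dvd.2 hX.2.1)).trans
    (iSup_le fun B => hcon B B.2))

theorem exists_dvd_theta_of_dvd {q : ℕ} (hq : q.Prime) {X : Subgroup G}
    (hX : X ∈ Cfsg.signalizerFamily p A θ) (hd : q ∣ Nat.card X) :
    ∃ a ∈ A, a ≠ 1 ∧ q ∣ Nat.card (θ a) := by
  haveI := Fact.mk hq
  obtain ⟨R, hR⟩ := CfsgLib.Coprime.exists_invariant_sylow (h.mem_inv hX) (h.coprimeA hX)
    (Or.inl (isSolvable_elemAb h.hA)) q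
  exact h.exists_prime_dvd_theta hq (family_mono hX (map_subtype_le _) hR) (R.isPGroup'.map _)
    fun e => R.ne_bot_of_dvd_card hd ((map_eq_bot_iff_of_injective _ X.subtype_injective).1 e)

/-- With two primes only, `⁅U, z⁆ ≤ O_r(H)` for central `z` of a maximal `s`-member. -/
theorem comm_central_le_core {r s : ℕ} (hr : r.Prime) (hs : s.Prime)
    (hπ : ∀ q : ℕ, q.Prime → ∀ a ∈ A, a ≠ 1 → q ∣ Nat.card (θ a) → q = r ∨ q = s)
    {Q : Subgroup G} (hQ : Q ∈ Cfsg.signalizerFamily p A θ) (hQs : IsPGroup s Q)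
    (hQm : ∀ R ∈ Cfsg.signalizerFamily p A θ, IsPGroup s R → Q ≤ R → R = Q)
    {z : G} (hz : z ∈ centralizer (Q : Set G))
    {H U : Subgroup G} (hH : H ∈ Cfsg.signalizerFamily p A θ)
    (hDH : Cfsg.signalizerInf A θ ≤ H) (hzH : z ∈ H) (hUH : U ≤ H) (hUr : IsPGroup r U)
    (hzU : z ∈ normalizer (U : Set G)) : ⁅U, zpowers z⁆ ≤ Cfsg.pCoreOf r H := by
  haveI := Fact.mk hs
  have hle : ⁅U, zpowers z⁆ ≤ U := commutator_le_of_le_normalizer (zpowers_le.2 hzU)
  refine le_core_test hr hH.1 (hle.trans hUH) (hUr.to_le hle) fun v hv hvr P hPH hPn hVP hPv => ?_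
  set V := Cfsg.pCoreOf r H
  have hHN : H ≤ normalizer (V : Set G) := core_norm r H
  have hPm : P ∈ Cfsg.signalizerFamily p A θ := family_mono hH hPH ((h.mem_inv hH).trans hPn)
  have hzN : zpowers z ≤ normalizer (V : Set G) := zpowers_le.2 (hHN hzH)
  haveI := Fact.mk hv
  by_cases hvs : v = s
  swap
  · suffices hb : qm V P = ⊥ by rw [hb, le_centralizer_iff]; exact bot_le
    by_contra hne
    obtain ⟨n, hn⟩ := IsPGroup.iff_card.1 hPv
    have hn0 : n ≠ 0 := fun e => hne (card_eq_one.1 (by rw [hn, e, pow_zero]))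
    have hd : v ∣ Nat.card P := (hn ▸ dvd_pow_self v hn0).trans (card_qm_dvd P)
    obtain ⟨a, ha, ha1, had⟩ := h.exists_dvd_theta_of_dvd hv hPm hd
    rcases hπ v hv a ha ha1 had with e | e
    · exact hvr e
    · exact hvs e
  subst hvs
  obtain ⟨S0, hS0⟩ := CfsgLib.Coprime.exists_invariant_sylow ((h.mem_inv hH).trans hPn)
    (h.coprimeA hPm) (Or.inl (isSolvable_elemAb h.hA)) v
  set S := (S0 : Subgroup P).map P.subtype
  have hSP : S ≤ P := map_subtype_le _
  have hPeq : P ≤ V ⊔ S := by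
    rw [← relIndex_eq_one]
    refine Nat.eq_one_of_dvd_coprimes (a := Nat.card (qm V P)) (b := S.relIndex P) ?_ ?_
      (relIndex_dvd_of_le_left P le_sup_right)
    · obtain ⟨n, hn⟩ := IsPGroup.iff_card.1 hPv
      rw [hn]
      refine Nat.Coprime.pow_left _ (hv.coprime_iff_not_dvd.2 ?_)
      show ¬ v ∣ (((S0 : Subgroup P).map P.subtype).subgroupOf P).index
      rw [subgroupOf, comap_map_eq_self_of_injective P.subtype_injective]
      exact S0.not_dvd_index
    · refine (relIndex_dvd_of_le_left P (le_sup_left : V ≤ V ⊔ S)).trans (dvd_of_eq ?_)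
      have h1 := relIndex_mul_relIndex ⊥ V P bot_le hVP
      rw [relIndex_bot_left, relIndex_bot_left, ← card_qm hVP (hPH.trans hHN), mul_comm] at h1
      exact Nat.eq_of_mul_eq_mul_right Nat.card_pos h1
  obtain ⟨Q', hQ', hQ's, hSQ', hQ'm⟩ :=
    exists_maximal_member (family_mono hPm hSP hS0) (S0.isPGroup'.map _)
  obtain ⟨d, hd, hQd⟩ := transitivity h.hA h.A3 h.hθ hQ hQs hQm hQ' hQ's hQ'm
  have hdH : d ∈ normalizer (H : Set G) := le_normalizer (hDH hd)
  set S' := S.map (MulAut.conj d⁻¹).toMonoidHom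
  have hPd : P.map (MulAut.conj d⁻¹).toMonoidHom = P := map_conj_eq_iff.2 (hPn (inv_mem hdH))
  have hVd : V.map (MulAut.conj d⁻¹).toMonoidHom = V :=
    map_conj_eq_iff.2 (hHN (inv_mem (hDH hd)))
  have hPS' : P ≤ V ⊔ S' := by
    rw [← hPd]
    refine (map_mono hPeq).trans ?_
    rw [Subgroup.map_sup, hVd]
  have hS'Q : S' ≤ Q := by
    refine (map_mono hSQ').trans ?_
    rw [← hQd, ← map_conj_mul, inv_mul_cancel, map_conj_one]
  have hS'H : S' ≤ H := (map_mono hSP).trans (hPd.le.trans hPH)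
  have hzP : qm V (zpowers z) ≤ centralizer (qm V P : Set (QN V)) := by
    rw [le_centralizer_iff]
    refine (qm_mono hPS').trans ?_
    rw [qm_sup le_normalizer (hS'H.trans hHN), sup_le_iff]
    refine ⟨?_, ?_⟩
    · rw [(qm_eq_bot le_normalizer).2 le_rfl]; exact bot_le
    · rw [← commutator_eq_bot_iff_le_centralizer, ← qm_commutator (hS'H.trans hHN) hzN,
        qm_eq_bot ((commutator_mono (hS'H.trans hHN) hzN).trans (commutator_le_self _))]
      refine le_trans (le_of_eq ?_) bot_le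
      rw [commutator_eq_bot_iff_le_centralizer, le_centralizer_iff, zpowers_le]
      exact centralizer_le hS'Q hz
  rw [← commutator_eq_bot_iff_le_centralizer] at hzP ⊢
  rw [qm_commutator (hUH.trans hHN) hzN]
  refine commutator_commutator_eq_bot_of_rotate ?_ ?_
  · rw [hzP, commutator_bot_left]
  · refine le_bot_iff.1 ((commutator_mono (commutator_le_of_le_normalizer
      (qm_le_normalizer (hPH.trans hHN) (hUH.trans hHN) ((hUH.trans le_normalizer).trans hPn)))
      le_rfl).trans (le_of_eq ?_))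
    rw [commutator_comm]
    exact hzP

end Min

end CfsgLib.Comp.SFT
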