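import Cfsg.Agent.Lib.Comp.SFT.NoOddSingle

/-!
The minimal counterexample does not exist: what is left lives at the prime `2`.
-/

set_option autoImplicit false
set_option linter.style.haveILetI false
set_option linter.unusedSectionVars false

universe u

namespace CfsgLib.Comp.SFT

open Subgroup
open scoped commutatorElement

variable {G : Type u} [Group G] [Finite G] {p : ℕ} [hp : Fact p.Prime]
  {A : Subgroup G} {θ : G → Subgroup G}

/-- If `S` centralizes the invariant `C`, so does `⁅U, S⁆`. -/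
theorem comm_cent {U S C : Subgroup G} (hU : U ≤ normalizer (C : Set G))
    (hS : S ≤ centralizer (C : Set G)) : ⁅U, S⁆ ≤ centralizer (C : Set G) := by
  rw [← commutator_eq_bot_iff_le_centralizer] at hS ⊢
  refine commutator_commutator_eq_bot_of_rotate ?_ ?_
  · rw [hS, commutator_bot_left]
  · refine le_bot_iff.1 ((commutator_mono ?_ le_rfl).trans (le_of_eq (show ⁅C, S⁆ = ⊥ by
      rw [commutator_comm]; exact hS)))
    exact commutator_le_of_le_normalizer hU

/-- `L` is a maximal member over the point `a`. -/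
def Over (p : ℕ) (A : Subgroup G) (θ : G → Subgroup G) (a : G) (L : Subgroup G) : Prop :=
  a ∈ A ∧ a ≠ 1 ∧ MaxMem p A θ L ∧ θ a ≤ L

/-- `Q` is a maximal `2`-member containing the largest `θ(A)`-invariant one. -/
def TopTwo (p : ℕ) (A : Subgroup G) (θ : G → Subgroup G) (Q : Subgroup G) : Prop :=
  Q ∈ Cfsg.signalizerFamily p A θ ∧ IsPGroup 2 Q ∧
    (∀ R ∈ Cfsg.signalizerFamily p A θ, IsPGroup 2 R → Q ≤ R → R = Q) ∧
    ∀ X ∈ Cfsg.signalizerFamily p A θ, IsPGroup 2 X →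
      Cfsg.signalizerInf A θ ≤ normalizer (X : Set G) → X ≤ Q

namespace Min

variable (h : Min p A θ)

include h

/-- `z` centralizes a `2`-section of a member when it centralizes a maximal `2`-member. -/
theorem central_cent_section {v : ℕ} (hv : v.Prime) {Q : Subgroup G}
    (hQ : Q ∈ Cfsg.signalizerFamily p A θ) (hQs : IsPGroup v Q)
    (hQm : ∀ R ∈ Cfsg.signalizerFamily p A θ, IsPGroup v R → Q ≤ R → R = Q)
    {z : G} (hz : z ∈ centralizer (Q : Set G)) {H V P : Subgroup G}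
    (hH : H ∈ Cfsg.signalizerFamily p A θ) (hDH : Cfsg.signalizerInf A θ ≤ H) (hzH : z ∈ H)
    (hHN : H ≤ normalizer (V : Set G)) (hPH : P ≤ H)
    (hPn : normalizer (H : Set G) ≤ normalizer (P : Set G)) (hVP : V ≤ P)
    (hPv : IsPGroup v (qm V P)) :
    qm V (zpowers z) ≤ centralizer (qm V P : Set (QN V)) := by
  haveI := Fact.mk hv
  have hPm : P ∈ Cfsg.signalizerFamily p A θ := family_mono hH hPH ((h.mem_inv hH).trans hPn)
  have hzN : zpowers z ≤ normalizer (V : Set G) := zpowers_le.2 (hHN hzH)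
  obtain ⟨S0, hS0⟩ := CfsgLib.Coprime.exists_invariant_sylow ((h.mem_inv hH).trans hPn)
    (h.coprimeA hPm) (Or.inl (isSolvable_elemAb h.hA)) v
  set S := (S0 : Subgroup P).map P.subtype
  have hSP : S ≤ P := map_subtype_le _
  have hPeq : P ≤ V ⊔ S := by
    rw [← relIndex_eq_one]
    refine Nat.eq_one_of_dvd_coprimes (a := Nat.card (qm V P)) (b := S.relIndex P) ?_ ?_
      (relIndex_dvd_of_le_left P le_sup_right)
    · obtain ⟨n, hn⟩ := IsPGroup.iff_card.1 hPv
      rw [hn]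
      refine Nat.Coprime.pow_left _ (hv.coprime_iff_not_dvd.2 ?_)
      show ¬ v ∣ (((S0 : Subgroup P).map P.subtype).subgroupOf P).index
      rw [subgroupOf, comap_map_eq_self_of_injective P.subtype_injective]
      exact S0.not_dvd_index
    · refine (relIndex_dvd_of_le_left P (le_sup_left : V ≤ V ⊔ S)).trans (dvd_of_eq ?_)
      have h1 := relIndex_mul_relIndex ⊥ V P bot_le hVP
      rw [relIndex_bot_left, relIndex_bot_left, ← card_qm hVP (hPH.trans hHN), mul_comm] at h1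
      exact Nat.eq_of_mul_eq_mul_right Nat.card_pos h1
  obtain ⟨Q', hQ', hQ's, hSQ', hQ'm⟩ :=
    exists_maximal_member (family_mono hPm hSP hS0) (S0.isPGroup'.map _)
  obtain ⟨d, hd, hQd⟩ := transitivity h.hA h.A3 h.hθ hQ hQs hQm hQ' hQ's hQ'm
  have hdH : d ∈ normalizer (H : Set G) := le_normalizer (hDH hd)
  set S' := S.map (MulAut.conj d⁻¹).toMonoidHom
  have hPd : P.map (MulAut.conj d⁻¹).toMonoidHom = P := map_conj_eq_iff.2 (hPn (inv_mem hdH))
  have hVd : V.map (MulAut.conj d⁻¹).toMonoidHom = V :=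
    map_conj_eq_iff.2 (hHN (inv_mem (hDH hd)))
  have hPS' : P ≤ V ⊔ S' := by
    rw [← hPd]
    refine (map_mono hPeq).trans ?_
    rw [Subgroup.map_sup, hVd]
  have hS'Q : S' ≤ Q := by
    refine (map_mono hSQ').trans ?_
    rw [← hQd, ← map_conj_mul, inv_mul_cancel, map_conj_one]
  have hS'H : S' ≤ H := (map_mono hSP).trans (hPd.le.trans hPH)
  rw [le_centralizer_iff]
  refine (qm_mono hPS').trans ?_
  rw [qm_sup le_normalizer (hS'H.trans hHN), sup_le_iff]
  refine ⟨?_, ?_⟩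
  · rw [(qm_eq_bot le_normalizer).2 le_rfl]; exact bot_le
  · rw [← commutator_eq_bot_iff_le_centralizer, ← qm_commutator (hS'H.trans hHN) hzN,
      qm_eq_bot ((commutator_mono (hS'H.trans hHN) hzN).trans (commutator_le_self _))]
    refine le_trans (le_of_eq ?_) bot_le
    rw [commutator_eq_bot_iff_le_centralizer, le_centralizer_iff, zpowers_le]
    exact centralizer_le hS'Q hz

theorem exists_top : ∃ Q, TopTwo p A θ Q := by
  obtain ⟨Y, hY, hYs, -, hYall, -⟩ := h.exists_prime_member Nat.prime_two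
  obtain ⟨Q, hQ, hQs, hYQ, hQm⟩ := exists_maximal_member hY hYs
  exact ⟨Q, hQ, hQs, hQm, fun X hX hXs hXD => (hYall X hX hXs hXD).trans hYQ⟩

theorem exists_over {a : G} (ha : a ∈ A) (ha1 : a ≠ 1) : ∃ L, Over p A θ a L := by
  obtain ⟨L, hL, haL⟩ := h.exists_max (h.theta_mem ha ha1)
  exact ⟨L, ha, ha1, hL, haL⟩

theorem D_le_over {a : G} {L : Subgroup G} (ho : Over p A θ a L) :
    Cfsg.signalizerInf A θ ≤ L := (h.D_le ho.1 ho.2.1).trans ho.2.2.2

theorem A_norm_of_le_D {X : Subgroup G} (hX : X ≤ Cfsg.signalizerInf A θ) :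
    A ≤ normalizer (X : Set G) :=
  (le_centralizer_iff.1 (hX.trans h.D_cent)).trans (centralizer_le_normalizer _)

/-- The points with two primes centralize the odd cores. -/
theorem odd_core_cent {e : G} {M : Subgroup G} (ho : Over p A θ e M) (hMm : Multi M) {w : ℕ}
    (hw : w.Prime) (hw2 : w ≠ 2) : ⁅Cfsg.pCoreOf w M, zpowers e⁆ = ⊥ := by
  obtain ⟨he, he1, hM, heM⟩ := ho
  by_contra hne
  obtain ⟨K, hK, hU0⟩ := h.exists_piece (R := ⊥) (h.core_mem hM.1 w) he he1
    fun hb => hne (le_bot_iff.1 hb)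
  set X := Cfsg.pCoreOf w M ⊓ centralizer (K : Set G)
  have hXA : A ≤ normalizer (X : Set G) := h.inv_cent_inf (h.mem_inv (h.core_mem hM.1 w)) hK.1
  have hUX : ⁅X, zpowers e⁆ ≤ X := commutator_le_of_le_normalizer ((zpowers_le.2 he).trans hXA)
  refine h.no_share hw hw2 hM hMm he he1 heM hK (fun e' => hU0 e'.le) (hUX.trans inf_le_left)
    (hUX.trans inf_le_right) (h.inv_comm hXA (zpowers_le.2 he)) ?_
    (h.absorbed_comm hw hM.1 he he1 heM (Or.inl hw2) inf_le_left hXA)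
  exact h.norm_comm_point (CfsgLib.Comp.le_normalizer_inf (h.theta_norm_core he he1 heM w)
    (h.D_norm_cent hK.1)) ((h.D_le he he1).trans (h.theta_le_cent he he1))

theorem cases_over {a : G} {L : Subgroup G} (ho : Over p A θ a L) : Multi L ∨ Single 2 L := by
  rcases single_or_multi ho.2.2.1.1.1 (h.max_ne_bot ho.2.2.1) with hm | ⟨q, hq, hq'⟩
  · exact Or.inl hm
  by_cases hq2 : q = 2
  · exact Or.inr (hq2 ▸ hq')
  · exact (h.no_odd_single hq hq2 ho.1 ho.2.1 ho.2.2.1 ho.2.2.2 hq').elim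

theorem two_moved {a : G} {L : Subgroup G} (ho : Over p A θ a L) :
    ⁅Cfsg.pCoreOf 2 L, zpowers a⁆ ≠ ⊥ := by
  rcases h.cases_over ho with hm | hs
  · obtain ⟨q, hq, hq0⟩ := h.exists_moved ho.2.2.1 ho.1 ho.2.1
    by_cases hq2 : q = 2
    · exact hq2 ▸ hq0
    · exact absurd (h.odd_core_cent ho hm hq hq2) hq0
  · exact h.comm_single_ne_bot ho.2.2.1 hs ho.1 ho.2.1

theorem core_two_ne_bot {a : G} {L : Subgroup G} (ho : Over p A θ a L) :
    Cfsg.pCoreOf 2 L ≠ ⊥ := fun e => h.two_moved ho (by rw [e, commutator_bot_left])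

theorem le_of_part {e : G} {M : Subgroup G} (ho : Over p A θ e M) (hMm : Multi M) {s : ℕ}
    (hs : s.Prime) {W : Subgroup G} (hW : W ≤ Cfsg.pCoreOf s M) (hW0 : W ≠ ⊥)
    (hWA : A ≤ normalizer (W : Set G)) {X : Subgroup G} (hX : X ∈ Cfsg.signalizerFamily p A θ)
    (hXW : X ≤ normalizer (W : Set G)) : X ≤ M :=
  h.le_of_norm_part ho.2.2.1 hMm ho.1 ho.2.1 ho.2.2.2 hs hW hW0 hWA hX hXW

theorem eq_over {e e' : G} {M M' : Subgroup G} (ho : Over p A θ e M) (hMm : Multi M)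
    (ho' : Over p A θ e' M') (hMm' : Multi M') {s : ℕ} (hs : s.Prime) {W : Subgroup G}
    (hW : W ≤ Cfsg.pCoreOf s M) (hW' : W ≤ Cfsg.pCoreOf s M') (hW0 : W ≠ ⊥)
    (hWA : A ≤ normalizer (W : Set G)) : M' = M :=
  h.eq_of_common ho.2.2.1 hMm ho.1 ho.2.1 ho.2.2.2 ho'.2.2.1 hMm' ho'.1 ho'.2.1 ho'.2.2.2 hs hW hW'
    hW0 hWA

theorem core_le_top {Q : Subgroup G} (hQ : TopTwo p A θ Q) {a : G} {L : Subgroup G}
    (ho : Over p A θ a L) : Cfsg.pCoreOf 2 L ≤ Q :=
  hQ.2.2.2 _ (h.core_mem ho.2.2.1.1 2) (core_pgroup 2 L) (h.theta_norm_core ho.1 ho.2.1 ho.2.2.2 2)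

theorem top_ne_bot {Q : Subgroup G} (hQ : TopTwo p A θ Q) : Q ≠ ⊥ := by
  obtain ⟨a, ha, ha1⟩ := exists_mem_ne_one h.A_ne_bot
  obtain ⟨L, ho⟩ := h.exists_over ha ha1
  exact fun e => h.core_two_ne_bot ho (le_bot_iff.1 ((h.core_le_top hQ ho).trans e.le))

theorem oz_mem {Q : Subgroup G} (hQ : TopTwo p A θ Q) : OZ 2 Q ∈ Cfsg.signalizerFamily p A θ :=
  family_mono hQ.1 (oz_le 2 Q) ((h.mem_inv hQ.1).trans (normalizer_le_normalizer_oz 2 Q))

theorem oz_comm (Q : Subgroup G) : IsMulCommutative (OZ 2 Q) :=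
  (CfsgLib.PLocal.omegaCenter_elemAb (p := 2) Q).1

theorem zle_multi {Q : Subgroup G} (hQ : TopTwo p A θ Q) {e : G} {M : Subgroup G}
    (ho : Over p A θ e M) (hMm : Multi M) : OZ 2 Q ≤ M :=
  h.le_of_part ho hMm Nat.prime_two le_rfl (h.core_two_ne_bot ho) (core_inv (h.mem_inv ho.2.2.1.1))
    (h.oz_mem hQ) (((oz_le_centralizer 2 Q).trans (centralizer_le (h.core_le_top hQ ho))).trans
      (centralizer_le_normalizer _))

theorem zle_single {Q : Subgroup G} (hQ : TopTwo p A θ Q) {b : G} {L : Subgroup G}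
    (ho : Over p A θ b L) (hLs : Single 2 L) : OZ 2 Q ≤ OZ 2 (Cfsg.pCoreOf 2 L) := by
  have hcent : OZ 2 Q ≤ centralizer (Cfsg.pCoreOf 2 L : Set G) :=
    (oz_le_centralizer 2 Q).trans (centralizer_le (h.core_le_top hQ ho))
  have hZL : OZ 2 Q ≤ L := h.le_max_of_norm ho.2.2.1 (h.core_mem ho.2.2.1.1 2) hLs.1 (core_norm 2 L)
    (h.oz_mem hQ) (hcent.trans (centralizer_le_normalizer _))
  have hfit := fit_single Nat.prime_two hLs
  have hZP : OZ 2 Q ≤ Cfsg.pCoreOf 2 L := by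
    refine le_trans (le_inf hZL ?_) ((fit_self ho.2.2.1.1.1).trans hfit.le)
    rw [hfit]; exact hcent
  intro z hz
  refine subset_closure ⟨⟨hZP hz, hcent hz⟩, ?_⟩
  exact (CfsgLib.PLocal.omegaCenter_elemAb (p := 2) Q).2 z hz

/-- A point with only a single member over it, outside a member with two primes, fixes `Z`. -/
theorem single_Z {Q : Subgroup G} (hQ : TopTwo p A θ Q) {e : G} {M : Subgroup G}
    (ho : Over p A θ e M) (hMm : Multi M) {b : G} {L : Subgroup G} (hob : Over p A θ b L)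
    (hLs : Single 2 L) (hbM : ¬ θ b ≤ M) : OZ 2 Q ≤ centralizer ({b} : Set G) := by
  obtain ⟨hb, hb1, hL, hbL⟩ := hob
  set P' := Cfsg.pCoreOf 2 L
  set Z' := OZ 2 P'
  set Z := OZ 2 Q
  have hP'm : P' ∈ Cfsg.signalizerFamily p A θ := h.core_mem hL.1 2
  have hZ'A : A ≤ normalizer (Z' : Set G) :=
    (h.mem_inv hP'm).trans (normalizer_le_normalizer_oz 2 P')
  have hZ'm : Z' ∈ Cfsg.signalizerFamily p A θ := family_mono hP'm (oz_le 2 P') hZ'A
  have hZZ' : Z ≤ Z' := h.zle_single hQ ⟨hb, hb1, hL, hbL⟩ hLs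
  have hn : θ b ≤ normalizer (Z' : Set G) :=
    (hbL.trans (core_norm 2 L)).trans (normalizer_le_normalizer_oz 2 P')
  have hZA : A ≤ normalizer (Z : Set G) := h.mem_inv (h.oz_mem hQ)
  rw [← centralizer_zpowers b, ← commutator_eq_bot_iff_le_centralizer]
  by_contra hW
  have hWP : ⁅Z, zpowers b⁆ ≤ Cfsg.pCoreOf 2 M :=
    h.comm_core Nat.prime_two ho.2.2.1.1 (h.zle_multi hQ ho hMm) (hQ.2.1.to_le (oz_le 2 Q)) hZA hb
      (Or.inr (Or.inl (h.oz_comm Q))) ((core_pgroup 2 L).to_le (oz_le 2 P')) hZZ'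
      ((h.point_le_theta ho.2.2.1.1 hb hb1).trans hn)
  have hP'W : P' ≤ centralizer ((⁅Z, zpowers b⁆ : Subgroup G) : Set G) :=
    (le_centralizer_iff.1 (oz_le_centralizer 2 P')).trans (centralizer_le
      ((commutator_mono hZZ' le_rfl).trans
        (commutator_le_of_le_normalizer ((zpowers_le.2 hb).trans hZ'A))))
  have hP'M : P' ≤ M := h.le_of_part ho hMm Nat.prime_two hWP hW (h.inv_comm hZA (zpowers_le.2 hb))
    hP'm (hP'W.trans (centralizer_le_normalizer _))
  have hW'P : ⁅Z', zpowers b⁆ ≤ Cfsg.pCoreOf 2 M :=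
    h.comm_core Nat.prime_two ho.2.2.1.1 ((oz_le 2 P').trans hP'M)
      ((core_pgroup 2 L).to_le (oz_le 2 P')) hZ'A hb (Or.inr (Or.inl (h.oz_comm P')))
      ((core_pgroup 2 L).to_le (oz_le 2 P')) le_rfl ((h.point_le_theta ho.2.2.1.1 hb hb1).trans hn)
  exact hbM (h.le_of_part ho hMm Nat.prime_two hW'P
    (fun e' => hW (le_bot_iff.1 (e' ▸ commutator_mono hZZ' le_rfl)))
    (h.inv_comm hZ'A (zpowers_le.2 hb)) (h.theta_mem hb hb1)
    (h.norm_comm_point hn (h.theta_le_cent hb hb1)))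

/-- `⁅Z, e⁆ ≤ O_2(M)` at a point with two primes. -/
theorem good_Z {Q : Subgroup G} (hQ : TopTwo p A θ Q) {e : G} {M : Subgroup G}
    (ho : Over p A θ e M) (hMm : Multi M) : ⁅OZ 2 Q, zpowers e⁆ ≤ Cfsg.pCoreOf 2 M := by
  have hZe : ⁅OZ 2 Q, zpowers e⁆ ≤ OZ 2 Q := h.comm_le (h.oz_mem hQ) (zpowers_le.2 ho.1)
  have hZM := h.zle_multi hQ ho hMm
  refine pgroup_fit_le Nat.prime_two (le_fit_of_centralizes ho.2.2.1.1.1 (hZe.trans hZM) fun q hq => ?_)
    (hQ.2.1.to_le (hZe.trans (oz_le 2 Q)))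
  by_cases hq2 : q = 2
  · subst hq2
    exact (hZe.trans (oz_le_centralizer 2 Q)).trans (centralizer_le (h.core_le_top hQ ho))
  · refine comm_cent (hZM.trans (core_norm q M)) ?_
    rw [le_centralizer_iff, ← commutator_eq_bot_iff_le_centralizer]
    exact h.odd_core_cent ho hMm hq hq2

/-- `A` centralizes `Z` as soon as some member has two primes. -/
theorem oz_cent_A {Q : Subgroup G} (hQ : TopTwo p A θ Q) {e : G} {M₀ : Subgroup G}
    (ho₀ : Over p A θ e M₀) (hM₀m : Multi M₀) : OZ 2 Q ≤ centralizer (A : Set G) := by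
  by_contra hne
  set Z := OZ 2 Q with hZdef
  have hZm : Z ∈ Cfsg.signalizerFamily p A θ := h.oz_mem hQ
  obtain ⟨c₁, hc₁, hc₁0⟩ : ∃ c ∈ A, ⁅Z, zpowers c⁆ ≠ ⊥ := by
    by_contra hcon
    push Not at hcon
    refine hne fun z hz => mem_centralizer_iff.2 fun a ha => ?_
    exact mem_centralizer_iff.1 (commutator_eq_bot_iff_le_centralizer.1 (hcon a ha) hz) a
      (mem_zpowers a)
  have hc₁1 : c₁ ≠ 1 := fun e' => hc₁0 (by rw [e', zpowers_one_eq_bot, commutator_bot_right])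
  obtain ⟨J, hJ, hJ0⟩ := h.exists_piece (R := ⊥) hZm hc₁ hc₁1 fun hb => hc₁0 (le_bot_iff.1 hb)
  set ZJ := Z ⊓ centralizer (J : Set G)
  have hZJA : A ≤ normalizer (ZJ : Set G) := h.inv_cent_inf (h.mem_inv hZm) hJ.1
  set W := ⁅ZJ, A⁆
  have hW0 : W ≠ ⊥ := fun e' => hJ0
    ((commutator_mono le_rfl (zpowers_le.2 hc₁)).trans e'.le)
  have hWA : A ≤ normalizer (W : Set G) := h.inv_comm hZJA le_rfl
  have hc₁J : c₁ ∉ J := fun hin => hJ0 (le_of_eq (commutator_eq_bot_iff_le_centralizer.2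
    (inf_le_right.trans (centralizer_le (zpowers_le.2 hin)))))
  have hout : ∀ c ∈ A, c ∉ J → ∃ L, Over p A θ c L ∧ Multi L ∧ W ≤ Cfsg.pCoreOf 2 L := by
    intro c hc hcJ
    have hc1 : c ≠ 1 := fun e' => hcJ (e' ▸ one_mem J)
    have hWc : W ≤ ⁅ZJ, zpowers c⁆ := by
      show ⁅ZJ, A⁆ ≤ _
      rw [← h.line_sup hJ hc hcJ, commutator_comm, sup_eq_iSup]
      refine commutator_iSup_le (fun b => ?_) fun b => ?_
      · cases b
        · exact (zpowers_le.2 hc).trans (h.inv_comm hZJA (zpowers_le.2 hc))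
        · exact hJ.1.trans (h.inv_comm hZJA (zpowers_le.2 hc))
      · cases b
        · rw [commutator_comm]; exact le_rfl
        · rw [commutator_comm]
          exact (commutator_eq_bot_iff_le_centralizer.2 inf_le_right).trans_le bot_le
    have hWZ : W ≤ ⁅Z, zpowers c⁆ := hWc.trans (commutator_mono inf_le_left le_rfl)
    by_cases hcM : θ c ≤ M₀
    · exact ⟨M₀, ⟨hc, hc1, ho₀.2.2.1, hcM⟩, hM₀m,
        hWZ.trans (h.good_Z hQ ⟨hc, hc1, ho₀.2.2.1, hcM⟩ hM₀m)⟩
    obtain ⟨L, ho⟩ := h.exists_over hc hc1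
    rcases h.cases_over ho with hm | hs
    · exact ⟨L, ho, hm, hWZ.trans (h.good_Z hQ ho hm)⟩
    · refine absurd (le_bot_iff.1 (hWZ.trans (le_of_eq ?_))) hW0
      rw [commutator_eq_bot_iff_le_centralizer, centralizer_zpowers]
      exact h.single_Z hQ ho₀ hM₀m ho hs hcM
  obtain ⟨M, hoM, hMm, hWM⟩ := hout c₁ hc₁ hc₁J
  obtain ⟨j, hj, hj1⟩ := exists_mem_ne_one (h.line_ne_bot hJ)
  obtain ⟨K, hK, hjK, hc₁K⟩ := h.exists_line_mem (hJ.1 hj) hc₁
  obtain ⟨d, hd, hd1, hdj, hdM⟩ := h.exists_bad hoM.2.2.1.1 hK hjK hj1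
  have hdJ : d ∉ J := fun hdJ => by
    have hl := h.span_line (hJ.1 hj) hj1 (hK.1 hd) hdj
    have e1 : zpowers j ⊔ zpowers d = J := eq_of_le_of_card_ge
      (sup_le (zpowers_le.2 hj) (zpowers_le.2 hdJ)) (by rw [h.line_card hJ, h.line_card hl])
    have e2 : zpowers j ⊔ zpowers d = K := eq_of_le_of_card_ge
      (sup_le (zpowers_le.2 hjK) (zpowers_le.2 hd)) (by rw [h.line_card hK, h.line_card hl])
    exact hc₁J ((e1.symm.trans e2).ge hc₁K)
  obtain ⟨L, ho, hm, hWL⟩ := hout d (hK.1 hd) hdJ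
  rw [h.eq_over hoM hMm ho hm Nat.prime_two hWM hWL hW0 hWA] at ho
  exact hdM ho.2.2.2

/-- A part in `θ(A)` of `O_r(M)` centralizes the invariant `q`-members, `q ≠ r` in `π(F(M))`. -/
theorem cent_prime_part {e : G} {M : Subgroup G} (ho : Over p A θ e M) (hMm : Multi M)
    {r : ℕ} (hr : r.Prime) {S : Subgroup G} (hSD : S ≤ Cfsg.signalizerInf A θ)
    (hS : S ≤ Cfsg.pCoreOf r M) {q : ℕ} (hq : q.Prime) (hqr : q ≠ r)
    (hq0 : Cfsg.pCoreOf q M ≠ ⊥) {Yq : Subgroup G} (hY : Yq ∈ Cfsg.signalizerFamily p A θ)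
    (hYq : IsPGroup q Yq) (hYD : Cfsg.signalizerInf A θ ≤ normalizer (Yq : Set G))
    (hle : Cfsg.pCoreOf q M ≤ Yq) : S ≤ centralizer (Yq : Set G) := by
  haveI := Fact.mk hq
  refine CfsgLib.Comp.le_centralizer_of_centralizes_fixed (p := q) hYq (core_pgroup q M)
    (coprime_card_pgroup hr hq hqr.symm ((core_pgroup r M).to_le hS)) (hle.trans le_normalizer)
    (hSD.trans hYD) (hS.trans (core_commute hr hq hqr.symm M)) ?_
  rw [le_centralizer_iff, ← commutator_eq_bot_iff_le_centralizer, eq_bot_iff,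
    ← pgroup_disjoint hq hr hqr hYq (core_pgroup r M)]
  refine le_inf ((commutator_mono inf_le_left le_rfl).trans
    (commutator_le_of_le_normalizer (hSD.trans hYD))) ?_
  have hCM : Yq ⊓ centralizer (Cfsg.pCoreOf q M : Set G) ≤ M :=
    h.le_of_part ho hMm hq le_rfl hq0 (core_inv (h.mem_inv ho.2.2.1.1))
      (family_mono hY inf_le_left (CfsgLib.Comp.le_normalizer_inf (h.mem_inv hY)
        (CfsgLib.Comp.le_normalizer_centralizer (core_inv (h.mem_inv ho.2.2.1.1)))))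
      (inf_le_right.trans (centralizer_le_normalizer _))
  refine (commutator_mono hCM hS).trans ?_
  rw [commutator_comm]
  exact commutator_le_of_le_normalizer (core_norm r M)

/-- When every member has two primes, `θ(A) ∩ O_2(M) ≠ 1`. -/
theorem exists_two_part (hall : ∀ a L, Over p A θ a L → Multi L) {e : G} {M : Subgroup G}
    (ho : Over p A θ e M) : Cfsg.signalizerInf A θ ⊓ Cfsg.pCoreOf 2 M ≠ ⊥ := by
  intro hS
  have hMm := hall e M ho
  obtain ⟨he, he1, hM, heM⟩ := id ho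
  obtain ⟨K, hK, hU0⟩ := h.exists_piece (R := ⊥) (h.core_mem hM.1 2) he he1
    fun hb => h.two_moved ho (le_bot_iff.1 hb)
  set X := Cfsg.pCoreOf 2 M ⊓ centralizer (K : Set G)
  have hXA : A ≤ normalizer (X : Set G) := h.inv_cent_inf (h.mem_inv (h.core_mem hM.1 2)) hK.1
  have hUX : ⁅X, zpowers e⁆ ≤ X := commutator_le_of_le_normalizer ((zpowers_le.2 he).trans hXA)
  have hok : AbsOK 2 A X := Or.inr (Or.inr (le_bot_iff.1 (le_trans (le_inf ?_ ?_) hS.le)))
  · obtain ⟨y, hy, hy1, hyM⟩ := h.exists_bad' hM.1 hK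
    obtain ⟨L, hoy⟩ := h.exists_over (hK.1 hy) hy1
    have hUL : ⁅X, zpowers e⁆ ≤ Cfsg.pCoreOf 2 L := h.absorbed_comm Nat.prime_two hM.1 he he1 heM
      hok inf_le_left hXA L hoy.2.2.1.1
      ((hUX.trans (h.piece_le_theta (h.core_mem hM.1 2) hK.1 hy hy1)).trans hoy.2.2.2)
    rw [h.eq_over ho hMm hoy (hall y L hoy) Nat.prime_two (hUX.trans inf_le_left) hUL
      (fun e' => hU0 e'.le) (h.inv_comm hXA (zpowers_le.2 he))] at hoy
    exact hyM hoy.2.2.2
  · exact (inf_le_inf_right _ (inf_le_left.trans (core_le 2 M))).trans (h.piece_le hM.1 le_rfl)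
  · exact inf_le_left.trans inf_le_left

/-- (i): the invariant `q`-members lie in `M`, `q` odd in `π(F(M))`. -/
theorem odd_members_le {e : G} {M : Subgroup G} (ho : Over p A θ e M) (hMm : Multi M)
    (hS : Cfsg.signalizerInf A θ ⊓ Cfsg.pCoreOf 2 M ≠ ⊥) {q : ℕ} (hq : q.Prime) (hq2 : q ≠ 2)
    (hq0 : Cfsg.pCoreOf q M ≠ ⊥) {X : Subgroup G} (hX : X ∈ Cfsg.signalizerFamily p A θ)
    (hXq : IsPGroup q X) (hXD : Cfsg.signalizerInf A θ ≤ normalizer (X : Set G)) : X ≤ M := by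
  obtain ⟨Yq, hY, hYq, hYD, hYall, -⟩ := h.exists_prime_member hq
  have hc := h.cent_prime_part ho hMm Nat.prime_two inf_le_left inf_le_right hq hq2 hq0 hY hYq hYD
    (hYall _ (h.core_mem ho.2.2.1.1 q) (core_pgroup q M)
      (h.theta_norm_core ho.1 ho.2.1 ho.2.2.2 q))
  refine h.le_of_part ho hMm Nat.prime_two inf_le_right hS (h.A_norm_of_le_D inf_le_left) hX ?_
  exact ((hYall X hX hXq hXD).trans (le_centralizer_iff.1 hc)).trans (centralizer_le_normalizer _)

theorem eq_of_fit_le {a : G} {L : Subgroup G} (ho : Over p A θ a L) (hLm : Multi L) {M : Subgroup G}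
    (hM : MaxMem p A θ M) (hF : Fit L ≤ M) : L = M :=
  hM.2 L ho.2.2.1.1 (h.le_of_partIn ho.2.2.1 hLm ho.1 ho.2.1 ho.2.2.2 Nat.prime_two
    (h.core_two_ne_bot ho) le_rfl hM.1 (partIn_of_fit Nat.prime_two hF))

/-- (ii): two members lacking the same prime of `θ` are equal. -/
theorem eq_of_absent {a a' : G} {L L' : Subgroup G} (ho : Over p A θ a L) (hLm : Multi L)
    (ho' : Over p A θ a' L') (hLm' : Multi L') {r : ℕ} (hr : r.Prime) (hr0 : Cfsg.pCoreOf r L = ⊥)
    (hr0' : Cfsg.pCoreOf r L' = ⊥) {X : Subgroup G} (hX : X ∈ Cfsg.signalizerFamily p A θ)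
    (hXr : IsPGroup r X) (hX0 : X ≠ ⊥) : L = L' := by
  obtain ⟨a₀, ha₀, ha₀1, hrd⟩ := h.exists_prime_dvd_theta hr hX hXr hX0
  obtain ⟨Ys, hYs, -, -, hall⟩ := h.exists_sigma_member {v | v ≠ r} hr (by simp) ha₀ ha₀1 hrd
  have key : ∀ {a : G} {L : Subgroup G}, Over p A θ a L → Cfsg.pCoreOf r L = ⊥ → Fit L ≤ Ys := by
    intro a L ho hr0
    refine iSup_le fun w => ?_
    by_cases hw : (w : ℕ) = r
    · rw [hw, hr0]; exact bot_le
    · exact hall _ (h.core_mem ho.2.2.1.1 w)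
        (piGroup_of_pgroup w.2 (σ := {v | v ≠ r}) hw (core_pgroup _ L))
        (h.theta_norm_core ho.1 ho.2.1 ho.2.2.2 w)
  have h1 : Ys ≤ L := h.le_of_partIn ho.2.2.1 hLm ho.1 ho.2.1 ho.2.2.2 Nat.prime_two
    (h.core_two_ne_bot ho) le_rfl hYs (partIn_of_fit Nat.prime_two (key ho hr0))
  exact (h.eq_of_fit_le ho' hLm' ho.2.2.1 ((key ho' hr0').trans h1)).symm

/-- The minimal counterexample does not exist. -/
theorem absurd : False := by
  haveI : Fact (Nat.Prime 2) := ⟨Nat.prime_two⟩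
  obtain ⟨Q, hQ⟩ := h.exists_top
  set Z := OZ 2 Q with hZdef
  obtain ⟨z, hzZ, hz1⟩ := exists_mem_ne_one (oz_ne_bot Nat.prime_two hQ.2.1 (h.top_ne_bot hQ))
  have hzQ : z ∈ centralizer (Q : Set G) := oz_le_centralizer 2 Q hzZ
  by_cases hcentral : ∀ a L, Over p A θ a L → z ∈ Cfsg.pCoreOf 2 L
  · -- every core contains `z`
    let 𝓛 := {L : Subgroup G // ∃ a, Over p A θ a L}
    set I := ⨅ L : 𝓛, Cfsg.pCoreOf 2 (L : Subgroup G)
    have hzI : z ∈ I := mem_iInf.2 fun L => hcentral _ _ L.2.choose_spec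
    obtain ⟨a₀, ha₀, ha₀1⟩ := exists_mem_ne_one h.A_ne_bot
    obtain ⟨L₀, ho₀⟩ := h.exists_over ha₀ ha₀1
    have hIm : I ∈ Cfsg.signalizerFamily p A θ := family_mono (h.core_mem ho₀.2.2.1.1 2)
      (iInf_le (fun L : 𝓛 => Cfsg.pCoreOf 2 (L : Subgroup G)) ⟨L₀, a₀, ho₀⟩)
      (le_normalizer_iInf _ fun L => core_inv (h.mem_inv L.2.choose_spec.2.2.1.1))
    refine h.no_normal hIm (fun e => hz1 (by rw [e] at hzI; exact mem_bot.1 hzI)) fun B hB => ?_
    set Δ := ⨅ L : {L : 𝓛 // ∃ a ∈ B, a ≠ 1 ∧ θ a ≤ (L : Subgroup G)},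
      Cfsg.pCoreOf 2 ((L : 𝓛) : Subgroup G)
    have hΔn : Cfsg.signalizerInf B θ ≤ normalizer (Δ : Set G) := le_normalizer_iInf _ fun L => by
      obtain ⟨a, ha, ha1, haL⟩ := L.2
      exact ((signalizerInf_le ha ha1).trans haL).trans (core_norm 2 _)
    have hΔD : Cfsg.signalizerInf A θ ≤ normalizer (Δ : Set G) := le_normalizer_iInf _ fun L => by
      obtain ⟨a, ha, ha1, haL⟩ := L.2
      exact h.theta_norm_core (hB.1 ha) ha1 haL 2
    have hΔle : ∀ (c : G) L, c ∈ B → Over p A θ c L → Δ ≤ Cfsg.pCoreOf 2 L := fun c L hc ho =>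
      iInf_le (fun L : {L : 𝓛 // ∃ a ∈ B, a ≠ 1 ∧ θ a ≤ (L : Subgroup G)} =>
        Cfsg.pCoreOf 2 ((L : 𝓛) : Subgroup G)) ⟨⟨L, c, ho⟩, c, hc, ho.2.1, ho.2.2.2⟩
    obtain ⟨c₀, hc₀, hc₀1⟩ := exists_mem_ne_one (h.line_ne_bot hB)
    obtain ⟨Lc, hoc⟩ := h.exists_over (hB.1 hc₀) hc₀1
    have hΔm : Δ ∈ Cfsg.signalizerFamily p A θ := family_mono (h.core_mem hoc.2.2.1.1 2)
      (hΔle c₀ Lc hc₀ hoc) (le_normalizer_iInf _ fun L => core_inv (h.mem_inv L.1.2.choose_spec.2.2.1.1))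
    have hΔs : IsPGroup 2 Δ := (core_pgroup 2 Lc).to_le (hΔle c₀ Lc hc₀ hoc)
    have hΔabs : Absorbed p A θ 2 Δ := fun H hH hΔH => by
      refine h.core_of_cover Nat.prime_two hH hΔH hΔs
        (fun d : {d : G // d ∈ B ∧ d ≠ 1} => zpowers (d : G)) (h.gen_points hB) fun d => ?_
      obtain ⟨L', ho'⟩ := h.exists_over (hB.1 d.2.1) d.2.2
      refine ⟨Cfsg.pCoreOf 2 L', core_pgroup 2 L', hΔle d L' d.2.1 ho', ?_⟩
      rw [centralizer_zpowers]
      exact ((h.point_le_theta hH (hB.1 d.2.1) d.2.2).trans ho'.2.2.2).trans (core_norm 2 L')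
    suffices he : Δ = I from he ▸ hΔn
    refine le_antisymm (le_iInf fun L => ?_) (le_iInf fun L =>
      iInf_le (fun L : 𝓛 => Cfsg.pCoreOf 2 (L : Subgroup G)) L.1)
    obtain ⟨a, ho⟩ := L.2
    rcases h.cases_over ho with hm | hs
    · refine hΔabs _ ho.2.2.1.1 ((hQ.2.2.2 Δ hΔm hΔs hΔD).trans ?_)
      refine h.le_of_part ho hm Nat.prime_two (inf_le_right : Z ⊓ Cfsg.pCoreOf 2 (L : Subgroup G) ≤ _)
        (fun e => hz1 (mem_bot.1 (e ▸ (⟨hzZ, hcentral _ _ ho⟩ : z ∈ Z ⊓ Cfsg.pCoreOf 2 (L : Subgroup G)))))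
        (CfsgLib.Comp.le_normalizer_inf (h.mem_inv (h.oz_mem hQ)) (core_inv (h.mem_inv ho.2.2.1.1)))
        hQ.1 ?_
      exact (le_centralizer_iff.1 ((inf_le_left : Z ⊓ Cfsg.pCoreOf 2 (L : Subgroup G) ≤ Z).trans
        (oz_le_centralizer 2 Q))).trans (centralizer_le_normalizer _)
    · exact h.pushing Nat.prime_two hΔm hΔs hΔD hΔabs ho.2.2.1 hs.2
  -- some member with two primes does not contain `z` in its core
  push Not at hcentral
  obtain ⟨e₁, M₁, ho₁, hzM₁⟩ := hcentral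
  have hnc : ∀ a L, Over p A θ a L → z ∉ Cfsg.pCoreOf 2 L → Multi L := fun a L ho hz =>
    (h.cases_over ho).resolve_right fun hs =>
      hz (((oz_le 2 _) : OZ 2 (Cfsg.pCoreOf 2 L) ≤ _) (h.zle_single hQ ho hs hzZ))
  have hM₁m := hnc e₁ M₁ ho₁ hzM₁
  have hZA : Z ≤ centralizer (A : Set G) := h.oz_cent_A hQ ho₁ hM₁m
  have hzA : z ∈ centralizer (A : Set G) := hZA hzZ
  have hZD : Z ≤ Cfsg.signalizerInf A θ :=
    le_trans (le_inf (h.zle_multi hQ ho₁ hM₁m) hZA) (h.piece_le ho₁.2.2.1.1 le_rfl)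
  have hzAc : A ≤ centralizer ((zpowers z : Subgroup G) : Set G) :=
    le_centralizer_iff.1 (zpowers_le.2 hzA)
  have hzL : ∀ a L, Over p A θ a L → z ∈ L := fun a L ho => h.D_le_over ho (hZD hzZ)
  have hzcore : ∀ a L, Over p A θ a L → zpowers z ≤ centralizer (Cfsg.pCoreOf 2 L : Set G) :=
    fun a L ho => zpowers_le.2 (centralizer_le (h.core_le_top hQ ho) hzQ)
  have hmoved : ∀ a L, Over p A θ a L → z ∉ Cfsg.pCoreOf 2 L →
      ∃ r : ℕ, r.Prime ∧ r ≠ 2 ∧ ⁅Cfsg.pCoreOf r L, zpowers z⁆ ≠ ⊥ := by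
    intro a L ho hz
    by_contra hcon
    push Not at hcon
    refine hz (pgroup_fit_le Nat.prime_two (le_fit_of_centralizes ho.2.2.1.1.1
      (zpowers_le.2 (hzL a L ho)) fun q hq => ?_)
      (hQ.2.1.to_le (zpowers_le.2 (oz_le 2 Q hzZ))) (mem_zpowers z))
    by_cases hq2 : q = 2
    · subst hq2; exact hzcore a L ho
    · exact le_centralizer_iff.1 (commutator_eq_bot_iff_le_centralizer.1 (hcon q hq hq2))
  by_cases hallm : ∀ a L, Over p A θ a L → Multi L
  swap
  · -- some member over a point is a single `2`-member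
    push Not at hallm
    obtain ⟨d, Ld, hod, hLd⟩ := hallm
    have hLds : Single 2 Ld := (h.cases_over hod).resolve_left hLd
    have hzLd : z ∈ Cfsg.pCoreOf 2 Ld := oz_le 2 _ (h.zle_single hQ hod hLds hzZ)
    obtain ⟨r, hr, hr2, hr0⟩ := hmoved e₁ M₁ ho₁ hzM₁
    haveI := Fact.mk hr
    set R := Cfsg.pCoreOf r M₁
    have hRm : R ∈ Cfsg.signalizerFamily p A θ := h.core_mem ho₁.2.2.1.1 r
    -- `θ(A)` meets `R` trivially
    have hDR : Cfsg.signalizerInf A θ ⊓ R = ⊥ := by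
      obtain ⟨Y, hY, hYs, hYD, hYall, -⟩ := h.exists_prime_member Nat.prime_two
      have hc := h.cent_prime_part ho₁ hM₁m hr (inf_le_left :
          Cfsg.signalizerInf A θ ⊓ R ≤ _) inf_le_right
        Nat.prime_two (Ne.symm hr2) (h.core_two_ne_bot ho₁) hY hYs hYD
        (hYall _ (h.core_mem ho₁.2.2.1.1 2) (core_pgroup 2 M₁)
          (h.theta_norm_core ho₁.1 ho₁.2.1 ho₁.2.2.2 2))
      have hle : Cfsg.signalizerInf A θ ⊓ R ≤ Cfsg.pCoreOf 2 Ld := by
        refine le_trans (le_inf (inf_le_left.trans (h.D_le_over hod)) ?_)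
          ((fit_self hod.2.2.1.1.1).trans (fit_single Nat.prime_two hLds).le)
        rw [fit_single Nat.prime_two hLds]
        exact hc.trans (centralizer_le (hYall _ (h.core_mem hod.2.2.1.1 2) (core_pgroup 2 Ld)
          (h.theta_norm_core hod.1 hod.2.1 hod.2.2.2 2)))
      exact le_bot_iff.1 ((le_inf hle inf_le_right).trans
        (pgroup_disjoint Nat.prime_two hr (Ne.symm hr2) (core_pgroup 2 Ld) (core_pgroup r M₁)).le)
    obtain ⟨J, hJ, hW0⟩ : ∃ J : Subgroup G, Line p A J ∧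
        ⁅R ⊓ centralizer (J : Set G), zpowers z⁆ ≠ ⊥ := by
      by_contra hcon
      push Not at hcon
      refine hr0 (le_bot_iff.1 ?_)
      show ⁅R, zpowers z⁆ ≤ ⊥
      rw [h.mem_gen hRm]
      refine commutator_iSup_le (fun B => ?_) fun B => (hcon B B.2).le
      exact (le_centralizer_iff.1 bot_le).trans (centralizer_le_normalizer ⊥)
    set X := R ⊓ centralizer (J : Set G)
    set W := ⁅X, zpowers z⁆
    have hXA : A ≤ normalizer (X : Set G) := h.inv_cent_inf (h.mem_inv hRm) hJ.1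
    have hzX : z ∈ normalizer (X : Set G) :=
      CfsgLib.Comp.le_normalizer_inf ((h.zle_multi hQ ho₁ hM₁m).trans (core_norm r M₁))
        ((hZA.trans (centralizer_le hJ.1)).trans le_normalizer) hzZ
    have hWX : W ≤ X := commutator_le_of_le_normalizer (zpowers_le.2 hzX)
    have hWA : A ≤ normalizer (W : Set G) :=
      norm_commutator hXA (hzAc.trans (centralizer_le_normalizer _))
    have hXm : X ∈ Cfsg.signalizerFamily p A θ := family_mono hRm inf_le_left hXA
    have hWm : W ∈ Cfsg.signalizerFamily p A θ := family_mono hXm hWX hWA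
    have hWr : IsPGroup r W := (core_pgroup r M₁).to_le (hWX.trans inf_le_left)
    have hzW : zpowers z ≤ normalizer (W : Set G) :=
      norm_commutator (zpowers_le.2 hzX) le_normalizer
    have hXzcop : (Nat.card (zpowers z)).Coprime (Nat.card X) :=
      IsPGroup.coprime_card_of_ne 2 r (Ne.symm hr2) _ _ (hQ.2.1.to_le (zpowers_le.2 (oz_le 2 Q hzZ)))
        ((core_pgroup r M₁).to_le inf_le_left)
    have hWeq : ⁅W, zpowers z⁆ = W :=
      CfsgLib.Coprime.commutator_commutator_eq (zpowers_le.2 hzX) hXzcop (Or.inr hXm.1)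
    -- `d` is off `J`, fixed-point-free on `W`
    have hdJ : d ∉ J := fun hdJ => hW0 (le_bot_iff.1 (le_trans (le_inf
      ((commutator_mono ((h.piece_le_theta hRm hJ.1 hdJ hod.2.1).trans hod.2.2.2)
        (zpowers_le.2 hzLd)).trans (by
          rw [commutator_comm]; exact commutator_le_of_le_normalizer (core_norm 2 Ld)))
      hWX) (pgroup_disjoint Nat.prime_two hr (Ne.symm hr2) (core_pgroup 2 Ld)
        ((core_pgroup r M₁).to_le inf_le_left)).le))
    have hWd : W ⊓ centralizer ({d} : Set G) = ⊥ := by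
      refine le_bot_iff.1 (le_trans ?_ hDR.le)
      refine le_inf ?_ (inf_le_left.trans (hWX.trans inf_le_left))
      refine le_trans ?_ (h.piece_le hWm le_rfl)
      refine le_inf inf_le_left ?_
      rw [← h.line_sup hJ hod.1 hdJ, CfsgLib.PLocal.centralizer_sup_eq, centralizer_zpowers]
      exact le_inf (inf_le_left.trans (hWX.trans inf_le_right)) inf_le_right
    obtain ⟨x, hxJ, hx1, hxM⟩ := h.exists_bad' ho₁.2.2.1.1 hJ
    have hxA := hJ.1 hxJ
    obtain ⟨L, hox⟩ := h.exists_over hxA hx1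
    have hWL : W ≤ L := (hWX.trans (h.piece_le_theta hRm hJ.1 hxJ hx1)).trans hox.2.2.2
    have hzcL : z ∉ Cfsg.pCoreOf 2 L := fun hz => hW0 (le_bot_iff.1 (le_trans (le_inf
      ((commutator_mono ((h.piece_le_theta hRm hJ.1 hxJ hx1).trans hox.2.2.2) (zpowers_le.2 hz)).trans
        (by rw [commutator_comm]; exact commutator_le_of_le_normalizer (core_norm 2 L)))
      hWX) (pgroup_disjoint Nat.prime_two hr (Ne.symm hr2) (core_pgroup 2 L)
        ((core_pgroup r M₁).to_le inf_le_left)).le))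
    have hLm := hnc x L hox hzcL
    have hWcore : W ≤ Cfsg.pCoreOf r L := by
      refine le_core_test hr hox.2.2.1.1.1 hWL hWr fun v hv hvr P hPL hPn hVP hPv => ?_
      haveI := Fact.mk hv
      set V := Cfsg.pCoreOf r L
      have hLN : L ≤ normalizer (V : Set G) := core_norm r L
      have hzL' : z ∈ L := hzL x L hox
      have hzN : zpowers z ≤ normalizer (V : Set G) := zpowers_le.2 (hLN hzL')
      have hWN : W ≤ normalizer (V : Set G) := hWL.trans hLN
      have hPN : P ≤ normalizer (V : Set G) := hPL.trans hLN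
      by_cases hv2 : v = 2
      · subst hv2
        have hzP := h.central_cent_section Nat.prime_two hQ.1 hQ.2.1 hQ.2.2.1 hzQ hox.2.2.1.1
          (h.D_le_over hox) hzL' hLN hPL hPn hVP hPv
        rw [← hWeq, qm_commutator hWN hzN]
        exact comm_cent (qm_le_normalizer hPN hWN ((hWL.trans le_normalizer).trans hPn)) hzP
      have hdA := hod.1
      have hAV : A ≤ normalizer (V : Set G) := core_inv (h.mem_inv hox.2.2.1.1)
      have hdN : zpowers d ≤ normalizer (V : Set G) := zpowers_le.2 (hAV hdA)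
      have hPA : A ≤ normalizer (P : Set G) := (h.mem_inv hox.2.2.1.1).trans hPn
      have hPm : P ∈ Cfsg.signalizerFamily p A θ := family_mono hox.2.2.1.1 hPL hPA
      have hzP : zpowers z ≤ normalizer (P : Set G) :=
        ((zpowers_le.2 hzL').trans le_normalizer).trans hPn
      have hz2 : IsPGroup 2 (zpowers z) := hQ.2.1.to_le (zpowers_le.2 (oz_le 2 Q hzZ))
      have hzqd : orderOf (qx V z (hLN hzL')) ∣ Nat.card (zpowers z) :=
        ((orderOf_map_dvd _ _).trans (by rw [Subgroup.orderOf_mk])).trans (Nat.card_zpowers z).symm.dvd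
      rw [← hWeq, qm_commutator hWN hzN, qm_zpowers (hLN hzL')]
      refine fix_good hp.out (e := qx V d (hAV hdA)) (z := qx V z (hLN hzL')) (X := qm V W)
        (V := qm V P) ?_ ?_ ?_ ?_
        (isSolvable_qm hWN hWm.1) (isSolvable_qm hPN hPm.1)
        (qm_le_normalizer hWN hdN (zpowers_le.2 (hWA hdA)) (qx_mem _ (mem_zpowers d)))
        (qm_le_normalizer hPN hdN (zpowers_le.2 (hPA hdA)) (qx_mem _ (mem_zpowers d)))
        (qm_le_normalizer hPN hWN ((hWL.trans le_normalizer).trans hPn))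
        (qm_le_normalizer hWN hzN hzW (qx_mem _ (mem_zpowers z)))
        (qm_le_normalizer hPN hzN hzP (qx_mem _ (mem_zpowers z)))
        (IsPGroup.coprime_card_of_ne r v hvr.symm _ _ (isPGroup_qm hWr) hPv)
        ((h.coprime_p hPm).coprime_dvd_left (card_qm_dvd P)) ?_ ?_
      · show (QuotientGroup.mk' (V.subgroupOf (normalizer (V : Set G))) ⟨d, hAV hdA⟩) ^ p = 1
        rw [← map_pow, show (⟨d, hAV hdA⟩ : ↥(normalizer (V : Set G))) ^ p = 1 from
          Subtype.ext (by simpa using h.pow_point hdA), map_one]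
      · show QuotientGroup.mk' _ _ * QuotientGroup.mk' _ _ =
          QuotientGroup.mk' _ _ * QuotientGroup.mk' _ _
        rw [← map_mul, ← map_mul]
        exact congrArg _ (Subtype.ext (mem_centralizer_iff.1 hzA d hdA).symm)
      · exact ((h.coprime_p (h.oz_mem hQ)).coprime_dvd_left
          (card_dvd_of_le (zpowers_le.2 hzZ))).coprime_dvd_left hzqd
      · exact ((hXzcop.coprime_dvd_right (card_dvd_of_le hWX)).coprime_dvd_left hzqd).coprime_dvd_right
          (card_qm_dvd W)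
      · rw [← centralizer_zpowers (qx V d (hAV hdA)), ← qm_zpowers (hAV hdA),
          ← qm_fix hWN hdN (zpowers_le.2 (hWA hdA)) (h.cop_sub hWm (zpowers_le.2 hdA))
            (h.solvable_sub (zpowers_le.2 hdA)), centralizer_zpowers, hWd, qm_eq_bot bot_le]
        exact bot_le
      · rw [← centralizer_zpowers (qx V d (hAV hdA)), ← qm_zpowers (hAV hdA),
          ← qm_fix hPN hdN (zpowers_le.2 (hPA hdA)) (h.cop_sub hPm (zpowers_le.2 hdA))
            (h.solvable_sub (zpowers_le.2 hdA)), centralizer_zpowers]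
        intro c hc
        have hPd : P ⊓ centralizer ({d} : Set G) ≤ Ld :=
          (h.point_le_theta hPm hdA hod.2.1).trans hod.2.2.2
        have h1 : ⁅qm V (P ⊓ centralizer ({d} : Set G)), qm V (zpowers z)⁆ = ⊥ := by
          rw [← qm_commutator (inf_le_left.trans hPN) hzN]
          refine le_bot_iff.1 ((qm_mono (K := P ⊓ Cfsg.pCoreOf 2 Ld) (le_inf ?_ ?_)).trans
            (qm_eq_bot_of_pgroup Nat.prime_two hv hv2 inf_le_left
              ((core_pgroup 2 Ld).to_le inf_le_right) hPv).le)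
          · exact (commutator_mono inf_le_left le_rfl).trans (commutator_le_of_le_normalizer hzP)
          · rw [commutator_comm]
            exact (commutator_mono (zpowers_le.2 hzLd) le_rfl).trans
              (commutator_le_of_le_normalizer (hPd.trans (core_norm 2 Ld)))
        have h2 : ⁅c, qx V z (hLN hzL')⁆ = 1 := mem_bot.1
          (h1.le (commutator_mem_commutator hc (qx_mem _ (mem_zpowers z))))
        rw [h2]
        exact one_mem _
    rw [h.eq_over ho₁ hM₁m hox hLm hr (hWX.trans inf_le_left) hWcore hW0 hWA] at hox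
    exact hxM hox.2.2.2
  -- every member over a point has two primes
  set D := Cfsg.signalizerInf A θ
  have hS : ∀ a L, Over p A θ a L → D ⊓ Cfsg.pCoreOf 2 L ≠ ⊥ :=
    fun a L ho => h.exists_two_part hallm ho
  have hSA : ∀ L : Subgroup G,
      A ≤ centralizer ((D ⊓ Cfsg.pCoreOf 2 L : Subgroup G) : Set G) := fun L =>
    le_centralizer_iff.1 (inf_le_left.trans h.D_cent)
  have hSL : ∀ {a : G} {L : Subgroup G}, Over p A θ a L → ∀ M : Subgroup G,
      D ⊓ Cfsg.pCoreOf 2 M ≤ L := fun ho M => inf_le_left.trans (h.D_le_over ho)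
  -- a component of a core moved by `S`
  have hcomp : ∀ {a b : G} {L N : Subgroup G}, Over p A θ a L → Over p A θ b N → ∀ q : ℕ,
      ⁅Cfsg.pCoreOf q L, D ⊓ Cfsg.pCoreOf 2 N⁆ ≠ ⊥ → ∃ J : Subgroup G, Line p A J ∧
        ⁅Cfsg.pCoreOf q L ⊓ centralizer (J : Set G), D ⊓ Cfsg.pCoreOf 2 N⁆ ≠ ⊥ := by
    intro a b L N ho ho' q hne
    by_contra hcon
    push Not at hcon
    refine hne (le_bot_iff.1 ?_)
    rw [h.mem_gen (h.core_mem ho.2.2.1.1 q)]
    refine commutator_iSup_le (fun B => ?_) fun B => (hcon B B.2).le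
    exact (le_centralizer_iff.1 bot_le).trans (centralizer_le_normalizer ⊥)
  -- odd cores moved by `z` lie in every member
  have hL1 : ∀ a M, Over p A θ a M → ∀ a' M', Over p A θ a' M' → ∀ q : ℕ, q.Prime → q ≠ 2 →
      ⁅Cfsg.pCoreOf q M', zpowers z⁆ ≠ ⊥ → Cfsg.pCoreOf q M' ≤ M := by
    intro a M ho a' M' ho' q hq hq2 hmv
    have hMm := hallm a M ho
    have hMm' := hallm a' M' ho'
    haveI := Fact.mk hq
    set R := Cfsg.pCoreOf q M'
    have hRm : R ∈ Cfsg.signalizerFamily p A θ := h.core_mem ho'.2.2.1.1 q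
    have hR0 : R ≠ ⊥ := fun e => hmv (by rw [e, commutator_bot_left])
    have hRD : D ≤ normalizer (R : Set G) := h.theta_norm_core ho'.1 ho'.2.1 ho'.2.2.2 q
    by_cases hqM : Cfsg.pCoreOf q M = ⊥
    swap
    · exact h.odd_members_le ho hMm (hS a M ho) hq hq2 hqM hRm (core_pgroup q M') hRD
    set S := D ⊓ Cfsg.pCoreOf 2 M
    by_cases hRS : ⁅R, S⁆ = ⊥
    · exact h.le_of_part ho hMm Nat.prime_two inf_le_right (hS a M ho)
        (h.A_norm_of_le_D inf_le_left) hRm
        ((commutator_eq_bot_iff_le_centralizer.1 hRS).trans (centralizer_le_normalizer _))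
    obtain ⟨J, hJ, hX0⟩ := hcomp ho' ho q hRS
    set X := R ⊓ centralizer (J : Set G)
    have hXA : A ≤ normalizer (X : Set G) := h.inv_cent_inf (h.mem_inv hRm) hJ.1
    have hSn : S ≤ normalizer (X : Set G) := CfsgLib.Comp.le_normalizer_inf (inf_le_left.trans hRD)
      (inf_le_left.trans (h.D_norm_cent hJ.1))
    have hWX : ⁅X, S⁆ ≤ X := commutator_le_of_le_normalizer hSn
    obtain ⟨y, hyJ, hy1, hyM'⟩ := h.exists_bad' ho'.2.2.1.1 hJ
    obtain ⟨My, hoy⟩ := h.exists_over (hJ.1 hyJ) hy1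
    have hMym := hallm y My hoy
    have hXy : X ≤ My := (h.piece_le_theta hRm hJ.1 hyJ hy1).trans hoy.2.2.2
    have hqy : Cfsg.pCoreOf q My ≠ ⊥ := by
      intro e
      refine hX0 ?_
      have heq := h.eq_of_absent ho hMm hoy hMym hq hqM e hRm (core_pgroup q M') hR0
      refine le_bot_iff.1 ((le_inf (hWX.trans inf_le_left) ?_).trans
        (pgroup_disjoint hq Nat.prime_two hq2 (core_pgroup q M') (core_pgroup 2 M)).le)
      refine (commutator_mono (heq ▸ hXy : X ≤ M) inf_le_right).trans ?_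
      rw [commutator_comm]
      exact commutator_le_of_le_normalizer (core_norm 2 M)
    have hRy : R ≤ My :=
      h.odd_members_le hoy hMym (hS y My hoy) hq hq2 hqy hRm (core_pgroup q M') hRD
    have hzR : zpowers z ≤ normalizer (R : Set G) :=
      (zpowers_le.2 (hzL a' M' ho')).trans (core_norm q M')
    have hW' : ⁅R, zpowers z⁆ ≤ R := commutator_le_of_le_normalizer hzR
    have hW'A : A ≤ normalizer ((⁅R, zpowers z⁆ : Subgroup G) : Set G) :=
      norm_commutator (h.mem_inv hRm) (hzAc.trans (centralizer_le_normalizer _))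
    have hPy : Cfsg.pCoreOf 2 My ≤ M' := h.le_of_part ho' hMm' hq hW' hmv hW'A
      (h.core_mem hoy.2.2.1.1 2) ((le_centralizer_iff.1 (comm_cent
        (hRy.trans (core_norm 2 My)) (hzcore y My hoy))).trans (centralizer_le_normalizer _))
    by_contra hgoal
    refine hyM' ?_
    rw [← h.eq_of_fit_le hoy hMym ho'.2.2.1 (iSup_le fun w => ?_)]
    · exact hoy.2.2.2
    obtain ⟨w, hw⟩ := w
    show Cfsg.pCoreOf w My ≤ M'
    by_cases hw2 : w = 2
    · subst hw2; exact hPy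
    by_cases hwy : Cfsg.pCoreOf w My = ⊥
    · rw [hwy]; exact bot_le
    have hCm := h.core_mem hoy.2.2.1.1 w
    have hCD := h.theta_norm_core hoy.1 hoy.2.1 hoy.2.2.2 w
    by_cases hw' : Cfsg.pCoreOf w M' = ⊥
    swap
    · exact h.odd_members_le ho' hMm' (hS a' M' ho') hw hw2 hw' hCm (core_pgroup w My) hCD
    have hwM : Cfsg.pCoreOf w M ≠ ⊥ := fun e => hgoal (by
      rw [h.eq_of_absent ho hMm ho' hMm' hw e hw' hCm (core_pgroup w My) hwy]
      exact core_le q M')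
    obtain ⟨Yw, hYw, hYws, hYwD, hYwall, -⟩ := h.exists_prime_member hw
    have hSY := h.cent_prime_part ho hMm Nat.prime_two (inf_le_left : S ≤ D) inf_le_right hw hw2 hwM
      hYw hYws hYwD (hYwall _ (h.core_mem ho.2.2.1.1 w) (core_pgroup w M)
        (h.theta_norm_core ho.1 ho.2.1 ho.2.2.2 w))
    exact h.le_of_part ho' hMm' hq (hWX.trans inf_le_left) hX0
      (norm_commutator hXA ((hSA M).trans (centralizer_le_normalizer _))) hCm
      ((le_centralizer_iff.1 (comm_cent (hXy.trans (core_norm w My))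
        (hSY.trans (centralizer_le (hYwall _ hCm (core_pgroup w My) hCD))))).trans
        (centralizer_le_normalizer _))
  -- so no core contains `z`
  have hnone : ∀ a L, Over p A θ a L → z ∉ Cfsg.pCoreOf 2 L := by
    intro a L ho hz
    obtain ⟨q, hq, hq2, hmv⟩ := hmoved e₁ M₁ ho₁ hzM₁
    refine hmv (le_bot_iff.1 ((le_inf ?_ ?_).trans
      (pgroup_disjoint hq Nat.prime_two hq2 (core_pgroup q M₁) (core_pgroup 2 L)).le))
    · exact commutator_le_of_le_normalizer ((zpowers_le.2 (hzL e₁ M₁ ho₁)).trans (core_norm q M₁))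
    · refine (commutator_mono (hL1 a L ho e₁ M₁ ho₁ q hq hq2 hmv) (zpowers_le.2 hz)).trans ?_
      rw [commutator_comm]
      exact commutator_le_of_le_normalizer (core_norm 2 L)
  -- the `2`-cores lie in every member
  have hP : ∀ a M, Over p A θ a M → ∀ a' M', Over p A θ a' M' → Cfsg.pCoreOf 2 M ≤ M' := by
    intro a M ho a' M' ho'
    obtain ⟨q, hq, hq2, hmv⟩ := hmoved a' M' ho' (hnone a' M' ho')
    have hRM := hL1 a M ho a' M' ho' q hq hq2 hmv
    refine h.le_of_part ho' (hallm a' M' ho') hq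
      (commutator_le_of_le_normalizer ((zpowers_le.2 (hzL a' M' ho')).trans (core_norm q M'))) hmv
      (norm_commutator (core_inv (h.mem_inv ho'.2.2.1.1)) (hzAc.trans (centralizer_le_normalizer _)))
      (h.core_mem ho.2.2.1.1 2) ?_
    exact (le_centralizer_iff.1 (comm_cent (hRM.trans (core_norm 2 M)) (hzcore a M ho))).trans
      (centralizer_le_normalizer _)
  have heq : ∀ a M, Over p A θ a M → ∀ a' M', Over p A θ a' M' → M = M' := by
    intro a M ho a' M' ho'
    by_contra hne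
    have hMm := hallm a M ho
    have hMm' := hallm a' M' ho'
    refine hne (h.eq_of_fit_le ho hMm ho'.2.2.1 (iSup_le fun w => ?_))
    obtain ⟨w, hw⟩ := w
    show Cfsg.pCoreOf w M ≤ M'
    haveI := Fact.mk hw
    by_cases hw2 : w = 2
    · subst hw2; exact hP a M ho a' M' ho'
    by_cases hwM : Cfsg.pCoreOf w M = ⊥
    · rw [hwM]; exact bot_le
    set R := Cfsg.pCoreOf w M
    have hRm : R ∈ Cfsg.signalizerFamily p A θ := h.core_mem ho.2.2.1.1 w
    have hRD : D ≤ normalizer (R : Set G) := h.theta_norm_core ho.1 ho.2.1 ho.2.2.2 w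
    by_cases hw' : Cfsg.pCoreOf w M' = ⊥
    swap
    · exact h.odd_members_le ho' hMm' (hS a' M' ho') hw hw2 hw' hRm (core_pgroup w M) hRD
    set S := D ⊓ Cfsg.pCoreOf 2 M'
    by_cases hRS : ⁅R, S⁆ = ⊥
    · exact h.le_of_part ho' hMm' Nat.prime_two inf_le_right (hS a' M' ho')
        (h.A_norm_of_le_D inf_le_left) hRm
        ((commutator_eq_bot_iff_le_centralizer.1 hRS).trans (centralizer_le_normalizer _))
    obtain ⟨J, hJ, hX0⟩ := hcomp ho ho' w hRS
    set X := R ⊓ centralizer (J : Set G)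
    have hXA : A ≤ normalizer (X : Set G) := h.inv_cent_inf (h.mem_inv hRm) hJ.1
    have hSn : S ≤ normalizer (X : Set G) := CfsgLib.Comp.le_normalizer_inf (inf_le_left.trans hRD)
      (inf_le_left.trans (h.D_norm_cent hJ.1))
    have hWX : ⁅X, S⁆ ≤ X := commutator_le_of_le_normalizer hSn
    obtain ⟨y, hyJ, hy1, hyM⟩ := h.exists_bad' ho.2.2.1.1 hJ
    obtain ⟨My, hoy⟩ := h.exists_over (hJ.1 hyJ) hy1
    have hMym := hallm y My hoy
    have hXy : X ≤ My := (h.piece_le_theta hRm hJ.1 hyJ hy1).trans hoy.2.2.2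
    refine (hyM ?_).elim
    rw [← h.eq_of_fit_le hoy hMym ho.2.2.1 (iSup_le fun v => ?_)]
    · exact hoy.2.2.2
    obtain ⟨v, hv⟩ := v
    show Cfsg.pCoreOf v My ≤ M
    by_cases hv2 : v = 2
    · subst hv2; exact hP y My hoy a M ho
    by_cases hvy : Cfsg.pCoreOf v My = ⊥
    · rw [hvy]; exact bot_le
    have hCm := h.core_mem hoy.2.2.1.1 v
    have hCD := h.theta_norm_core hoy.1 hoy.2.1 hoy.2.2.2 v
    by_cases hvM : Cfsg.pCoreOf v M = ⊥
    swap
    · exact h.odd_members_le ho hMm (hS a M ho) hv hv2 hvM hCm (core_pgroup v My) hCD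
    have hv' : Cfsg.pCoreOf v M' ≠ ⊥ := fun e =>
      hne (h.eq_of_absent ho hMm ho' hMm' hv hvM e hCm (core_pgroup v My) hvy)
    obtain ⟨Yv, hYv, hYvs, hYvD, hYvall, -⟩ := h.exists_prime_member hv
    have hSY := h.cent_prime_part ho' hMm' Nat.prime_two (inf_le_left : S ≤ D) inf_le_right hv hv2
      hv' hYv hYvs hYvD (hYvall _ (h.core_mem ho'.2.2.1.1 v) (core_pgroup v M')
        (h.theta_norm_core ho'.1 ho'.2.1 ho'.2.2.2 v))
    exact h.le_of_part ho hMm hw (hWX.trans inf_le_left) hX0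
      (norm_commutator hXA ((hSA M').trans (centralizer_le_normalizer _))) hCm
      ((le_centralizer_iff.1 (comm_cent (hXy.trans (core_norm v My))
        (hSY.trans (centralizer_le (hYvall _ hCm (core_pgroup v My) hCD))))).trans
        (centralizer_le_normalizer _))
  refine h.not_all M₁ ho₁.2.2.1.1 fun b hb hb1 => ?_
  obtain ⟨L, hob⟩ := h.exists_over hb hb1
  rw [heq e₁ M₁ ho₁ b L hob]
  exact hob.2.2.2

end Min

end CfsgLib.Comp.SFT
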